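import Cfsg.Agent.StdL3.OuterFix

/-!
# The fixed points of the unitary automorphism of `PSL(3,4)`
-/

set_option autoImplicit false
set_option linter.constructorNameAsVariable false
set_option linter.unusedVariables false

namespace Cfsg.Agent.StdL3.OuterFixU

open Matrix
open Cfsg.Agent.ClassicalGeometry.AutPSL.Root
open Cfsg.Agent.ClassicalGeometry.AutPSL.Auto
open Cfsg.Agent.SporadicA.FieldFour
open Cfsg.Agent.ONType.Psl
open Cfsg.Agent.StdL3.OuterMat
open Cfsg.Agent.StdL3.OuterForm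
open Cfsg.Agent.StdL3.OuterCode
open Cfsg.Agent.StdL3.OuterClass
open Cfsg.Agent.StdL3.OuterFix
open scoped commutatorElement

/-- the unitary automorphism -/
noncomputable abbrev U : MulAut PSL3 := lift (fld phi * itr : MulAut SL3)

theorem U_pr (X : SL3) : U (pr X) = pr ((fld phi * itr : MulAut SL3) X) := rfl

theorem coe_u (X : SL3) : ((fld phi * itr : MulAut SL3) X).1 = (((X⁻¹ : SL3).1)ᵀ).map phi := rfl

theorem mem_fix_unitary {X : SL3} (h : X.1 * (barM true X.1)ᵀ = 1) : (pr X : PSL3) ∈ Fix U := by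
  rw [mem_Fix, U_pr]
  congr 1
  apply Subtype.ext
  rw [coe_u, inv_val_of h, transpose_transpose, barM_true]
  ext i j
  change (phi * phi) (X.1 i j) = X.1 i j
  rw [phi_phi]
  rfl

theorem exists_of_fix_unitary {l : PSL3} (hl : l ∈ Fix U) :
    ∃ X : SL3, pr X = l ∧ X.1 * (barM true X.1)ᵀ = 1 := by
  obtain ⟨X, rfl⟩ := pr_surjective l
  rw [mem_Fix, U_pr] at hl
  obtain ⟨c, hc⟩ := exists_smul_of_pr_eq hl
  have hXX : X.1 * (X⁻¹ : SL3).1 = 1 := by
    rw [← Matrix.SpecialLinearGroup.coe_mul, mul_inv_cancel, Matrix.SpecialLinearGroup.coe_one]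
  have h1 : X.1 * (barM true X.1)ᵀ = c • 1 := by
    have h2 : X.1 * (barM true X.1)ᵀ = (c • (((X⁻¹ : SL3).1)ᵀ).map phi) * (barM true X.1)ᵀ := by
      congr 1
    have h3 : (barM true X.1)ᵀ = (X.1ᵀ).map phi := by rw [barM_true, transpose_map]
    have h4 : (((X⁻¹ : SL3).1)ᵀ).map phi * (X.1ᵀ).map phi = (((X⁻¹ : SL3).1)ᵀ * X.1ᵀ).map phi :=
      (Matrix.map_mul (f := (phi : F4 →+* F4))).symm
    rw [h2, Matrix.smul_mul, h3, h4, ← transpose_mul, hXX, transpose_one]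
    congr 1
    ext i j
    rw [Matrix.map_apply, Matrix.one_apply]
    split_ifs <;> rfl
  have hc0 : c ≠ 0 := by
    rintro rfl
    rw [zero_smul] at hc
    exact val_ne_zero X hc
  have hc1 : c = 1 := by
    have h5 := congrFun (congrFun h1 0) 0
    rw [Matrix.mul_apply, Fin.sum_univ_three, Matrix.smul_apply, Matrix.one_apply_eq, smul_eq_mul,
      mul_one] at h5
    change X.1 0 0 * bar true (X.1 0 0) + X.1 0 1 * bar true (X.1 0 1) +
      X.1 0 2 * bar true (X.1 0 2) = c at h5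
    have key : ∀ x y z c : F4, c ≠ 0 → x * bar true x + y * bar true y + z * bar true z = c →
      c = 1 := by decide
    exact key _ _ _ _ hc0 h5
  rw [hc1, one_smul] at h1
  exact ⟨X, rfl, h1⟩

theorem unit_mat {Y : M} (h : mulM Y (starM true Y) = idM) :
    toMat Y * (barM true (toMat Y))ᵀ = 1 := by
  have := congrArg toMat h
  rw [toMat_mul, toMat_star, toMat_id] at this
  exact this

/-! ### The group of order nine -/

theorem det_eM (i j : Fin 3) : (toMat (eM i j)).det = 1 := by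
  rw [Matrix.det_fin_three]
  revert i j
  decide +kernel

/-- the matrices in `SL(3,4)` -/
def Es (i j : Fin 3) : SL3 := ⟨toMat (eM i j), det_eM i j⟩

/-- the elements of the group of order nine -/
def el (i j : Fin 3) : PSL3 := pr (Es i j)

theorem unitary_eM (i j : Fin 3) : mulM (eM i j) (starM true (eM i j)) = idM := by
  have h : ∀ i j : Fin 3, eqM (mulM (eM i j) (starM true (eM i j))) idM = true := by decide +kernel
  exact eqM_iff (h i j)

theorem el_mem (i j : Fin 3) : el i j ∈ Fix U := mem_fix_unitary (unit_mat (unitary_eM i j))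

theorem mul_eM (i j k l : Fin 3) :
    ∃ c, mulM (eM i j) (eM k l) = smM c (eM (i + k) (j + l)) := by
  have h : ∀ i j k l : Fin 3, any3 (fun c => eqM (mulM (eM i j) (eM k l))
      (smM c (eM (i + k) (j + l)))) = true := by decide +kernel
  obtain ⟨c, -, hc⟩ := any3_iff (h i j k l)
  exact ⟨c, eqM_iff hc⟩

theorem el_mul (i j k l : Fin 3) : el i j * el k l = el (i + k) (j + l) := by
  obtain ⟨c, hc⟩ := mul_eM i j k l
  have h1 := congrArg toMat hc
  rw [toMat_mul, toMat_smM] at h1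
  change pr (Es i j) * pr (Es k l) = pr (Es (i + k) (j + l))
  rw [← map_mul]
  exact (pr_eq_of_smul (c := c) h1).symm

theorem el_zero : el 0 0 = 1 := by
  change pr (Es 0 0) = 1
  rw [← map_one pr]
  congr 1
  apply Subtype.ext
  exact toMat_id

theorem el_inj {i j k l : Fin 3} (h : el i j = el k l) : i = k ∧ j = l := by
  obtain ⟨c, hc⟩ := exists_smul_of_pr_eq h.symm
  have h1 : eM i j = smM c (eM k l) := by
    apply toMat_inj
    rw [toMat_smM]
    exact hc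
  apply eM_inj i j k l c
  rw [h1]
  exact eqM_self _

/-- the group of order nine -/
def E : Subgroup PSL3 where
  carrier := {x | ∃ i j, x = el i j}
  one_mem' := ⟨0, 0, el_zero.symm⟩
  mul_mem' := by
    rintro _ _ ⟨i, j, rfl⟩ ⟨k, l, rfl⟩
    exact ⟨_, _, el_mul i j k l⟩
  inv_mem' := by
    rintro _ ⟨i, j, rfl⟩
    refine ⟨-i, -j, ?_⟩
    rw [inv_eq_iff_mul_eq_one, el_mul, add_neg_cancel, add_neg_cancel, el_zero]

theorem mem_E {x : PSL3} : x ∈ E ↔ ∃ i j, x = el i j := Iff.rfl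

theorem card_E : Nat.card E = 9 := by
  have h : Function.Bijective (fun p : Fin 3 × Fin 3 => (⟨el p.1 p.2, p.1, p.2, rfl⟩ : E)) := by
    constructor
    · rintro ⟨i, j⟩ ⟨k, l⟩ h
      obtain ⟨h1, h2⟩ := el_inj (congrArg Subtype.val h)
      change i = k at h1
      change j = l at h2
      rw [h1, h2]
    · rintro ⟨_, i, j, rfl⟩
      exact ⟨(i, j), rfl⟩
  rw [← Nat.card_congr (Equiv.ofBijective _ h), Nat.card_prod, Nat.card_fin]

/-- the image of a coded conjugation -/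
theorem conj_of_inE {X : SL3} (hX : X.1 * (barM true X.1)ᵀ = 1) {i j : Fin 3}
    (h : inE (mulM (mulM (ofMat X.1) (eM i j)) (starM true (ofMat X.1))) = true) :
    pr X * el i j * (pr X)⁻¹ ∈ E := by
  obtain ⟨c, k, l, hc0, hc⟩ := inE_iff h
  refine ⟨k, l, ?_⟩
  rw [mul_inv_eq_iff_eq_mul]
  change pr X * pr (Es i j) = pr (Es k l) * pr X
  apply pr_mul_eq c
  have h1 := congrArg toMat hc
  rw [toMat_mul, toMat_mul, toMat_star, toMat_smM, toMat_ofMat] at h1
  have h2 : (barM true X.1)ᵀ * X.1 = 1 := mul_eq_one_comm.1 hX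
  change X.1 * toMat (eM i j) = c • (toMat (eM k l) * X.1)
  calc X.1 * toMat (eM i j) = X.1 * toMat (eM i j) * ((barM true X.1)ᵀ * X.1) := by
        rw [h2, mul_one]
    _ = (X.1 * toMat (eM i j) * (barM true X.1)ᵀ) * X.1 := by simp only [mul_assoc]
    _ = c • (toMat (eM k l) * X.1) := by rw [h1, Matrix.smul_mul]

theorem norm_E (b : PSL3) (hb : b ∈ Fix U) (e : PSL3) (he : e ∈ E) : b * e * b⁻¹ ∈ E := by
  obtain ⟨X, rfl, hX⟩ := exists_of_fix_unitary hb
  have h1 := allT_mat normCheck X.1 hX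
  rw [frcM_eq, frcM_eq, Bool.and_eq_true] at h1
  have h10 := conj_of_inE hX h1.1
  have h01 := conj_of_inE hX h1.2
  have hmul : ∀ x y : PSL3, pr X * x * (pr X)⁻¹ ∈ E → pr X * y * (pr X)⁻¹ ∈ E →
      pr X * (x * y) * (pr X)⁻¹ ∈ E := by
    intro x y hx hy
    have : pr X * (x * y) * (pr X)⁻¹ = (pr X * x * (pr X)⁻¹) * (pr X * y * (pr X)⁻¹) := by group
    rw [this]
    exact E.mul_mem hx hy
  have h0 : pr X * el 0 0 * (pr X)⁻¹ ∈ E := by
    rw [el_zero, mul_one, mul_inv_cancel]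
    exact E.one_mem
  have hi : ∀ i, pr X * el i 0 * (pr X)⁻¹ ∈ E := by
    intro i
    have h20 : pr X * el 2 0 * (pr X)⁻¹ ∈ E := by
      have := hmul _ _ h10 h10
      rwa [el_mul] at this
    fin_cases i
    · exact h0
    · exact h10
    · exact h20
  have hj : ∀ j, pr X * el 0 j * (pr X)⁻¹ ∈ E := by
    intro j
    have h02 : pr X * el 0 2 * (pr X)⁻¹ ∈ E := by
      have := hmul _ _ h01 h01
      rwa [el_mul] at this
    fin_cases j
    · exact h0
    · exact h01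
    · exact h02
  obtain ⟨i, j, rfl⟩ := he
  have := hmul _ _ (hi i) (hj j)
  rwa [el_mul, add_zero, zero_add] at this

theorem cent_E (l : PSL3) (hl : l ∈ Fix U) (hc : ∀ e ∈ E, l * e = e * l) : l ∈ E := by
  obtain ⟨X, rfl, hX⟩ := exists_of_fix_unitary hl
  have aux : ∀ i j, ∃ c, eqM (mulM (ofMat X.1) (eM i j)) (smM c (mulM (eM i j) (ofMat X.1)))
      = true := by
    intro i j
    obtain ⟨c, hc⟩ := exists_smul_mul (hc _ ⟨i, j, rfl⟩ : pr X * pr (Es i j) = pr (Es i j) * pr X)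
    refine ⟨c, ?_⟩
    rw [toMat_inj (A := mulM (ofMat X.1) (eM i j)) (B := smM c (mulM (eM i j) (ofMat X.1)))]
    · exact eqM_self _
    · rw [toMat_mul, toMat_smM, toMat_mul, toMat_ofMat]
      exact hc
  obtain ⟨c, hc1⟩ := aux 1 0
  obtain ⟨c', hc2⟩ := aux 0 1
  have h1 := allT_mat centECheck X.1 hX
  rcases Bool.or_eq_true_iff.1 h1 with h4 | h4
  · have h5 := allF_iff (allF_iff h4 c) c'
    rw [hc1, hc2] at h5
    exact absurd h5 (by decide)
  · obtain ⟨c'', i, j, hc0, h5⟩ := inE_iff h4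
    refine ⟨i, j, ?_⟩
    have h6 := congrArg toMat h5
    rw [toMat_ofMat, toMat_smM] at h6
    exact (pr_eq_of_smul (x := Es i j) (y := X) (c := c'') h6).symm

/-- the Fourier matrix -/
def fM : M := ⟨⟨.o, .o, .o⟩, ⟨.o, .w, .v⟩, ⟨.o, .v, .w⟩⟩

theorem exists_slu {Y : M} (h : mulM Y (starM true Y) = idM) (hd : (toMat Y).det = 1) :
    ∃ X : SL3, X.1 = toMat Y ∧ X.1 * (barM true X.1)ᵀ = 1 :=
  ⟨⟨toMat Y, hd⟩, rfl, unit_mat h⟩

theorem exists_F : ∃ f : PSL3, f ∈ Fix U ∧ ∀ i j, f * el i j * f⁻¹ = el (2 * j) i := by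
  obtain ⟨F, hF, hFo⟩ := exists_slu (Y := fM) rfl
    (by rw [Matrix.det_fin_three]; decide +kernel)
  refine ⟨pr F, mem_fix_unitary hFo, ?_⟩
  intro i j
  have h : ∀ i j : Fin 3, any3 (fun c => eqM (mulM fM (eM i j))
      (smM c (mulM (eM (2 * j) i) fM))) = true := by decide +kernel
  obtain ⟨c, -, hc⟩ := any3_iff (h i j)
  have h1 := congrArg toMat (eqM_iff hc)
  rw [toMat_mul, toMat_smM, toMat_mul, ← hF] at h1
  rw [mul_inv_eq_iff_eq_mul]
  exact pr_mul_eq (X := F) (Y := Es i j) (X' := Es (2 * j) i) (Y' := F) c h1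

theorem minimal (E' : Subgroup PSL3) (hE : E' ≤ E)
    (hn : ∀ b ∈ Fix U, ∀ e ∈ E', b * e * b⁻¹ ∈ E') : E' = ⊥ ∨ E' = E := by
  by_cases hbot : E' = ⊥
  · exact Or.inl hbot
  right
  apply le_antisymm hE
  obtain ⟨x, hx, hx1⟩ : ∃ y : PSL3, y ∈ E' ∧ y ≠ 1 := by
    by_contra hcon
    push Not at hcon
    exact hbot ((Subgroup.eq_bot_iff_forall _).2 hcon)
  obtain ⟨i, j, rfl⟩ := hE hx
  have hij : ¬ (i = 0 ∧ j = 0) := by
    rintro ⟨rfl, rfl⟩
    exact hx1 el_zero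
  obtain ⟨f, hf, hconj⟩ := exists_F
  have hx2 : el (2 * j) i ∈ E' := by
    rw [← hconj]
    exact hn f hf _ hx
  have hmul : ∀ a i j : Fin 3, el i j ∈ E' → el (a * i) (a * j) ∈ E' := by
    intro a i j h
    fin_cases a
    · have e1 : (0 : Fin 3) * i = 0 := zero_mul i
      have e2 : (0 : Fin 3) * j = 0 := zero_mul j
      change el ((0 : Fin 3) * i) ((0 : Fin 3) * j) ∈ E'
      rw [e1, e2, el_zero]
      exact E'.one_mem
    · change el ((1 : Fin 3) * i) ((1 : Fin 3) * j) ∈ E'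
      rw [one_mul, one_mul]
      exact h
    · change el ((2 : Fin 3) * i) ((2 : Fin 3) * j) ∈ E'
      have h2 : ∀ i : Fin 3, (2 : Fin 3) * i = i + i := by decide
      rw [h2, h2, ← el_mul]
      exact E'.mul_mem h h
  rintro _ ⟨k, l, rfl⟩
  have key : ∀ i j : Fin 3, ¬ (i = 0 ∧ j = 0) → ∀ k l : Fin 3, ∃ a b : Fin 3,
      k = a * i + b * (2 * j) ∧ l = a * j + b * i := by decide
  obtain ⟨a, b, rfl, rfl⟩ := key i j hij k l
  rw [← el_mul]
  exact E'.mul_mem (hmul a _ _ hx) (hmul b _ _ hx2)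

theorem good_unitary : Good U := by
  refine ⟨?_, Or.inr ⟨E, ?_, norm_E, card_E, ?_, ?_, minimal, cent_E⟩⟩
  · -- the involution
    obtain ⟨F, hF, hFo⟩ := exists_slu (Y := fM) rfl
      (by rw [Matrix.det_fin_three]; decide +kernel)
    obtain ⟨G, hG, hGo⟩ := exists_slu (Y := M.mk ⟨.o, .w, .w⟩ ⟨.v, .w, .v⟩ ⟨.v, .v, .w⟩) rfl
      (by rw [Matrix.det_fin_three]; decide +kernel)
    obtain ⟨Z, hZ, hZo⟩ := exists_slu (Y := M.mk ⟨.o, .z, .z⟩ ⟨.z, .z, .o⟩ ⟨.z, .o, .z⟩) rfl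
      (by rw [Matrix.det_fin_three]; decide +kernel)
    have hl : (toMat (M.mk ⟨.z, .z, .o⟩ ⟨.o, .o, .z⟩ ⟨.w, .v, .z⟩)).det = 1 := by
      rw [Matrix.det_fin_three]; decide +kernel
    obtain ⟨S, hS⟩ : ∃ S : SL3, S.1 = toMat (M.mk ⟨.z, .z, .o⟩ ⟨.o, .o, .z⟩ ⟨.w, .v, .z⟩) :=
      ⟨⟨_, hl⟩, rfl⟩
    refine ⟨pr Z, ?_, ?_, ?_, pr S, ?_⟩
    · intro h
      rw [← map_one pr] at h
      obtain ⟨c, hc⟩ := exists_smul_of_pr_eq h
      rw [hZ] at hc
      have := congrFun (congrFun hc 1) 2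
      change (0 : F4) = c * 1 at this
      rw [mul_one] at this
      rw [← this, zero_smul] at hc
      exact mat_one_ne hc
    · rw [← map_mul, ← map_one pr]
      congr 1
      apply Subtype.ext
      change Z.1 * Z.1 = 1
      rw [hZ, ← toMat_mul, ← toMat_id]
      rfl
    · have h : any3 (fun c => eqM (mulM (M.mk ⟨.o, .z, .z⟩ ⟨.z, .z, .o⟩ ⟨.z, .o, .z⟩)
          (mulM (M.mk ⟨.o, .w, .w⟩ ⟨.v, .w, .v⟩ ⟨.v, .v, .w⟩) fM))
          (smM c (mulM fM (M.mk ⟨.o, .w, .w⟩ ⟨.v, .w, .v⟩ ⟨.v, .v, .w⟩)))) = true := by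
        decide +kernel
      obtain ⟨c, -, hc⟩ := any3_iff h
      have h1 := congrArg toMat (eqM_iff hc)
      rw [toMat_mul, toMat_mul, toMat_smM, toMat_mul, ← hF, ← hG, ← hZ] at h1
      have h2 : (pr Z : PSL3) * pr (G * F) = pr F * pr G :=
        pr_mul_eq (X := Z) (Y := G * F) (X' := F) (Y' := G) c h1
      have h3 : (pr Z : PSL3) = ⁅(pr F : PSL3), pr G⁆ := by
        rw [commutatorElement_def, eq_mul_inv_iff_mul_eq, eq_mul_inv_iff_mul_eq, mul_assoc, ← h2,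
          map_mul]
      rw [h3]
      exact Subgroup.commutator_mem_commutator (mem_fix_unitary hFo) (mem_fix_unitary hGo)
    · apply inv_aux (mem_fix_unitary hZo)
      rw [U_pr, ← map_inv, ← map_mul]
      congr 1
      apply Subtype.ext
      rw [← map_inv, Matrix.SpecialLinearGroup.coe_mul, coe_u, inv_inv, hZ, hS]
      have h1 := toMat_star true (M.mk ⟨.z, .z, .o⟩ ⟨.o, .o, .z⟩ ⟨.w, .v, .z⟩)
      rw [barM_true, ← transpose_map] at h1
      rw [← h1, ← toMat_mul]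
      rfl
  · rintro _ ⟨i, j, rfl⟩
    exact el_mem i j
  · rintro _ ⟨i, j, rfl⟩
    rw [pow_three, el_mul, el_mul]
    have key : ∀ i : Fin 3, i + (i + i) = 0 := by decide
    rw [key, key, el_zero]
  · rintro _ ⟨i, j, rfl⟩ _ ⟨k, l, rfl⟩
    rw [el_mul, el_mul, add_comm i, add_comm j]

end Cfsg.Agent.StdL3.OuterFixU
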