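import Cfsg.Agent.StdL3.OuterMat

/-!
# The outer automorphism group of `PSL(3,4)`

The automorphisms induced by `GL(3,4)` form a normal subgroup `N` of the automorphism group
containing its commutator subgroup; the cube of every element of `N` is inner and the index of `N`
is at most four.
-/

set_option autoImplicit false
set_option linter.constructorNameAsVariable false
set_option linter.unusedVariables false

namespace Cfsg.Agent.StdL3.OuterQuot

open Matrix
open Cfsg.Agent.ClassicalGeometry.AutPSL.Root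
open Cfsg.Agent.ClassicalGeometry.AutPSL.Auto
open Cfsg.Agent.ClassicalGeometry.AutPSL.Main
open Cfsg.Agent.SporadicA.FieldFour
open Cfsg.Agent.ONType.Psl
open Cfsg.Agent.ONType.OuterL
open Cfsg.Agent.StdL3.OuterMat
open scoped commutatorElement

/-- automorphisms induced by `GL(3,4)` -/
noncomputable def N : Subgroup (MulAut PSL3) := (lift.comp cj).range

theorem mem_N (A : GL (Fin 3) F4) : lift (cj A) ∈ N := ⟨A, rfl⟩

instance N_normal : N.Normal := by
  refine ⟨fun n hn g => ?_⟩
  obtain ⟨A, rfl⟩ := hn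
  obtain ⟨B, b, c, rfl⟩ := exists_std_form g
  obtain ⟨A', hA'⟩ := std_mul_cj b c A
  have h1 : lift (std b c) * lift (cj A) * (lift (std b c))⁻¹ = lift (cj A') := by
    rw [← map_mul, hA', map_mul, mul_inv_cancel_right]
  have h2 : lift (cj B) * lift (std b c) * (lift.comp cj) A * (lift (cj B) * lift (std b c))⁻¹ =
      lift (cj B) * (lift (std b c) * lift (cj A) * (lift (std b c))⁻¹) * (lift (cj B))⁻¹ := by
    simp only [MonoidHom.comp_apply]
    group
  rw [h2, h1]
  exact N.mul_mem (N.mul_mem (mem_N B) (mem_N A')) (N.inv_mem (mem_N B))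

theorem std_comm (b c b' c' : Bool) : std b c * std b' c' = std b' c' * std b c := by
  rw [std_mul_std, std_mul_std, Bool.xor_comm b b', Bool.xor_comm c c']

theorem commutator_le_N : commutator (MulAut PSL3) ≤ N := by
  rw [commutator_def, Subgroup.commutator_le]
  intro x _ y _
  obtain ⟨A, b, c, rfl⟩ := exists_std_form x
  obtain ⟨B, b', c', rfl⟩ := exists_std_form y
  rw [← QuotientGroup.eq_one_iff]
  have h1 : ∀ A : GL (Fin 3) F4, ((lift (cj A) : MulAut PSL3) : MulAut PSL3 ⧸ N) = 1 :=
    fun A => (QuotientGroup.eq_one_iff _).2 (mem_N A)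
  rw [commutatorElement_def]
  simp only [QuotientGroup.mk_mul, QuotientGroup.mk_inv, h1, one_mul]
  rw [← QuotientGroup.mk_inv, ← QuotientGroup.mk_inv, ← QuotientGroup.mk_mul,
    ← QuotientGroup.mk_mul, ← QuotientGroup.mk_mul, QuotientGroup.eq_one_iff]
  have h2 : lift (std b c) * lift (std b' c') * (lift (std b c))⁻¹ * (lift (std b' c'))⁻¹ = 1 := by
    rw [← map_mul, std_comm, map_mul]
    group
  rw [h2]
  exact N.one_mem

theorem cube_inner {x : MulAut PSL3} (hx : x ∈ N) : ∃ l, x ^ 3 = MulAut.conj l := by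
  obtain ⟨A, rfl⟩ := hx
  have hdet : ((A ^ 3 : GL (Fin 3) F4) : Mat).det = 1 := by
    rw [Units.val_pow_eq_pow_val, det_pow]
    have h0 : (A : Mat).det ≠ 0 := by
      have := A.isUnit.map (Matrix.detMonoidHom (n := Fin 3) (R := F4))
      exact this.ne_zero
    have key : ∀ u : F4, u ≠ 0 → u ^ 3 = 1 := by
      intro u hu
      rw [pow_three]
      revert u
      decide
    exact key _ h0
  refine ⟨pr (mkSL _ hdet), ?_⟩
  rw [← lift_cj_of_det hdet, map_pow, map_pow]
  rfl

theorem card_quot : Nat.card (MulAut PSL3 ⧸ N) ≤ 4 := by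
  have hsurj : Function.Surjective
      (fun p : Bool × Bool => ((lift (std p.1 p.2) : MulAut PSL3) : MulAut PSL3 ⧸ N)) := by
    intro q
    obtain ⟨x, rfl⟩ := QuotientGroup.mk_surjective q
    obtain ⟨A, b, c, rfl⟩ := exists_std_form x
    refine ⟨(b, c), ?_⟩
    rw [QuotientGroup.mk_mul, (QuotientGroup.eq_one_iff _).2 (mem_N A), one_mul]
  have h := Nat.card_le_card_of_surjective _ hsurj
  simpa using h

/-- A 2-group of automorphisms meeting the inner automorphisms trivially has order dividing 4. -/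
theorem card_two_group (P : Subgroup (MulAut PSL3)) (hP : IsPGroup 2 P)
    (hinn : ∀ l, MulAut.conj l ∈ P → MulAut.conj l = (1 : MulAut PSL3)) : Nat.card P ∣ 4 := by
  have hinj : Function.Injective (fun x : P => ((x : MulAut PSL3) : MulAut PSL3 ⧸ N)) := by
    intro x y hxy
    have h1 : ((x⁻¹ * y : P) : MulAut PSL3) ∈ N := by
      have := QuotientGroup.eq.1 hxy
      exact this
    obtain ⟨l, hl⟩ := cube_inner h1
    have h2 : (x⁻¹ * y) ^ 3 = 1 := by
      apply Subtype.ext
      change ((x⁻¹ * y : P) : MulAut PSL3) ^ 3 = 1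
      rw [hl]
      apply hinn
      rw [← hl]
      exact P.pow_mem (x⁻¹ * y).2 3
    obtain ⟨k, hk⟩ := hP (x⁻¹ * y)
    have h3 : orderOf (x⁻¹ * y) ∣ 3 := orderOf_dvd_of_pow_eq_one h2
    have h4 : orderOf (x⁻¹ * y) ∣ 2 ^ k := orderOf_dvd_of_pow_eq_one hk
    have h5 : orderOf (x⁻¹ * y) ∣ 1 := by
      have h6 := Nat.dvd_gcd h3 h4
      have h7 : Nat.gcd 3 (2 ^ k) = 1 := Nat.Coprime.pow_right _ (by decide)
      rwa [h7] at h6
    rw [Nat.dvd_one, orderOf_eq_one_iff] at h5
    exact inv_mul_eq_one.1 h5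
  have hfin : Finite (MulAut PSL3 ⧸ N) := inferInstance
  have hle : Nat.card P ≤ 4 :=
    (Nat.card_le_card_of_injective _ hinj).trans card_quot
  have hPfin : Finite P := Finite.of_injective _ hinj
  obtain ⟨k, hk⟩ := IsPGroup.iff_card.1 hP
  rw [hk] at hle ⊢
  have hk2 : k ≤ 2 := by
    by_contra hcon
    have : 2 ^ 3 ≤ 2 ^ k := Nat.pow_le_pow_right (by decide) (by omega)
    omega
  exact (Nat.pow_dvd_pow 2 hk2)

end Cfsg.Agent.StdL3.OuterQuot
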