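import Cfsg.Agent.StdL3.OuterFixF
import Cfsg.Agent.StdL3.OuterFixU
import Cfsg.Agent.StdL3.OuterQuot

/-!
# Facts on the outer involutions of `PSL(3,4)`, for groups isomorphic to it
-/

set_option autoImplicit false
set_option linter.constructorNameAsVariable false
set_option linter.unusedVariables false

namespace Cfsg.Agent.StdL3.OuterFacts

open Cfsg.Agent.ClassicalGeometry.AutPSL.Auto
open Cfsg.Agent.SporadicA.FieldFour
open Cfsg.Agent.ONType.Psl
open Cfsg.Agent.StdL3.OuterMat
open Cfsg.Agent.StdL3.OuterClass
open Cfsg.Agent.StdL3.OuterFix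
open scoped commutatorElement

section transport

variable {L L' : Type*} [Group L] [Group L']

theorem congr_apply (e : L ≃* L') (y : MulAut L) (l : L') :
    MulAut.congr e y l = e (y (e.symm l)) := rfl

theorem congr_conj (e : L ≃* L') (l : L) :
    MulAut.congr e (MulAut.conj l) = MulAut.conj (e l) := by
  ext x
  rw [congr_apply, MulAut.conj_apply, MulAut.conj_apply, map_mul, map_mul, map_inv,
    MulEquiv.apply_symm_apply]

theorem Fix_congr (e : L ≃* L') (y : MulAut L) :
    Fix (MulAut.congr e y) = (Fix y).map (e : L →* L') := by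
  ext x
  rw [mem_Fix, congr_apply, Subgroup.mem_map]
  constructor
  · intro h
    refine ⟨e.symm x, ?_, e.apply_symm_apply x⟩
    rw [mem_Fix]
    apply e.injective
    rw [h, e.apply_symm_apply]
  · rintro ⟨l, hl, rfl⟩
    change e (y (e.symm (e l))) = e l
    rw [e.symm_apply_apply, mem_Fix.1 hl]

theorem good_congr (e : L ≃* L') {y : MulAut L} (h : Good y) : Good (MulAut.congr e y) := by
  constructor
  · obtain ⟨z, hz1, hz2, hzc, l, hl⟩ := h.inv
    refine ⟨e z, ?_, ?_, ?_, e l, ?_⟩
    · intro h1
      exact hz1 (e.injective (h1.trans (map_one e).symm))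
    · rw [← map_mul, hz2, map_one]
    · rw [Fix_congr, ← Subgroup.map_commutator]
      exact Subgroup.mem_map_of_mem _ hzc
    · rw [← congr_conj, ← congr_conj, ← map_mul, hl, map_mul, map_mul, map_inv]
  · rcases h.fix with ⟨h1, h2⟩ | ⟨E, h1, h2, h3, h4, h5, h6, h7⟩
    · left
      constructor
      · rw [Fix_congr, ← Subgroup.map_commutator, h1]
      · intro l hl hc
        rw [Fix_congr] at hl hc
        obtain ⟨l, hl, rfl⟩ := hl
        change e l = 1
        rw [h2 l hl (fun b hb => ?_), map_one]
        apply e.injective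
        rw [map_mul, map_mul]
        exact hc (e b) (Subgroup.mem_map_of_mem (e : L →* L') hb)
    · right
      refine ⟨E.map (e : L →* L'), ?_, ?_, ?_, ?_, ?_, ?_, ?_⟩
      · rw [Fix_congr]
        exact Subgroup.map_mono h1
      · rw [Fix_congr]
        rintro _ ⟨b, hb, rfl⟩ _ ⟨x, hx, rfl⟩
        refine ⟨b * x * b⁻¹, h2 b hb x hx, ?_⟩
        rw [map_mul, map_mul, map_inv]
      · rw [Subgroup.card_map_of_injective e.injective, h3]
      · rintro _ ⟨x, hx, rfl⟩
        rw [← map_pow, h4 x hx, map_one]
      · rintro _ ⟨x, hx, rfl⟩ _ ⟨x', hx', rfl⟩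
        rw [← map_mul, h5 x hx x' hx', map_mul]
      · intro E' hE' hn
        have h8 := h6 (E'.comap (e : L →* L')) ?_ ?_
        · have hmc : (E'.comap (e : L →* L')).map (e : L →* L') = E' :=
            Subgroup.map_comap_eq_self_of_surjective e.surjective E'
          rcases h8 with h8 | h8
          · left
            rw [← hmc, h8, Subgroup.map_bot]
          · right
            rw [← hmc, h8]
        · intro x hx
          obtain ⟨x', hx', hxx⟩ := hE' hx
          rw [← e.injective hxx]
          exact hx'
        · intro b hb x hx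
          rw [Subgroup.mem_comap, map_mul, map_mul, map_inv]
          exact hn (e b) (by rw [Fix_congr]; exact Subgroup.mem_map_of_mem (e : L →* L') hb) _ hx
      · intro l hl hc
        rw [Fix_congr] at hl
        obtain ⟨l, hl, rfl⟩ := hl
        refine ⟨l, h7 l hl (fun x hx => ?_), rfl⟩
        apply e.injective
        rw [map_mul, map_mul]
        exact hc (e x) (Subgroup.mem_map_of_mem (e : L →* L') hx)

end transport

/-- The facts on outer automorphisms of `L ≅ PSL(3,4)`. -/
structure Facts (L : Type*) [Group L] : Prop where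
  /-- outer involutions -/
  good : ∀ y : MulAut L, y * y = 1 → (∀ l, y ≠ MulAut.conj l) → Good y
  /-- the commutator subgroup of the automorphism group has order dividing three modulo inner
  automorphisms -/
  cube : ∀ x ∈ commutator (MulAut L), ∃ l, x ^ 3 = MulAut.conj l
  /-- 2-groups of outer automorphisms have order dividing four -/
  two : ∀ P : Subgroup (MulAut L), IsPGroup 2 P →
    (∀ l, MulAut.conj l ∈ P → MulAut.conj l = (1 : MulAut L)) → Nat.card P ∣ 4

theorem good_of_conj {y γ : MulAut PSL3} {b c : Bool} (hbc : (b || c) = true)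
    (h : y * γ = γ * lift (std b c)) : Good y := by
  have h1 : Good (lift (std b c) : MulAut PSL3) := by
    cases b <;> cases c
    · exact absurd hbc (by decide)
    · have : (std false true : MulAut SL3) = itr := by simp [std]
      rw [this]
      exact good_graph
    · have : (std true false : MulAut SL3) = fld phi := by simp [std]
      rw [this]
      exact OuterFixF.good_field
    · have : (std true true : MulAut SL3) = fld phi * itr := by simp [std]
      rw [this]
      exact OuterFixU.good_unitary
  have h2 : y = MulAut.congr γ (lift (std b c)) := by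
    apply MulEquiv.ext
    intro x
    rw [congr_apply]
    have h3 := congrArg (fun α : MulAut PSL3 => α (γ.symm x)) h
    change y (γ (γ.symm x)) = γ (lift (std b c) (γ.symm x)) at h3
    rw [γ.apply_symm_apply] at h3
    exact h3
  rw [h2]
  exact good_congr γ h1

theorem facts_PSL3 : Facts PSL3 where
  good y h1 h2 := by
    obtain ⟨γ, b, c, hbc, h⟩ := class_outer y h1 h2
    exact good_of_conj hbc h
  cube x hx := OuterQuot.cube_inner (OuterQuot.commutator_le_N hx)
  two P hP h := OuterQuot.card_two_group P hP h

theorem facts_congr {L L' : Type*} [Group L] [Group L'] (e : L ≃* L') (h : Facts L) :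
    Facts L' where
  good y h1 h2 := by
    have h3 : MulAut.congr e ((MulAut.congr e).symm y) = y := (MulAut.congr e).apply_symm_apply y
    rw [← h3]
    apply good_congr
    apply h.good
    · rw [← map_mul, h1, map_one]
    · intro l hl
      apply h2 (e l)
      rw [← h3, hl, congr_conj]
  cube x hx := by
    have h3 : MulAut.congr e ((MulAut.congr e).symm x) = x := (MulAut.congr e).apply_symm_apply x
    have h4 : (MulAut.congr e).symm x ∈ commutator (MulAut L) := by
      have h5 : (commutator (MulAut L')).map ((MulAut.congr e).symm : MulAut L' →* MulAut L) =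
          commutator (MulAut L) := by
        rw [commutator_def, Subgroup.map_commutator, Subgroup.map_top_of_surjective _
          (MulAut.congr e).symm.surjective, commutator_def]
      rw [← h5]
      exact Subgroup.mem_map_of_mem _ hx
    obtain ⟨l, hl⟩ := h.cube _ h4
    refine ⟨e l, ?_⟩
    rw [← congr_conj, ← hl, map_pow, h3]
  two P hP h1 := by
    have h2 := h.two (P.map ((MulAut.congr e).symm : MulAut L' →* MulAut L)) (hP.map _) ?_
    · rwa [Subgroup.card_map_of_injective (MulAut.congr e).symm.injective] at h2
    · rintro l ⟨x, hx, hxl⟩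
      have h4 : x = MulAut.conj (e l) := by
        have h5 : MulAut.congr e ((MulAut.congr e).symm x) = x :=
          (MulAut.congr e).apply_symm_apply x
        have h6 : (MulAut.congr e).symm x = MulAut.conj l := hxl
        rw [← h5, h6, congr_conj]
      have h7 := h1 (e l) (h4 ▸ hx)
      rw [← congr_conj] at h7
      exact (MulAut.congr e).injective (h7.trans (map_one _).symm)

/-- the facts hold for every group isomorphic to `PSL(3, F)`, `|F| = 4` -/
theorem facts_of_psl {L : Type*} [Group L] {F : Type*} [Field F] [Fintype F]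
    (hF : Fintype.card F = 4)
    (e : Nonempty (L ≃* Matrix.ProjectiveSpecialLinearGroup (Fin 3) F)) : Facts L := by
  obtain ⟨e⟩ := e
  obtain ⟨f⟩ := nonempty_psl_equiv (n := Fin 3) F hF
  exact facts_congr (f.trans e.symm) facts_PSL3

/-- an automorphism of order a power of two in the commutator subgroup of the automorphism group
is inner -/
theorem inner_of_comm {L : Type*} [Group L] (hL : Facts L) {x : MulAut L}
    (hx : x ∈ commutator (MulAut L)) {k : ℕ} (h2 : x ^ 2 ^ k = 1) : ∃ l, x = MulAut.conj l := by
  obtain ⟨l, hl⟩ := hL.cube x hx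
  have hc : IsCoprime (3 : ℤ) ((2 ^ k : ℕ) : ℤ) := by
    rw [Nat.cast_pow]
    exact IsCoprime.pow_right ((Int.isCoprime_iff_gcd_eq_one).2 (by decide))
  obtain ⟨a, b, hab⟩ := hc
  refine ⟨l ^ a, ?_⟩
  have h3 : x = (x ^ 3) ^ a * (x ^ 2 ^ k) ^ b := by
    have e1 : (x ^ 3) ^ a = x ^ (a * 3) := by
      rw [mul_comm, zpow_mul]
      congr 1
    have e2 : (x ^ 2 ^ k) ^ b = x ^ (b * ((2 ^ k : ℕ) : ℤ)) := by
      rw [mul_comm, zpow_mul, zpow_natCast]
    rw [e1, e2, ← zpow_add, hab, zpow_one]
  rw [h2, one_zpow, mul_one, hl, ← map_zpow] at h3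
  exact h3

end Cfsg.Agent.StdL3.OuterFacts
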