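import Mathlib

set_option autoImplicit false

/-!
# The local structure at `t` (blueprints/S1748-outer.md, sections 0, 4, 5, 6)

`Loc t T Z That O A Q`: `T ∈ Syl₂(L)`, `L ≅ L₃(4)`, `That ∈ Syl₂(C_G(t))` containing `T`, `Z = Z(T)`,
`A i` the two elementary abelian subgroups of order `16` of `T`, `O = O(C_G(t))`, `Q i` the groups
of order `2^8` grown from `A i`.
-/

namespace Cfsg.Agent.StdL3.ExtLoc

variable {G : Type*} [Group G]

/-- The part of the local structure at `t` about `L` only (no growth). -/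
structure LocT (t : G) (T Z That : Subgroup G) (A : Bool → Subgroup G) : Prop where
  t1 : t ≠ 1
  tt : t * t = 1
  that_comm : ∀ x ∈ That, x * t = t * x
  t_mem : t ∈ That
  that_two : IsPGroup 2 That
  /-- `That` is a Sylow `2`-subgroup of `C_G(t)` -/
  that_syl : ∀ S : Subgroup G, IsPGroup 2 S → (∀ x ∈ S, x * t = t * x) →
    ∃ c : G, c * t = t * c ∧ ∀ x ∈ S, c * x * c⁻¹ ∈ That
  T_le : T ≤ That
  T_norm : ∀ x ∈ That, ∀ y ∈ T, x * y * x⁻¹ ∈ T
  tT : t ∉ T
  cardT : Nat.card T = 64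
  cardZ : Nat.card Z = 4
  cardA : ∀ i, Nat.card (A i) = 16
  Z_le : ∀ i, Z ≤ A i
  A_le : ∀ i, A i ≤ T
  A_sq : ∀ i, ∀ x ∈ A i, x * x = 1
  Z_comm : ∀ z ∈ Z, ∀ x ∈ T, x * z = z * x
  inv_mem : ∀ p ∈ T, p * p = 1 → ∃ i, p ∈ A i
  T_le_sup : T ≤ A false ⊔ A true
  comm_mem : ∀ x ∈ T, ∀ y ∈ T, x * y * x⁻¹ * y⁻¹ ∈ Z
  surj : ∀ p ∈ T, p ∉ Z → ∀ z ∈ Z, ∃ x ∈ T, p * x * p⁻¹ * x⁻¹ = z
  surjA : ∀ z ∈ Z, ∃ a ∈ A false, ∃ b ∈ A true, a * b * a⁻¹ * b⁻¹ = z
  A_cent : ∀ i, ∀ u ∈ A i, u ∉ Z → ∀ x ∈ T, x * u = u * x → x ∈ A i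
  eq_A : ∀ E : Subgroup G, E ≤ T → (∀ x ∈ E, x * x = 1) → 16 ≤ Nat.card E → ∃ i, E = A i
  O1 : ∀ x ∈ That, x ∉ T → t * x ∉ T → Nat.card {y : G // y ∈ T ∧ x * y * x⁻¹ * y⁻¹ ∈ Z} ≤ 16
  O2 : ∀ x ∈ That, ∀ y ∈ That, (∀ z ∈ Z, x * z = z * x) → (∀ z ∈ Z, y * z = z * y) →
    x ∉ T → t * x ∉ T → y ∉ T → t * y ∉ T → x * y ∈ T ∨ t * (x * y) ∈ T
  O3 : ∀ E : Subgroup G, E ≤ That → (∀ x ∈ E, x * x = 1) → 32 ≤ Nat.card E →
    ∃ i, ∀ x, x ∈ E ↔ x ∈ A i ∨ t * x ∈ A i

/-- The local structure at `t`. -/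
structure Loc (t : G) (T Z That O : Subgroup G) (A Q : Bool → Subgroup G) : Prop
    extends LocT t T Z That A where
  centTA : ∀ i x, x * t = t * x → (∀ a ∈ A i, x * a = a * x) →
    ∃ o ∈ O, ∃ a ∈ A i, x = o * a ∨ x = o * t * a
  O_odd : Odd (Nat.card O)
  OQ : ∀ o ∈ O, ∀ i, ∀ q ∈ Q i, o * q = q * o
  Ot : ∀ o ∈ O, o * t = t * o
  /-- the conjugates of `t` in `t T` -/
  tD : ∀ p ∈ T, p * p = 1 → p ≠ 1 → IsConj t (t * p)
  cardQ : ∀ i, Nat.card (Q i) = 256
  Q_sq : ∀ i, ∀ q ∈ Q i, q * q = 1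
  A_le_Q : ∀ i, A i ≤ Q i
  Q_norm : ∀ i, ∀ q ∈ Q i, t * q * t⁻¹ ∈ Q i
  Q_fix : ∀ i, ∀ q ∈ Q i, q * t = t * q → q ∈ A i

/-- squares trivial gives commutative -/
theorem comm_of_sq {E : Subgroup G} (h : ∀ x ∈ E, x * x = 1) {x y : G} (hx : x ∈ E) (hy : y ∈ E) :
    x * y = y * x := by
  have h1 := h _ (E.mul_mem hx hy)
  have h2 := h _ hx
  have h3 := h _ hy
  calc x * y = x * (x * y * (x * y)) * y := by rw [h1]; group
    _ = (x * x) * (y * x) * (y * y) := by group
    _ = y * x := by rw [h2, h3]; group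

theorem odd_sq_eq_one {O : Subgroup G} (hO : Odd (Nat.card O)) {o : G} (ho : o ∈ O)
    (h : o * o = 1) : o = 1 := by
  have h1 : orderOf o ∣ 2 := orderOf_dvd_of_pow_eq_one (by rw [pow_two, h])
  have h2 : orderOf o ∣ Nat.card O := by
    have := orderOf_dvd_natCard (⟨o, ho⟩ : O)
    rwa [Subgroup.orderOf_mk] at this
  have h3 : orderOf o ∣ 1 := by
    have hc : Nat.Coprime 2 (Nat.card O) := by
      rw [Nat.coprime_two_left]; exact hO
    have := Nat.dvd_gcd h1 h2
    rwa [hc.gcd_eq_one] at this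
  exact orderOf_eq_one_iff.mp (Nat.dvd_one.mp h3)

/-- the group `<t> A`, for an involution `t` centralising `A` -/
def adj (t : G) (A : Subgroup G) (tt : t * t = 1) (hc : ∀ a ∈ A, a * t = t * a) : Subgroup G where
  carrier := {x | x ∈ A ∨ t * x ∈ A}
  one_mem' := Or.inl A.one_mem
  mul_mem' := by
    rintro x y hx hy
    rcases hx with hx | hx <;> rcases hy with hy | hy
    · exact Or.inl (A.mul_mem hx hy)
    · refine Or.inr ?_
      rw [← mul_assoc, ← hc x hx, mul_assoc]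
      exact A.mul_mem hx hy
    · refine Or.inr ?_
      rw [← mul_assoc]
      exact A.mul_mem hx hy
    · refine Or.inl ?_
      have h1 := A.mul_mem hx hy
      have h2 : t * x * (t * y) = x * y := by
        calc t * x * (t * y) = t * x * t * y := by group
          _ = t * (t * x) * y := by rw [hc _ hx]
          _ = (t * t) * (x * y) := by group
          _ = x * y := by rw [tt, one_mul]
      rw [h2] at h1
      exact h1
  inv_mem' := by
    rintro x hx
    rcases hx with hx | hx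
    · exact Or.inl (A.inv_mem hx)
    · refine Or.inr ?_
      have h1 := hc _ (A.inv_mem hx)
      have h2 : t * x⁻¹ = (t * x)⁻¹ := by
        calc t * x⁻¹ = t * ((t * x)⁻¹ * t) := by group
          _ = t * (t * (t * x)⁻¹) := by rw [h1]
          _ = t * t * (t * x)⁻¹ := by group
          _ = (t * x)⁻¹ := by rw [tt, one_mul]
      rw [h2]; exact A.inv_mem hx

theorem mem_adj {t : G} {A : Subgroup G} {tt : t * t = 1} {hc : ∀ a ∈ A, a * t = t * a} {x : G} :
    x ∈ adj t A tt hc ↔ x ∈ A ∨ t * x ∈ A := Iff.rfl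

theorem card_adj [Finite G] {t : G} {A : Subgroup G} (tt : t * t = 1)
    (hc : ∀ a ∈ A, a * t = t * a) (ht : t ∉ A) :
    Nat.card (adj t A tt hc) = 2 * Nat.card A := by
  have hle : A ≤ adj t A tt hc := fun x hx => Or.inl hx
  have htm : t ∈ adj t A tt hc := Or.inr (by rw [tt]; exact A.one_mem)
  have h1 : (A.subgroupOf (adj t A tt hc)).index = 2 := by
    rw [Subgroup.index_eq_two_iff]
    refine ⟨⟨t, htm⟩, fun b => ?_⟩
    rw [Subgroup.mem_subgroupOf, Subgroup.mem_subgroupOf]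
    obtain ⟨b, hb⟩ := b
    show Xor (b * t ∈ A) (b ∈ A)
    rcases hb with hb | hb
    · refine Or.inr ⟨hb, fun h => ht ?_⟩
      have := A.mul_mem (A.inv_mem hb) h
      simpa using this
    · refine Or.inl ⟨?_, fun h => ht ?_⟩
      · have h2 := hc _ hb
        have h3 : b * t = t * b := by
          calc b * t = t * t * b * t := by rw [tt, one_mul]
            _ = t * (t * b * t) := by group
            _ = t * (t * (t * b)) := by rw [h2]
            _ = t * t * (t * b) := by group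
            _ = t * b := by rw [tt, one_mul]
        rw [h3]; exact hb
      · have := A.mul_mem hb (A.inv_mem h)
        simpa [mul_assoc] using this
  have h2 := Subgroup.card_mul_index (A.subgroupOf (adj t A tt hc))
  rw [h1, Nat.card_congr (Subgroup.subgroupOfEquivOfLe hle).toEquiv] at h2
  rw [← h2, mul_comm]

namespace LocT

variable {t : G} {T Z That : Subgroup G} {A : Bool → Subgroup G}

theorem t_inv (h : LocT t T Z That A) : t⁻¹ = t := inv_eq_of_mul_eq_one_right h.tt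

theorem T_comm (h : LocT t T Z That A) {x : G} (hx : x ∈ T) : x * t = t * x :=
  h.that_comm x (h.T_le hx)

theorem Z_le_T (h : LocT t T Z That A) : Z ≤ T := (h.Z_le false).trans (h.A_le false)

theorem sup_eq (h : LocT t T Z That A) : A false ⊔ A true = T :=
  le_antisymm (sup_le (h.A_le _) (h.A_le _)) h.T_le_sup

theorem A_comm (h : LocT t T Z That A) {i : Bool} {x y : G} (hx : x ∈ A i) (hy : y ∈ A i) :
    x * y = y * x := comm_of_sq (h.A_sq i) hx hy

/-- the commutator of two elements of `<t> T` lies in `Z` -/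
theorem comm_mem' (h : LocT t T Z That A) {x y : G} (hx : x ∈ T ∨ t * x ∈ T)
    (hy : y ∈ T ∨ t * y ∈ T) : x * y * x⁻¹ * y⁻¹ ∈ Z := by
  obtain ⟨x', hx', ex⟩ : ∃ x' ∈ T, x = x' ∨ x = t * x' := by
    rcases hx with hx | hx
    · exact ⟨x, hx, Or.inl rfl⟩
    · exact ⟨t * x, hx, Or.inr (by rw [← mul_assoc, h.tt, one_mul])⟩
  obtain ⟨y', hy', ey⟩ : ∃ y' ∈ T, y = y' ∨ y = t * y' := by
    rcases hy with hy | hy
    · exact ⟨y, hy, Or.inl rfl⟩
    · exact ⟨t * y, hy, Or.inr (by rw [← mul_assoc, h.tt, one_mul])⟩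
  have h1 := h.comm_mem x' hx' y' hy'
  have cx := h.T_comm hx'
  have cy := h.T_comm hy'
  have cx' : x'⁻¹ * t = t * x'⁻¹ := by
    have := h.T_comm (T.inv_mem hx'); exact this
  have cy' : y'⁻¹ * t = t * y'⁻¹ := by
    have := h.T_comm (T.inv_mem hy'); exact this
  have ht := h.tt
  have hti := h.t_inv
  rcases ex with rfl | rfl <;> rcases ey with rfl | rfl
  · exact h1
  · have : x * (t * y') * x⁻¹ * (t * y')⁻¹ = x * y' * x⁻¹ * y'⁻¹ := by
      rw [mul_inv_rev, hti]
      calc x * (t * y') * x⁻¹ * (y'⁻¹ * t) = (x * t) * y' * x⁻¹ * (y'⁻¹ * t) := by group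
        _ = t * (x * y' * x⁻¹ * y'⁻¹ * t) := by rw [cx]; group
        _ = t * (t * (x * y' * x⁻¹ * y'⁻¹)) := by rw [h.T_comm (h.Z_le_T h1)]
        _ = _ := by rw [← mul_assoc, ht, one_mul]
    rw [this]; exact h1
  · have : t * x' * y * (t * x')⁻¹ * y⁻¹ = x' * y * x'⁻¹ * y⁻¹ := by
      rw [mul_inv_rev, hti]
      calc t * x' * y * (x'⁻¹ * t) * y⁻¹ = t * x' * y * x'⁻¹ * (t * y⁻¹) := by group
        _ = t * x' * y * x'⁻¹ * (y⁻¹ * t) := by rw [cy']
        _ = t * (x' * y * x'⁻¹ * y⁻¹ * t) := by group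
        _ = t * (t * (x' * y * x'⁻¹ * y⁻¹)) := by rw [h.T_comm (h.Z_le_T h1)]
        _ = _ := by rw [← mul_assoc, ht, one_mul]
    rw [this]; exact h1
  · have : t * x' * (t * y') * (t * x')⁻¹ * (t * y')⁻¹ = x' * y' * x'⁻¹ * y'⁻¹ := by
      rw [mul_inv_rev, mul_inv_rev, hti]
      calc t * x' * (t * y') * (x'⁻¹ * t) * (y'⁻¹ * t)
          = t * (x' * t) * y' * x'⁻¹ * (t * y'⁻¹) * t := by group
        _ = t * (t * x') * y' * x'⁻¹ * (y'⁻¹ * t) * t := by rw [cx, cy']
        _ = (t * t) * (x' * y' * x'⁻¹ * y'⁻¹) * (t * t) := by group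
        _ = _ := by rw [ht]; group
    rw [this]; exact h1

/-- **Section 0**: no conjugate of `t` in `Z`, if the involution `y` is central in `That`. -/
theorem not_conj_of_mem_Z (h : LocT t T Z That A) [Finite G] {y : G} (hy : y ∈ Z)
    (hyc : ∀ x ∈ That, x * y = y * x) : ¬ IsConj t y := by
  rintro hconj
  obtain ⟨x, hx⟩ := isConj_iff.mp hconj
  -- `x⁻¹ That x` centralises `t`
  set S : Subgroup G := That.map (MulAut.conj x⁻¹).toMonoidHom with hS
  have hSmem : ∀ s, s ∈ S ↔ x * s * x⁻¹ ∈ That := by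
    intro s
    rw [hS, Subgroup.mem_map]
    constructor
    · rintro ⟨u, hu, rfl⟩
      have : x * (MulAut.conj x⁻¹) u * x⁻¹ = u := by
        rw [MulAut.conj_apply]; group
      show x * (MulAut.conj x⁻¹) u * x⁻¹ ∈ That
      rw [this]; exact hu
    · intro hs
      refine ⟨_, hs, ?_⟩
      show (MulAut.conj x⁻¹) _ = s
      rw [MulAut.conj_apply]; group
  have hS2 : IsPGroup 2 S := h.that_two.map _
  have hSt : ∀ s ∈ S, s * t = t * s := by
    intro s hs
    have h1 := hyc _ ((hSmem s).mp hs)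
    rw [← hx] at h1
    have h2 : x * (s * t) * x⁻¹ = x * (t * s) * x⁻¹ := by
      calc x * (s * t) * x⁻¹ = x * s * x⁻¹ * (x * t * x⁻¹) := by group
        _ = x * t * x⁻¹ * (x * s * x⁻¹) := h1
        _ = x * (t * s) * x⁻¹ := by group
    exact mul_left_cancel (mul_right_cancel h2)
  obtain ⟨c, hc, hcS⟩ := h.that_syl S hS2 hSt
  set n := c * x⁻¹ with hn
  have hny : n * y * n⁻¹ = t := by
    rw [hn, ← hx]
    calc c * x⁻¹ * (x * t * x⁻¹) * (c * x⁻¹)⁻¹ = c * t * c⁻¹ := by group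
      _ = t := by rw [hc]; group
  have hnT : ∀ u ∈ That, n * u * n⁻¹ ∈ That := by
    intro u hu
    have h1 : x⁻¹ * u * x ∈ S := (hSmem _).mpr (by
      have : x * (x⁻¹ * u * x) * x⁻¹ = u := by group
      rw [this]; exact hu)
    have h2 := hcS _ h1
    have h3 : n * u * n⁻¹ = c * (x⁻¹ * u * x) * c⁻¹ := by rw [hn]; group
    rw [h3]; exact h2
  obtain ⟨a, ha, b, hb, hab⟩ := h.surjA y hy
  have key : ∀ i, ∀ u ∈ A i, n * u * n⁻¹ ∈ T ∨ t * (n * u * n⁻¹) ∈ T := by
    intro i u hu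
    have hcA : ∀ a ∈ A i, a * t = t * a := fun a ha => h.T_comm (h.A_le i ha)
    have htA : t ∉ A i := fun h' => h.tT (h.A_le i h')
    set E := (adj t (A i) h.tt hcA).map (MulAut.conj n).toMonoidHom with hE
    have hEle : E ≤ That := by
      rintro _ ⟨v, hv, rfl⟩
      show n * v * n⁻¹ ∈ That
      apply hnT
      rcases hv with hv | hv
      · exact h.T_le (h.A_le i hv)
      · have h1 := That.mul_mem h.t_mem (h.T_le (h.A_le i hv))
        rwa [← mul_assoc, h.tt, one_mul] at h1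
    have hEsq : ∀ v ∈ E, v * v = 1 := by
      rintro _ ⟨v, hv, rfl⟩
      show n * v * n⁻¹ * (n * v * n⁻¹) = 1
      have hvv : v * v = 1 := by
        rcases hv with hv | hv
        · exact h.A_sq i v hv
        · have h1 := h.A_sq i _ hv
          have h2 := hcA _ hv
          calc v * v = t * t * v * v := by rw [h.tt, one_mul]
            _ = t * (t * v) * v := by group
            _ = t * v * t * v := by rw [h2]
            _ = t * v * (t * v) := by group
            _ = 1 := h1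
      calc n * v * n⁻¹ * (n * v * n⁻¹) = n * (v * v) * n⁻¹ := by group
        _ = 1 := by rw [hvv]; group
    have hEcard : Nat.card E = 32 := by
      rw [hE, Subgroup.card_map_of_injective (MulAut.conj n).injective, card_adj _ _ htA, h.cardA]
    obtain ⟨j, hj⟩ := h.O3 E hEle hEsq (by rw [hEcard])
    have h1 : n * u * n⁻¹ ∈ E := ⟨u, Or.inl hu, rfl⟩
    rcases (hj _).mp h1 with h2 | h2
    · exact Or.inl (h.A_le j h2)
    · exact Or.inr (h.A_le j h2)
  have h1 := h.comm_mem' (key _ a ha) (key _ b hb)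
  have h2 : n * a * n⁻¹ * (n * b * n⁻¹) * (n * a * n⁻¹)⁻¹ * (n * b * n⁻¹)⁻¹ = t := by
    calc n * a * n⁻¹ * (n * b * n⁻¹) * (n * a * n⁻¹)⁻¹ * (n * b * n⁻¹)⁻¹
        = n * (a * b * a⁻¹ * b⁻¹) * n⁻¹ := by group
      _ = t := by rw [hab, hny]
  rw [h2] at h1
  exact h.tT (h.Z_le_T h1)

end LocT

namespace Loc

variable {t : G} {T Z That O : Subgroup G} {A Q : Bool → Subgroup G}

theorem comm_A (h : Loc t T Z That O A Q) {i : Bool} {q : G} (hq : q ∈ Q i) :
    t * q * t⁻¹ * q⁻¹ ∈ A i := by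
  have hti := h.t_inv
  set r := t * q * t⁻¹ * q⁻¹ with hr
  have h1 : r ∈ Q i := (Q i).mul_mem (h.Q_norm i q hq) ((Q i).inv_mem hq)
  have h2 : t * r * t⁻¹ = r⁻¹ := by
    rw [hr]
    have : t * (t * q * t⁻¹ * q⁻¹) * t⁻¹ = (t * t) * q * t⁻¹ * q⁻¹ * t⁻¹ := by group
    rw [this, h.tt, one_mul, hti]
    rw [mul_inv_rev, mul_inv_rev, mul_inv_rev, inv_inv, hti]
    group
  have h3 : r⁻¹ = r := inv_eq_of_mul_eq_one_right (h.Q_sq i r h1)
  rw [h3] at h2
  apply h.Q_fix i r h1
  calc r * t = t * r * t⁻¹ * t := by rw [h2]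
    _ = t * r := by group

theorem Q_comm (h : Loc t T Z That O A Q) {i : Bool} {x y : G} (hx : x ∈ Q i) (hy : y ∈ Q i) :
    x * y = y * x := comm_of_sq (h.Q_sq i) hx hy

/-- `[t, Q i] = A i`. -/
theorem comm_surj [Finite G] (h : Loc t T Z That O A Q) {i : Bool} {a : G} (ha : a ∈ A i) :
    ∃ q ∈ Q i, t * q * t⁻¹ * q⁻¹ = a := by
  classical
  -- the homomorphism `q ↦ [t, q]`
  let f : Q i →* A i :=
    { toFun := fun q => ⟨t * q * t⁻¹ * (q : G)⁻¹, h.comm_A q.2⟩
      map_one' := Subtype.ext (by simp)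
      map_mul' := by
        rintro ⟨x, hx⟩ ⟨y, hy⟩
        apply Subtype.ext
        show t * (x * y) * t⁻¹ * (x * y)⁻¹ = t * x * t⁻¹ * x⁻¹ * (t * y * t⁻¹ * y⁻¹)
        have h1 := h.A_le_Q i (h.comm_A hy)
        have h2 := h.Q_comm ((Q i).inv_mem hx) h1
        calc t * (x * y) * t⁻¹ * (x * y)⁻¹ = t * x * t⁻¹ * ((t * y * t⁻¹ * y⁻¹) * x⁻¹) := by group
          _ = t * x * t⁻¹ * (x⁻¹ * (t * y * t⁻¹ * y⁻¹)) := by rw [h2]
          _ = _ := by group }
  have hker : f.ker = (A i).subgroupOf (Q i) := by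
    ext ⟨x, hx⟩
    rw [MonoidHom.mem_ker, Subgroup.mem_subgroupOf]
    constructor
    · intro hx1
      have h1 : t * x * t⁻¹ * x⁻¹ = 1 := congrArg Subtype.val hx1
      apply h.Q_fix i x hx
      calc x * t = x * t := rfl
        _ = (t * x * t⁻¹ * x⁻¹)⁻¹ * (t * x) := by group
        _ = t * x := by rw [h1]; group
    · intro hx1
      apply Subtype.ext
      show t * x * t⁻¹ * x⁻¹ = 1
      rw [← h.T_comm (h.A_le i hx1)]; group
  have hcard : Nat.card f.ker = 16 := by
    rw [hker, Nat.card_congr (Subgroup.subgroupOfEquivOfLe (h.A_le_Q i)).toEquiv, h.cardA]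
  have hrange : Nat.card f.range = 16 := by
    have h1 := Subgroup.card_mul_index f.ker
    rw [Subgroup.index_ker, hcard, h.cardQ] at h1
    omega
  have htop : f.range = ⊤ := by
    apply Subgroup.eq_top_of_card_eq
    rw [hrange, h.cardA]
  have : (⟨a, ha⟩ : A i) ∈ f.range := by rw [htop]; exact Subgroup.mem_top _
  obtain ⟨⟨q, hq⟩, e⟩ := this
  exact ⟨q, hq, congrArg Subtype.val e⟩

/-- `Q i` is the only elementary abelian subgroup of order `2^8` centralising `A i` and normalised by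
`t` with commutators in `A i`. -/
theorem eq_Q [Finite G] (h : Loc t T Z That O A Q) {i : Bool} {R : Subgroup G}
    (hR : ∀ r ∈ R, r * r = 1) (hcard : Nat.card R = 256)
    (hRA : ∀ r ∈ R, ∀ a ∈ A i, r * a = a * r)
    (hRt : ∀ r ∈ R, t * r * t⁻¹ * r⁻¹ ∈ A i) : R = Q i := by
  have hti := h.t_inv
  -- every element of `R` lies in `Q i` or `Q i t`
  have key : ∀ r ∈ R, r ∈ Q i ∨ ∃ q ∈ Q i, r = q * t := by
    intro r hr
    obtain ⟨q, hq, e⟩ := h.comm_surj (hRt r hr)
    set a := t * r * t⁻¹ * r⁻¹ with ha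
    have haA : a ∈ A i := hRt r hr
    have hx1 : q⁻¹ * r * t = t * (q⁻¹ * r) := by
      have h1 : t * r = a * r * t := by rw [ha]; group
      have h2 : t * q = a * q * t := by rw [← e]; group
      have h3 : a * q = q * a := h.Q_comm (h.A_le_Q i haA) hq
      have h4 : a * r = r * a := (hRA r hr a haA).symm
      have hta : a * t = t * a := h.T_comm (h.A_le i haA)
      -- t q⁻¹ = q⁻¹ a⁻¹ t ...
      have h5 : t * q⁻¹ = q⁻¹ * a * t := by
        have h6 : q * t = a * t * q := by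
          have : t * q * t = a * q := by rw [h2, mul_assoc, h.tt, mul_one]
          calc q * t = t * (t * q * t) := by
                rw [← mul_assoc, ← mul_assoc, h.tt, one_mul]
            _ = t * (a * q) := by rw [this]
            _ = a * t * q := by rw [← mul_assoc, hta]
        have h7 : t * q⁻¹ = q⁻¹ * (q * t) * q⁻¹ := by group
        rw [h7, h6]; group
      calc q⁻¹ * r * t = q⁻¹ * (r * t) := by group
        _ = q⁻¹ * (a * (a * (r * t))) := by
            rw [← mul_assoc a a, h.A_sq i a haA, one_mul]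
        _ = q⁻¹ * a * (a * r * t) := by group
        _ = q⁻¹ * a * (t * r) := by rw [h1]
        _ = (q⁻¹ * a * t) * r := by group
        _ = t * (q⁻¹ * r) := by rw [← h5]; group
    have hx2 : ∀ b ∈ A i, q⁻¹ * r * b = b * (q⁻¹ * r) := by
      intro b hb
      have h1 := hRA r hr b hb
      have h2 := h.Q_comm ((Q i).inv_mem hq) (h.A_le_Q i hb)
      calc q⁻¹ * r * b = q⁻¹ * (r * b) := by group
        _ = (q⁻¹ * b) * r := by rw [h1]; group
        _ = b * (q⁻¹ * r) := by rw [h2]; group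
    obtain ⟨o, ho, b, hb, hcase⟩ := h.centTA i _ hx1 hx2
    have hbQ := h.A_le_Q i hb
    rcases hcase with hcase | hcase
    · -- r = o (q b)
      have hr1 : r = o * (q * b) := by
        calc r = q * (q⁻¹ * r) := by group
          _ = (q * o) * b := by rw [hcase]; group
          _ = o * (q * b) := by rw [← h.OQ o ho i q hq]; group
      have hqb := (Q i).mul_mem hq hbQ
      have h2 : o * o = 1 := by
        have h3 := hR r hr
        rw [hr1] at h3
        have h4 := h.OQ o ho i _ hqb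
        calc o * o = o * o * ((q * b) * (q * b)) := by rw [h.Q_sq i _ hqb, mul_one]
          _ = o * (o * (q * b)) * (q * b) := by group
          _ = o * ((q * b) * o) * (q * b) := by rw [h4]
          _ = o * (q * b) * (o * (q * b)) := by group
          _ = 1 := h3
      have h5 := odd_sq_eq_one h.O_odd ho h2
      left
      rw [hr1, h5, one_mul]; exact hqb
    · have hbt : b * t = t * b := h.T_comm (h.A_le i hb)
      have hqb := (Q i).mul_mem hq hbQ
      have hr1 : r = o * (q * b * t) := by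
        calc r = q * (q⁻¹ * r) := by group
          _ = (q * o) * (t * b) := by rw [hcase]; group
          _ = o * (q * b * t) := by rw [← h.OQ o ho i q hq, ← hbt]; group
      set v := q * b * t with hv
      have hvo : o * v = v * o := by
        have h4 := h.OQ o ho i _ hqb
        calc o * v = (o * (q * b)) * t := by rw [hv]; group
          _ = (q * b) * (o * t) := by rw [h4]; group
          _ = v * o := by rw [h.Ot o ho, hv]; group
      have hv2 : v * v ∈ Q i := by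
        have : v * v = (q * b) * (t * (q * b) * t⁻¹) := by rw [hv, hti]; group
        rw [this]
        exact (Q i).mul_mem hqb (h.Q_norm i _ hqb)
      have h3 := hR r hr
      have h4 : (o * o) * (v * v) = 1 := by
        calc (o * o) * (v * v) = o * (o * v) * v := by group
          _ = o * (v * o) * v := by rw [hvo]
          _ = (o * v) * (o * v) := by group
          _ = 1 := by rw [← hr1]; exact h3
      have h5 : (o * o) * (o * o) = 1 := by
        have h6 : o * o = (v * v)⁻¹ := eq_inv_of_mul_eq_one_left h4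
        have h7 := h.Q_sq i _ ((Q i).inv_mem hv2)
        rw [← h6] at h7
        exact h7
      have h6 := odd_sq_eq_one h.O_odd (O.mul_mem ho ho) h5
      have h7 := odd_sq_eq_one h.O_odd ho h6
      right
      exact ⟨q * b, hqb, by rw [hr1, h7, one_mul]⟩
  -- if `R` is not contained in `Q i`, it is too small
  by_contra hne
  have hnle : ¬ R ≤ Q i := by
    intro hle
    apply hne
    exact Subgroup.eq_of_le_of_card_ge hle (by rw [hcard, h.cardQ])
  obtain ⟨r0, hr0, hr0Q⟩ := SetLike.not_le_iff_exists.mp hnle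
  obtain ⟨q0, hq0, e0⟩ := (key r0 hr0).resolve_left hr0Q
  have hRQ : R ⊓ Q i ≤ A i := by
    rintro x ⟨hxR, hxQ⟩
    apply h.Q_fix i x hxQ
    have h1 := comm_of_sq hR hxR hr0
    rw [e0] at h1
    have h2 := h.Q_comm hxQ hq0
    have h3 : q0 * (x * t) = q0 * (t * x) := by
      calc q0 * (x * t) = (q0 * x) * t := by group
        _ = x * (q0 * t) := by rw [← h2]; group
        _ = q0 * (t * x) := by rw [h1]; group
    exact mul_left_cancel h3
  have hidx : ((R ⊓ Q i).subgroupOf R).index ≤ 2 := by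
    apply Nat.le_of_dvd (by norm_num)
    rw [Subgroup.index_dvd_two_iff]
    refine ⟨⟨r0, hr0⟩, fun b => ?_⟩
    obtain ⟨b, hb⟩ := b
    rw [Subgroup.mem_subgroupOf, Subgroup.mem_subgroupOf]
    show b * r0 ∈ R ⊓ Q i ∨ b ∈ R ⊓ Q i
    rcases key b hb with h1 | ⟨q, hq, h1⟩
    · exact Or.inr ⟨hb, h1⟩
    · left
      refine ⟨R.mul_mem hb hr0, ?_⟩
      have h2 : b * r0 = q * (t * q0 * t⁻¹) := by rw [h1, e0, hti]; group
      rw [h2]
      exact (Q i).mul_mem hq (h.Q_norm i q0 hq0)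
  have h1 := Subgroup.card_mul_index ((R ⊓ Q i).subgroupOf R)
  rw [Nat.card_congr (Subgroup.subgroupOfEquivOfLe (inf_le_left : R ⊓ Q i ≤ R)).toEquiv,
    hcard] at h1
  have h2 : Nat.card (R ⊓ Q i : Subgroup G) ≤ 16 := by
    rw [← h.cardA i]
    exact Subgroup.card_le_of_le hRQ
  have h3 : Nat.card (R ⊓ Q i : Subgroup G) * ((R ⊓ Q i).subgroupOf R).index ≤ 16 * 2 :=
    Nat.mul_le_mul h2 hidx
  omega

/-- `That` permutes the groups `A i`. -/
theorem conj_A (h : Loc t T Z That O A Q) [Finite G] {c : G} (hc : c ∈ That) (i : Bool) :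
    ∃ j, (A i).map (MulAut.conj c).toMonoidHom = A j := by
  have hcard : Nat.card ((A i).map (MulAut.conj c).toMonoidHom) = 16 := by
    rw [Subgroup.card_map_of_injective (MulAut.conj c).injective, h.cardA]
  apply h.eq_A
  · rintro _ ⟨x, hx, rfl⟩
    exact h.T_norm c hc x (h.A_le i hx)
  · rintro _ ⟨x, hx, rfl⟩
    show c * x * c⁻¹ * (c * x * c⁻¹) = 1
    calc c * x * c⁻¹ * (c * x * c⁻¹) = c * (x * x) * c⁻¹ := by group
      _ = 1 := by rw [h.A_sq i x hx]; group
  · exact hcard.ge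

/-- `That` permutes the groups `Q i`. -/
theorem conj_Q (h : Loc t T Z That O A Q) [Finite G] {c : G} (hc : c ∈ That) (i : Bool) :
    ∃ j, (Q i).map (MulAut.conj c).toMonoidHom = Q j := by
  obtain ⟨j, hj⟩ := h.conj_A hc i
  refine ⟨j, ?_⟩
  have hct := h.that_comm c hc
  have hct' : c⁻¹ * t = t * c⁻¹ := h.that_comm _ (That.inv_mem hc)
  apply h.eq_Q
  · rintro _ ⟨x, hx, rfl⟩
    show c * x * c⁻¹ * (c * x * c⁻¹) = 1
    calc c * x * c⁻¹ * (c * x * c⁻¹) = c * (x * x) * c⁻¹ := by group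
      _ = 1 := by rw [h.Q_sq i x hx]; group
  · rw [Subgroup.card_map_of_injective (MulAut.conj c).injective, h.cardQ]
  · rintro _ ⟨x, hx, rfl⟩ a ha
    rw [← hj] at ha
    obtain ⟨b, hb, rfl⟩ := ha
    show c * x * c⁻¹ * (c * b * c⁻¹) = c * b * c⁻¹ * (c * x * c⁻¹)
    have h1 := h.Q_comm hx (h.A_le_Q i hb)
    calc c * x * c⁻¹ * (c * b * c⁻¹) = c * (x * b) * c⁻¹ := by group
      _ = c * (b * x) * c⁻¹ := by rw [h1]
      _ = _ := by group
  · rintro _ ⟨x, hx, rfl⟩
    rw [← hj]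
    refine ⟨_, h.comm_A hx, ?_⟩
    show c * (t * x * t⁻¹ * x⁻¹) * c⁻¹ = t * (c * x * c⁻¹) * t⁻¹ * (c * x * c⁻¹)⁻¹
    have hti := h.t_inv
    calc c * (t * x * t⁻¹ * x⁻¹) * c⁻¹ = (c * t) * x * (t * x⁻¹) * c⁻¹ := by rw [hti]; group
      _ = t * c * x * (t * x⁻¹) * c⁻¹ := by rw [hct]
      _ = t * (c * x * c⁻¹) * (c * t) * x⁻¹ * c⁻¹ := by group
      _ = t * (c * x * c⁻¹) * (t * c) * x⁻¹ * c⁻¹ := by rw [hct]
      _ = t * (c * x * c⁻¹) * t * (c * x * c⁻¹)⁻¹ := by group
      _ = _ := by rw [hti]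

/-- `U = Q₁ Q₂` is normalised by `That`. -/
theorem conj_sup (h : Loc t T Z That O A Q) [Finite G] {c : G} (hc : c ∈ That) {x : G}
    (hx : x ∈ Q false ⊔ Q true) : c * x * c⁻¹ ∈ Q false ⊔ Q true := by
  have h1 : (Q false ⊔ Q true).map (MulAut.conj c).toMonoidHom ≤ Q false ⊔ Q true := by
    rw [Subgroup.map_sup]
    apply sup_le
    · obtain ⟨j, hj⟩ := h.conj_Q hc false
      rw [hj]
      cases j
      · exact le_sup_left
      · exact le_sup_right
    · obtain ⟨j, hj⟩ := h.conj_Q hc true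
      rw [hj]
      cases j
      · exact le_sup_left
      · exact le_sup_right
  exact h1 ⟨x, hx, rfl⟩

/-- maximality of `That` -/
theorem mem_that (h : Loc t T Z That O A Q) [Finite G] {S : Subgroup G} (hS : IsPGroup 2 S)
    (hSt : ∀ x ∈ S, x * t = t * x) (hle : That ≤ S) : S = That := by
  obtain ⟨c, -, hc⟩ := h.that_syl S hS hSt
  symm
  apply Subgroup.eq_of_le_of_card_ge hle
  have h1 : S.map (MulAut.conj c).toMonoidHom ≤ That := by
    rintro _ ⟨x, hx, rfl⟩
    exact hc x hx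
  have h2 := Subgroup.card_le_of_le h1
  rwa [Subgroup.card_map_of_injective (MulAut.conj c).injective] at h2

/-- a `2`-subgroup of `C_G(t)` normalised by `That` lies in `That` -/
theorem le_that (h : Loc t T Z That O A Q) [Finite G] {F : Subgroup G} (hF : IsPGroup 2 F)
    (hFt : ∀ x ∈ F, x * t = t * x) (hn : ∀ c ∈ That, ∀ x ∈ F, c * x * c⁻¹ ∈ F) : F ≤ That := by
  have hnorm : That ≤ Subgroup.normalizer (F : Set G) := by
    intro c hc
    rw [Subgroup.mem_normalizer_iff]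
    intro x
    constructor
    · exact hn c hc x
    · intro hx
      have := hn _ (That.inv_mem hc) _ hx
      have e : c⁻¹ * (c * x * c⁻¹) * c⁻¹⁻¹ = x := by group
      rwa [e] at this
  have h1 : IsPGroup 2 (That ⊔ F : Subgroup G) := h.that_two.to_sup_of_normal_right' hF hnorm
  have h2 : That ⊔ F = That := by
    apply h.mem_that h1 _ le_sup_left
    intro x hx
    have h3 : That ⊔ F ≤ Subgroup.centralizer ({t} : Set G) := by
      apply sup_le
      · intro y hy
        rw [Subgroup.mem_centralizer_singleton_iff]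
        exact h.that_comm y hy
      · intro y hy
        rw [Subgroup.mem_centralizer_singleton_iff]
        exact hFt y hy
    have := h3 hx
    rwa [Subgroup.mem_centralizer_singleton_iff] at this
  rw [← h2]; exact le_sup_right

end Loc

end Cfsg.Agent.StdL3.ExtLoc
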