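import Cfsg.Agent.StdL3.OneLoc
import Cfsg.Agent.StdLThreeFour.RTwo
import Cfsg.Agent.StdLThreeFour.Assembly

set_option autoImplicit false
set_option linter.constructorNameAsVariable false
set_option linter.unusedVariables false

/-!
# Standard `L₃(4)`: the case `|R| = 2` does not occur
-/

namespace Cfsg.Agent.StdL3.OneNoTwo

open Cfsg.Agent.LThreeFour
open Cfsg.Agent.SporadicA.FieldFour
open Cfsg.Agent.StdL3.OneRoot (hh)
open Cfsg.Agent.StdL3.OneGrow (r r_mem r_row r_col)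
open Cfsg.Agent.StdL3.OneLift
open Cfsg.Agent.StdL3.OneLoc
open Cfsg.Agent.StdLThreeFour.Base (L0 S0 Z0 e)
open Cfsg.Agent.StdLThreeFour.Emb
open Cfsg.Agent.StdLThreeFour.Red2e (Out)

variable {G : Type*} [Group G]

/-- coordinates on the component -/
noncomputable def dat (S : SEmb G) : Dat S.ι.range := datPSL.map (MonoidHom.ofInjective S.inj)

theorem r_dat (S : SEmb G) (i j : Fin 3) (u : F4) :
    r (dat S) i j u = S.ι (Cfsg.Agent.ONType.Psl.t i j u) := rfl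

theorem E_dat (S : SEmb G) (p : Code) : OneRoot.E (dat S) p = S.ι (e p.a p.b p.c) := by
  have h1 : OneRoot.E (dat S) p = r (dat S) 0 1 p.a * r (dat S) 1 2 p.b * r (dat S) 0 2 p.c := rfl
  rw [h1, r_dat, r_dat, r_dat, ← map_mul, ← map_mul]
  rfl

theorem z_dat (S : SEmb G) (c : F4) : OneY.z (dat S) c = S.ι (e 0 0 c) := E_dat S _

theorem t_mul_02_01 (u v : F4) : Cfsg.Agent.ONType.Psl.t 0 2 u * Cfsg.Agent.ONType.Psl.t 0 1 v =
    e v 0 u := by
  rw [Cfsg.Agent.ONType.Psl.t_row 0 2 1 u v (by decide) (by decide)]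
  unfold e
  rw [Cfsg.Agent.ONType.Psl.t_zero, mul_one]

theorem t_mul_02_12 (u v : F4) : Cfsg.Agent.ONType.Psl.t 0 2 u * Cfsg.Agent.ONType.Psl.t 1 2 v =
    e 0 v u := by
  rw [Cfsg.Agent.ONType.Psl.t_col 0 2 1 u v (by decide) (by decide)]
  unfold e
  rw [Cfsg.Agent.ONType.Psl.t_zero, one_mul]

theorem noTwo [Finite G] [IsSimpleGroup G] (hG : ¬ ∀ a b : G, a * b = b * a) :
    Cfsg.Agent.StdLThreeFour.Assembly.NoTwo G := by
  intro S R h ho h2
  obtain ⟨t, That, O, n, hL, htK, hOK, hOodd, hOt, hcK, hcS, hcA, htD, hnL, hn1, hn2, hnO1, hnO2,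
    hCO, z, hz, hz1, hnt⟩ := Cfsg.Agent.StdLThreeFour.RTwo.exists_two ho h2
  have hK : ∀ k ∈ S.K, ∀ l ∈ S.ι.range, k * l = l * k := by
    rintro k hk _ ⟨y, rfl⟩
    exact (SEmb.mem_K.mp hk y).eq
  have hI : GInp (dat S) t n O := {
    tt := hL.tt
    tn := by
      rintro ⟨y, hy⟩
      exact hnL y (hy ▸ IsConj.refl _)
    tL := hK t htK
    Oodd := hOodd
    Ot := hOt
    OL := fun o ho => hK o (hOK ho)
    cent := by
      intro x hx hxE
      obtain ⟨o, ho, _, ⟨a, ha, rfl⟩, he⟩ := hcS x hx (by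
        rintro _ ⟨s, ⟨a, b, c, rfl⟩, rfl⟩
        have := hxE ⟨a, b, c⟩
        rw [E_dat] at this
        exact this)
      obtain ⟨c, rfl⟩ := ha
      exact ⟨o, ho, c, by rw [z_dat]; exact he⟩
    centR := by
      intro x hx hx1 hx2
      obtain ⟨o, ho, _, ⟨a, ha, rfl⟩, he⟩ := hcA false x hx (by
        rintro _ ⟨s, ⟨u, c, rfl⟩, rfl⟩
        have h1 := hx1 c
        have h2 := hx2 u
        rw [r_dat] at h1 h2
        show x * S.ι (e u 0 c) = S.ι (e u 0 c) * x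
        rw [← t_mul_02_01, map_mul, ← mul_assoc, h1, mul_assoc, h2, mul_assoc])
      obtain ⟨u, c, rfl⟩ := ha
      refine ⟨o, ho, c, u, ?_⟩
      rw [r_dat, r_dat, ← map_mul, t_mul_02_01]; exact he
    centC := by
      intro x hx hx1 hx2
      obtain ⟨o, ho, _, ⟨a, ha, rfl⟩, he⟩ := hcA true x hx (by
        rintro _ ⟨s, ⟨u, c, rfl⟩, rfl⟩
        have h1 := hx1 c
        have h2 := hx2 u
        rw [r_dat] at h1 h2
        show x * S.ι (e 0 u c) = S.ι (e 0 u c) * x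
        rw [← t_mul_02_12, map_mul, ← mul_assoc, h1, mul_assoc, h2, mul_assoc])
      obtain ⟨u, c, rfl⟩ := ha
      refine ⟨o, ho, c, u, ?_⟩
      rw [r_dat, r_dat, ← map_mul, t_mul_02_12]; exact he
    nT := by
      intro p
      obtain ⟨s, ⟨a, b, c, rfl⟩, hs⟩ := hn1 (OneRoot.E (dat S) p) (by
        rw [E_dat]; exact ⟨_, ⟨_, _, _, rfl⟩, rfl⟩)
      refine ⟨⟨a, b, c⟩, ?_⟩
      rw [← hs, E_dat]
    nO := hnO1
    mv := by
      obtain ⟨c, rfl⟩ := hz
      refine ⟨c, ?_, ?_⟩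
      · rintro rfl
        exact hz1 Cfsg.Agent.StdLThreeFour.Base.e_zero
      · rw [z_dat]; exact hnt }
  obtain ⟨Y1, Y2, Y3, U, hg⟩ := hI.exists_out
  obtain ⟨τ, hτ⟩ := exists_tau hg
  have hLoc : ExtLoc.Loc t (S0.map S.ι) (Z0.map S.ι) That O
      (fun i => (Cfsg.Agent.StdLThreeFour.Base.A i).map S.ι) (QQ hg) := {
    toLocT := hL
    centTA := hcA
    O_odd := hOodd
    OQ := fun o ho i q hq => hg.cO o ho q (QQ_le hg i hq)
    Ot := hOt
    tD := by
      rintro _ ⟨s, hs, rfl⟩ h1 h2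
      apply htD s
      · rintro rfl; exact h2 (map_one _)
      · apply S.inj; rw [map_mul, h1, map_one]
    cardQ := card_QQ hg
    Q_sq := sq_QQ hg
    A_le_Q := by
      intro i
      cases i
      · rintro _ ⟨_, ⟨u, c, rfl⟩, rfl⟩
        show S.ι (e u 0 c) ∈ _
        rw [← t_mul_02_01, map_mul]
        exact Subgroup.mul_mem _ (Y3_le hg false (hg.grown.m3 c)) (Y1_le hg (hg.grown.m1 u))
      · rintro _ ⟨_, ⟨u, c, rfl⟩, rfl⟩
        show S.ι (e 0 u c) ∈ _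
        rw [← t_mul_02_12, map_mul]
        exact Subgroup.mul_mem _ (Y3_le hg true (hg.grown.m3 c)) (Y2_le hg (hg.grown.m2 u))
    Q_norm := norm_QQ hg
    Q_fix := by
      intro i
      cases i
      · intro q hq h
        obtain ⟨u, v, rfl⟩ := fix_false hg q hq h
        refine ⟨e u 0 v, ⟨u, v, rfl⟩, ?_⟩
        rw [← t_mul_02_01, map_mul, r_row (dat S) (by decide) (by decide)]; rfl
      · intro q hq h
        obtain ⟨u, v, rfl⟩ := fix_true hg q hq h
        refine ⟨e 0 u v, ⟨u, v, rfl⟩, ?_⟩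
        rw [← t_mul_02_12, map_mul, r_col (dat S) (by decide) (by decide)]; rfl }
  have hPack : Pack.Pack U τ := hg.grown.pack τ hτ
  exact ExtEnd.false_of_loc hG hLoc (U_eq hg) τ hτ hPack

end Cfsg.Agent.StdL3.OneNoTwo
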