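import Cfsg.Agent.StdL3.ExtLoc

set_option autoImplicit false

/-!
# Section 6 of blueprints/S1748-outer.md

`HF U J t`: facts on a conjugate `U` of `U₀` normalised by `t` with `χ(t) ≠ 1`; `J = Z(U)`.
Main lemma `HF.Q_le`: if moreover `That` normalises `U`, then `Q i ≤ U` for both `i`.
-/

namespace Cfsg.Agent.StdL3.ExtMain

open Cfsg.Agent.StdL3.ExtLoc

variable {G : Type*} [Group G]

structure HF (U J : Subgroup G) (t : G) : Prop where
  two : IsPGroup 2 U
  J_le : J ≤ U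
  central : ∀ j ∈ J, ∀ u ∈ U, u * j = j * u
  mem_J : ∀ u ∈ U, (∀ v ∈ U, v * u = u * v) → u ∈ J
  comm : ∀ u ∈ U, ∀ v ∈ U, u * v * u⁻¹ * v⁻¹ ∈ J
  norm : ∀ u ∈ U, t * u * t⁻¹ ∈ U
  card4 : Nat.card {c : G // c ∈ J ∧ c * t = t * c} = 4
  card64 : 64 ≤ Nat.card {u : G // u ∈ U ∧ u * t = t * u}
  ab : ∀ u ∈ U, u * u = 1 → (∀ z ∈ J, z * t = t * z → ∃ v ∈ U, u * v * u⁻¹ * v⁻¹ = z) →
    (∀ v ∈ U, ∀ w ∈ U, u * v = v * u → u * w = w * u → v * w = w * v ∧ v * v = 1) ∧
      Nat.card {v : G // v ∈ U ∧ u * v = v * u} = 256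

namespace HF

variable {t : G} {T Z That O U J : Subgroup G} {A Q : Bool → Subgroup G}

/-- `C_U(t)` -/
def F (_ : HF U J t) : Subgroup G := U ⊓ Subgroup.centralizer {t}

/-- `C_J(t)` -/
def ZF (_ : HF U J t) : Subgroup G := J ⊓ Subgroup.centralizer {t}

theorem mem_F (h : HF U J t) {x : G} : x ∈ h.F ↔ x ∈ U ∧ x * t = t * x := by
  rw [F, Subgroup.mem_inf, Subgroup.mem_centralizer_singleton_iff]

theorem mem_ZF (h : HF U J t) {x : G} : x ∈ h.ZF ↔ x ∈ J ∧ x * t = t * x := by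
  rw [ZF, Subgroup.mem_inf, Subgroup.mem_centralizer_singleton_iff]

theorem card_ZF (h : HF U J t) : Nat.card h.ZF = 4 := by
  rw [← h.card4]
  exact Nat.card_congr (Equiv.subtypeEquivRight fun x => h.mem_ZF)

theorem card_F (h : HF U J t) : 64 ≤ Nat.card h.F := by
  refine h.card64.trans (le_of_eq ?_)
  exact (Nat.card_congr (Equiv.subtypeEquivRight fun x => h.mem_F)).symm

theorem ZF_le_F (h : HF U J t) : h.ZF ≤ h.F := fun x hx => by
  rw [h.mem_F]; rw [h.mem_ZF] at hx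
  exact ⟨h.J_le hx.1, hx.2⟩

/-- counting lemma: `|T| ≤ |z^T| |C_T(z)|` -/
theorem card_le_mul [Finite G] (T : Subgroup G) (z : G) (S : Set G) {m n : ℕ}
    (hS : ∀ x ∈ T, x * z * x⁻¹ ∈ S) (hm : S.ncard ≤ m)
    (hn : Nat.card {x : G // x ∈ T ∧ z * x = x * z} ≤ n) : Nat.card T ≤ n * m := by
  classical
  have := Fintype.ofFinite G
  set s : Finset G := Finset.univ.filter (fun x => x ∈ T) with hs
  have h1 : Nat.card T = s.card := by
    rw [Nat.card_eq_fintype_card, Fintype.card_subtype]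
  have h2 : s.card ≤ n * (s.image (fun x => x * z * x⁻¹)).card := by
    apply Finset.card_le_mul_card_image
    intro b hb
    obtain ⟨x0, hx0, e0⟩ := Finset.mem_image.mp hb
    have hx0T : x0 ∈ T := by simpa [hs] using hx0
    refine le_trans ?_ hn
    rw [Nat.card_eq_fintype_card, Fintype.card_subtype]
    apply Finset.card_le_card_of_injOn (fun x => x0⁻¹ * x)
    · intro x hx
      have hx' : x ∈ T ∧ x * z * x⁻¹ = b := by simpa [hs] using hx
      have h3 : x0⁻¹ * x ∈ T := T.mul_mem (T.inv_mem hx0T) hx'.1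
      have h4 : z * (x0⁻¹ * x) = x0⁻¹ * x * z := by
        have h5 : x0 * z * x0⁻¹ = x * z * x⁻¹ := by rw [hx'.2]; exact e0
        calc z * (x0⁻¹ * x) = x0⁻¹ * (x0 * z * x0⁻¹) * x := by group
          _ = x0⁻¹ * x * z := by rw [h5]; group
      simp only [Finset.coe_filter, Finset.mem_univ, true_and, Set.mem_ofPred_eq]
      exact ⟨h3, h4⟩
    · intro x _ y _ hxy
      exact mul_left_cancel hxy
  have h3 : (s.image (fun x => x * z * x⁻¹)).card ≤ m := by
    refine le_trans ?_ hm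
    rw [← Set.ncard_coe_finset]
    apply Set.ncard_le_ncard _ (Set.toFinite _)
    intro y hy
    simp only [Finset.coe_image, Set.mem_image, Finset.mem_coe] at hy
    obtain ⟨x, hx, rfl⟩ := hy
    exact hS x (by simpa [hs] using hx)
  rw [h1]
  exact h2.trans (Nat.mul_le_mul_left n h3)

theorem conj_J (k : HF U J t) {c : G} (hc : ∀ u ∈ U, c * u * c⁻¹ ∈ U)
    (hc' : ∀ u ∈ U, c⁻¹ * u * c ∈ U) {j : G} (hj : j ∈ J) : c * j * c⁻¹ ∈ J := by
  apply k.mem_J _ (hc _ (k.J_le hj))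
  intro v hv
  have h1 := k.central j hj _ (hc' v hv)
  calc v * (c * j * c⁻¹) = c * (c⁻¹ * v * c * j) * c⁻¹ := by group
    _ = c * (j * (c⁻¹ * v * c)) * c⁻¹ := by rw [h1]
    _ = c * j * c⁻¹ * v := by group

/-- the hypotheses of the main lemma -/
structure Hyp (t : G) (T Z That O : Subgroup G) (A Q : Bool → Subgroup G) (U J : Subgroup G) :
    Prop where
  loc : Loc t T Z That O A Q
  hf : HF U J t
  norm : ∀ c ∈ That, ∀ u ∈ U, c * u * c⁻¹ ∈ U
  noD : ∀ u ∈ U, ¬ IsConj t u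

variable [Finite G]

theorem F_le (h : Hyp t T Z That O A Q U J) : h.hf.F ≤ That := by
  apply h.loc.le_that
  · exact h.hf.two.to_le (fun x hx => (h.hf.mem_F.mp hx).1)
  · intro x hx; exact (h.hf.mem_F.mp hx).2
  · intro c hc x hx
    rw [h.hf.mem_F] at hx ⊢
    refine ⟨h.norm c hc x hx.1, ?_⟩
    have h1 := h.loc.that_comm c hc
    have h2 : c⁻¹ * t = t * c⁻¹ := h.loc.that_comm _ (That.inv_mem hc)
    calc c * x * c⁻¹ * t = c * x * (c⁻¹ * t) := by group
      _ = c * (x * t) * c⁻¹ := by rw [h2]; group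
      _ = (c * t) * x * c⁻¹ := by rw [hx.2]; group
      _ = t * (c * x * c⁻¹) := by rw [h1]; group

theorem conj_ZF (h : Hyp t T Z That O A Q U J) {c : G} (hc : c ∈ That) {z : G}
    (hz : z ∈ h.hf.ZF) : c * z * c⁻¹ ∈ h.hf.ZF := by
  rw [h.hf.mem_ZF] at hz ⊢
  refine ⟨h.hf.conj_J (h.norm c hc) ?_ hz.1, ?_⟩
  · intro u hu
    have := h.norm _ (That.inv_mem hc) u hu
    rwa [inv_inv] at this
  · have h1 := h.loc.that_comm c hc
    have h2 : c⁻¹ * t = t * c⁻¹ := h.loc.that_comm _ (That.inv_mem hc)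
    calc c * z * c⁻¹ * t = c * z * (c⁻¹ * t) := by group
      _ = c * (z * t) * c⁻¹ := by rw [h2]; group
      _ = (c * t) * z * c⁻¹ := by rw [hz.2]; group
      _ = t * (c * z * c⁻¹) := by rw [h1]; group

theorem t_not_mem (h : Hyp t T Z That O A Q U J) : t ∉ U := fun ht =>
  h.noD t ht (IsConj.refl t)

/-- 6a, first part -/
theorem ZF_inner (h : Hyp t T Z That O A Q U J) {z : G} (hz : z ∈ h.hf.ZF) :
    z ∈ T ∨ t * z ∈ T := by
  by_contra hcon
  rw [not_or] at hcon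
  have hzThat : z ∈ That := F_le h (h.hf.ZF_le_F hz)
  have hO1 := h.loc.O1 z hzThat hcon.1 hcon.2
  have hz1 : z ≠ 1 := fun e => hcon.1 (e ▸ T.one_mem)
  have h1 : Nat.card T ≤ 16 * 3 := by
    apply card_le_mul T z {x | x ∈ h.hf.ZF ∧ x ≠ 1}
    · intro x hx
      refine ⟨conj_ZF h (h.loc.T_le hx) hz, fun e => hz1 ?_⟩
      have : z = x⁻¹ * (x * z * x⁻¹) * x := by group
      rw [this, e]; group
    · have h2 : {x | x ∈ h.hf.ZF ∧ x ≠ 1} = (h.hf.ZF : Set G) \ {1} := by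
        ext x; simp
      rw [h2, Set.ncard_sdiff_singleton_of_mem h.hf.ZF.one_mem]
      have h3 : (h.hf.ZF : Set G).ncard = 4 := h.hf.card_ZF
      rw [h3]
    · refine le_trans ?_ hO1
      apply Nat.card_le_card_of_injective
        (fun x : {x : G // x ∈ T ∧ z * x = x * z} =>
          (⟨x.1, x.2.1, by
            have : z * x.1 * z⁻¹ * x.1⁻¹ = 1 := by rw [x.2.2]; group
            rw [this]; exact Z.one_mem⟩ : {y : G // y ∈ T ∧ z * y * z⁻¹ * y⁻¹ ∈ Z}))
      intro x y hxy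
      exact Subtype.ext (congrArg (fun w => w.1) hxy)
  rw [h.loc.cardT] at h1
  omega

/-- commutators do not see `t` -/
theorem comm_t {t p x : G} (htp : p * t = t * p) (htx : x * t = t * x) :
    t * p * x * (t * p)⁻¹ * x⁻¹ = p * x * p⁻¹ * x⁻¹ := by
  have h1 : t * p = p * t := htp.symm
  rw [h1, mul_inv_rev]
  calc p * t * x * (t⁻¹ * p⁻¹) * x⁻¹ = p * (t * x) * t⁻¹ * p⁻¹ * x⁻¹ := by group
    _ = p * (x * t) * t⁻¹ * p⁻¹ * x⁻¹ := by rw [htx]
    _ = _ := by group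

/-- 6a -/
theorem ZF_eq (h : Hyp t T Z That O A Q U J) : h.hf.ZF = Z := by
  have hti := h.loc.t_inv
  apply Subgroup.eq_of_le_of_card_ge _ (by rw [h.hf.card_ZF, h.loc.cardZ])
  intro z hz
  -- step: `z ∈ Z` or `t z ∈ Z`
  have hstep : z ∈ Z ∨ t * z ∈ Z := by
    have hzt : z * t = t * z := (h.hf.mem_ZF.mp hz).2
    -- if some `p ∈ {z, tz}` lies in `T \ Z` then `Z = ZF`
    have haux : ∀ p ∈ T, p ∉ Z → (∀ x ∈ T, p * x * p⁻¹ * x⁻¹ = z * x * z⁻¹ * x⁻¹) →
        Z = h.hf.ZF := by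
      intro p hp hpZ hpx
      apply Subgroup.eq_of_le_of_card_ge _ (by rw [h.hf.card_ZF, h.loc.cardZ])
      intro ζ hζ
      obtain ⟨x, hx, e⟩ := h.loc.surj p hp hpZ ζ hζ
      rw [hpx x hx] at e
      rw [← e]
      have h1 := conj_ZF h (h.loc.T_le hx) (h.hf.ZF.inv_mem hz)
      have h2 := h.hf.ZF.mul_mem hz h1
      have e2 : z * (x * z⁻¹ * x⁻¹) = z * x * z⁻¹ * x⁻¹ := by group
      rwa [e2] at h2
    rcases ZF_inner h hz with h1 | h1
    · left
      by_contra hZ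
      have h2 := haux z h1 hZ (fun _ _ => rfl)
      rw [← h2] at hz
      exact hZ hz
    · right
      by_contra hZ
      have h2 := haux (t * z) h1 hZ (fun x hx => comm_t hzt (h.loc.T_comm hx))
      rw [← h2] at hz
      have h3 := T.mul_mem h1 (T.inv_mem (h.loc.Z_le_T hz))
      rw [mul_assoc, mul_inv_cancel, mul_one] at h3
      exact h.loc.tT h3
  rcases hstep with h1 | h1
  · exact h1
  · exfalso
    have hzU : z ∈ U := h.hf.J_le (h.hf.mem_ZF.mp hz).1
    have hz2 : z = t * (t * z) := by rw [← mul_assoc, h.loc.tt, one_mul]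
    by_cases h2 : t * z = 1
    · rw [h2, mul_one] at hz2
      rw [hz2] at hzU
      exact t_not_mem h hzU
    · apply h.noD z hzU
      rw [hz2]
      exact h.loc.tD _ (h.loc.Z_le_T h1) (h.loc.A_sq false _ (h.loc.Z_le false h1)) h2

/-- 6b -/
theorem F_inner (h : Hyp t T Z That O A Q U J) {f : G} (hf : f ∈ h.hf.F) :
    f ∈ T ∨ t * f ∈ T := by
  classical
  by_contra hcon
  rw [not_or] at hcon
  have hcZ : ∀ x ∈ h.hf.F, ∀ z ∈ Z, x * z = z * x := by
    intro x hx z hz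
    rw [← ZF_eq h] at hz
    exact h.hf.central z (h.hf.mem_ZF.mp hz).1 x (h.hf.mem_F.mp hx).1
  have hcom : ∀ x ∈ h.hf.F, f * x * f⁻¹ * x⁻¹ ∈ Z := by
    intro x hx
    rw [← ZF_eq h, h.hf.mem_ZF]
    refine ⟨h.hf.comm f (h.hf.mem_F.mp hf).1 x (h.hf.mem_F.mp hx).1, ?_⟩
    have h1 : f * x * f⁻¹ * x⁻¹ ∈ h.hf.F :=
      h.hf.F.mul_mem (h.hf.F.mul_mem (h.hf.F.mul_mem hf hx) (h.hf.F.inv_mem hf))
        (h.hf.F.inv_mem hx)
    exact (h.hf.mem_F.mp h1).2
  -- `F0 = F ∩ <t> T`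
  have hcT : ∀ a ∈ T, a * t = t * a := fun a ha => h.loc.T_comm ha
  set F0 : Subgroup G := h.hf.F ⊓ adj t T h.loc.tt hcT with hF0
  have hF0F : F0 ≤ h.hf.F := inf_le_left
  have hidx : (F0.subgroupOf h.hf.F).index ≤ 2 := by
    apply Nat.le_of_dvd (by norm_num)
    rw [Subgroup.index_dvd_two_iff]
    refine ⟨⟨f, hf⟩, fun b => ?_⟩
    obtain ⟨b, hb⟩ := b
    rw [Subgroup.mem_subgroupOf, Subgroup.mem_subgroupOf]
    show b * f ∈ F0 ∨ b ∈ F0
    by_cases hb0 : b ∈ T ∨ t * b ∈ T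
    · exact Or.inr ⟨hb, hb0⟩
    · rw [not_or] at hb0
      left
      exact ⟨h.hf.F.mul_mem hb hf, h.loc.O2 b (F_le h hb) f (F_le h hf) (hcZ b hb) (hcZ f hf)
        hb0.1 hb0.2 hcon.1 hcon.2⟩
  have hF0card : 32 ≤ Nat.card F0 := by
    have h1 := Subgroup.card_mul_index (F0.subgroupOf h.hf.F)
    rw [Nat.card_congr (Subgroup.subgroupOfEquivOfLe hF0F).toEquiv] at h1
    have h2 := h.hf.card_F
    rw [← h1] at h2
    have h3 := Nat.mul_le_mul_left (Nat.card F0) hidx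
    omega
  have hle : Nat.card F0 ≤ 16 := by
    refine le_trans ?_ (h.loc.O1 f (F_le h hf) hcon.1 hcon.2)
    have hmem : ∀ x ∈ F0, ∃ y : G, (y ∈ T ∧ f * y * f⁻¹ * y⁻¹ ∈ Z) ∧ (y = x ∨ y = t * x) := by
      rintro x ⟨hxF, hxT⟩
      have hfx := hcom x hxF
      rcases hxT with hxT | hxT
      · exact ⟨x, ⟨hxT, hfx⟩, Or.inl rfl⟩
      · refine ⟨t * x, ⟨hxT, ?_⟩, Or.inr rfl⟩
        have hft : f * t = t * f := (h.hf.mem_F.mp hf).2
        have h1 : f * (t * x) * f⁻¹ * (t * x)⁻¹ = f * x * f⁻¹ * x⁻¹ := by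
          have hxt : x * t = t * x := (h.hf.mem_F.mp hxF).2
          have h2 : f⁻¹ * x⁻¹ * t⁻¹ = t⁻¹ * f⁻¹ * x⁻¹ := by
            have h3 : t * x * f = x * f * t := by
              rw [← hxt, mul_assoc, ← hft, ← mul_assoc]
            have h4 := congrArg (fun g => g⁻¹) h3
            simpa [mul_assoc] using h4
          calc f * (t * x) * f⁻¹ * (t * x)⁻¹ = f * t * x * (f⁻¹ * x⁻¹ * t⁻¹) := by group
            _ = f * t * x * (t⁻¹ * f⁻¹ * x⁻¹) := by rw [h2]
            _ = f * (t * x) * t⁻¹ * f⁻¹ * x⁻¹ := by group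
            _ = f * (x * t) * t⁻¹ * f⁻¹ * x⁻¹ := by rw [hxt]
            _ = _ := by group
        rw [h1]; exact hfx
    choose g hg using hmem
    apply Nat.card_le_card_of_injective
      (fun x : F0 => (⟨g x.1 x.2, (hg x.1 x.2).1⟩ : {y : G // y ∈ T ∧ f * y * f⁻¹ * y⁻¹ ∈ Z}))
    rintro ⟨x, hx⟩ ⟨y, hy⟩ hxy
    have h1 : g x hx = g y hy := congrArg (fun w => w.1) hxy
    have hxU : x ∈ U := (h.hf.mem_F.mp (hF0F hx)).1
    have hyU : y ∈ U := (h.hf.mem_F.mp (hF0F hy)).1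
    apply Subtype.ext
    show x = y
    rcases (hg x hx).2 with ex | ex <;> rcases (hg y hy).2 with ey | ey
    · rw [← ex, ← ey, h1]
    · exfalso
      apply t_not_mem h
      have : t = x * y⁻¹ := by
        rw [← ex, h1, ey]; group
      rw [this]; exact U.mul_mem hxU (U.inv_mem hyU)
    · exfalso
      apply t_not_mem h
      have : t = y * x⁻¹ := by
        rw [← ey, ← h1, ex]; group
      rw [this]; exact U.mul_mem hyU (U.inv_mem hxU)
    · rw [ex, ey] at h1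
      exact mul_left_cancel h1
  omega

/-- 6c -/
theorem F_eq (h : Hyp t T Z That O A Q U J) : h.hf.F = T := by
  have hcT : ∀ a ∈ T, a * t = t * a := fun a ha => h.loc.T_comm ha
  set W := adj t T h.loc.tt hcT with hW
  have hFW : h.hf.F ≤ W := fun f hf => F_inner h hf
  have hWcard : Nat.card W = 128 := by
    rw [hW, card_adj _ _ h.loc.tT, h.loc.cardT]
  have htW : t ∈ W := Or.inr (by rw [h.loc.tt]; exact T.one_mem)
  have htF : t ∉ h.hf.F := fun ht => t_not_mem h (h.hf.mem_F.mp ht).1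
  have hidx : (h.hf.F.subgroupOf W).index = 2 := by
    have h1 := Subgroup.card_mul_index (h.hf.F.subgroupOf W)
    rw [Nat.card_congr (Subgroup.subgroupOfEquivOfLe hFW).toEquiv, hWcard] at h1
    have h2 := h.hf.card_F
    have h3 : (h.hf.F.subgroupOf W).index ≠ 1 := by
      rw [Ne, Subgroup.index_eq_one, Subgroup.subgroupOf_eq_top]
      intro hle
      exact htF (hle htW)
    have h4 : (h.hf.F.subgroupOf W).index ≠ 0 := Subgroup.index_ne_zero_of_finite
    have h5 : (h.hf.F.subgroupOf W).index ≤ 2 := by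
      by_contra h6
      have h7 : 3 ≤ (h.hf.F.subgroupOf W).index := by omega
      have := Nat.mul_le_mul h2 h7
      omega
    omega
  have hdich : ∀ p ∈ W, p ∈ h.hf.F ∨ t * p ∈ h.hf.F := by
    intro p hp
    have h1 := Subgroup.mul_mem_iff_of_index_two hidx (a := ⟨t, htW⟩) (b := ⟨p, hp⟩)
    simp only [Subgroup.mem_subgroupOf] at h1
    by_cases h2 : p ∈ h.hf.F
    · exact Or.inl h2
    · right
      exact h1.mpr ⟨fun h3 => absurd h3 htF, fun h3 => absurd h3 h2⟩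
  have hinv : ∀ p ∈ T, p * p = 1 → p ∈ h.hf.F := by
    intro p hp hpp
    by_cases hp1 : p = 1
    · rw [hp1]; exact h.hf.F.one_mem
    rcases hdich p (Or.inl hp) with h1 | h1
    · exact h1
    · exfalso
      exact h.noD _ (h.hf.mem_F.mp h1).1 (h.loc.tD p hp hpp hp1)
  have hTF : T ≤ h.hf.F := by
    refine h.loc.T_le_sup.trans (sup_le ?_ ?_)
    · intro x hx; exact hinv x (h.loc.A_le _ hx) (h.loc.A_sq _ x hx)
    · intro x hx; exact hinv x (h.loc.A_le _ hx) (h.loc.A_sq _ x hx)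
  apply le_antisymm _ hTF
  intro x hx
  rcases F_inner h hx with h1 | h1
  · exact h1
  · exfalso
    apply htF
    have h2 := h.hf.F.mul_mem (hTF h1) (h.hf.F.inv_mem hx)
    rwa [mul_assoc, mul_inv_cancel, mul_one] at h2

/-- 6d: **main lemma** -/
theorem Q_le (h : Hyp t T Z That O A Q U J) (i : Bool) : Q i ≤ U := by
  have hti := h.loc.t_inv
  have hTU : T ≤ U := fun x hx => by
    rw [← F_eq h] at hx; exact (h.hf.mem_F.mp hx).1
  -- `u ∈ A i \ Z`
  obtain ⟨u, hu, huZ⟩ : ∃ u ∈ A i, u ∉ Z := by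
    by_contra hcon
    push Not at hcon
    have h1 : A i ≤ Z := hcon
    have h2 := Subgroup.card_le_of_le h1
    rw [h.loc.cardA, h.loc.cardZ] at h2
    omega
  have huT := h.loc.A_le i hu
  have huu := h.loc.A_sq i u hu
  obtain ⟨hab, hcard⟩ := h.hf.ab u (hTU huT) huu (by
    intro z hz hzt
    have hzZ : z ∈ Z := by rw [← ZF_eq h, h.hf.mem_ZF]; exact ⟨hz, hzt⟩
    obtain ⟨x, hx, e⟩ := h.loc.surj u huT huZ z hzZ
    exact ⟨x, hTU hx, e⟩)
  set R : Subgroup G := U ⊓ Subgroup.centralizer {u} with hR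
  have hmemR : ∀ x, x ∈ R ↔ x ∈ U ∧ u * x = x * u := by
    intro x
    rw [hR, Subgroup.mem_inf, Subgroup.mem_centralizer_singleton_iff]
    exact and_congr_right fun _ => eq_comm
  have hAR : ∀ a ∈ A i, a ∈ R := fun a ha =>
    (hmemR a).mpr ⟨hTU (h.loc.A_le i ha), h.loc.A_comm hu ha⟩
  have hRQ : R = Q i := by
    apply h.loc.eq_Q
    · intro r hr
      obtain ⟨h1, h2⟩ := (hmemR r).mp hr
      exact (hab r h1 r h1 h2 h2).2
    · rw [← hcard]
      exact Nat.card_congr (Equiv.subtypeEquivRight fun x => hmemR x)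
    · intro r hr a ha
      obtain ⟨h1, h2⟩ := (hmemR r).mp hr
      obtain ⟨h3, h4⟩ := (hmemR a).mp (hAR a ha)
      exact (hab r h1 a h3 h2 h4).1
    · intro r hr
      obtain ⟨h1, h2⟩ := (hmemR r).mp hr
      have hut : u * t = t * u := h.loc.T_comm huT
      have htr : t * r * t⁻¹ ∈ R := by
        rw [hmemR]
        refine ⟨h.hf.norm r h1, ?_⟩
        rw [hti]
        calc u * (t * r * t) = (u * t) * r * t := by group
          _ = t * (u * r) * t := by rw [hut]; group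
          _ = t * r * (u * t) := by rw [h2]; group
          _ = t * r * t * u := by rw [hut]; group
      set r' := t * r * t⁻¹ * r⁻¹ with hr'
      have hr'R : r' ∈ R := R.mul_mem htr (R.inv_mem hr)
      obtain ⟨h3, h4⟩ := (hmemR r').mp hr'R
      have h5 := (hab r' h3 r' h3 h4 h4).2
      have h6 : t * r' * t⁻¹ = r'⁻¹ := by
        rw [hr']
        have : t * (t * r * t⁻¹ * r⁻¹) * t⁻¹ = (t * t) * r * t⁻¹ * r⁻¹ * t⁻¹ := by group
        rw [this, h.loc.tt, one_mul, hti]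
        rw [mul_inv_rev, mul_inv_rev, mul_inv_rev, inv_inv, hti]
        group
      have h7 : r'⁻¹ = r' := inv_eq_of_mul_eq_one_right h5
      rw [h7] at h6
      have h8 : r' * t = t * r' := by
        calc r' * t = t * r' * t⁻¹ * t := by rw [h6]
          _ = t * r' := by group
      have h9 : r' ∈ T := by
        rw [← F_eq h, h.hf.mem_F]; exact ⟨h3, h8⟩
      exact h.loc.A_cent i u hu huZ r' h9 h4.symm
  rw [← hRQ]
  exact inf_le_left

end HF

end Cfsg.Agent.StdL3.ExtMain
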