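import Cfsg.Agent.StdL3.OneParity

set_option autoImplicit false

/-!
# The parity lemma, odd-index version (blueprints/S1748-outer.md, section 7)

Transfer of an involution `t` to a subgroup `H`, with values in an abelian group.  Only the
`H`-classes of conjugates `s` of `t` with `|C_G(s) : C_H(s)|` odd contribute.
-/

namespace Cfsg.Agent.StdL3.OddParity

open MulAction
open Cfsg.Agent.StdL3.OneParity

variable {G : Type*} [Group G]

/-- **Parity lemma**, odd-index version. -/
theorem transfer_eq {A : Type*} [CommGroup A] [Finite G] (H : Subgroup G)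
    (φ : H →* A) (t : G) (ht : t * t = 1) (htH : t ∈ H)
    (hcl : ∀ g : G, ∀ hg : g⁻¹ * t * g ∈ H, φ ⟨g⁻¹ * t * g, hg⟩ ≠ 1 →
      Odd (((H.map (MulAut.conj g).toMonoidHom).subgroupOf (Subgroup.centralizer {t})).index) →
      ∃ x ∈ H, g⁻¹ * t * g = x⁻¹ * t * x)
    (hodd : Odd (H.subgroupOf (Subgroup.centralizer {t})).index) :
    MonoidHom.transfer φ t = φ ⟨t, htH⟩ := by
  classical
  have hti : t⁻¹ = t := inv_eq_of_mul_eq_one_right ht
  have := Fintype.ofFinite (G ⧸ H)
  obtain ⟨f, hf, hprod⟩ := transfer_eq_prod_fixed H φ t ht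
  set C := Subgroup.centralizer ({t} : Set G) with hC
  have hmemC : ∀ c : G, c ∈ C ↔ c * t = t * c := fun c => by
    rw [hC, Subgroup.mem_centralizer_singleton_iff]
  -- value at a fixed coset
  have hfix : ∀ g : G, t • (g : G ⧸ H) = (g : G ⧸ H) → g⁻¹ * t * g ∈ H := by
    intro g hq
    rw [MulAction.Quotient.smul_mk, smul_eq_mul, QuotientGroup.eq] at hq
    have : (t * g)⁻¹ * g = g⁻¹ * t * g := by rw [mul_inv_rev, hti]
    rw [this] at hq; exact hq
  have hfix' : ∀ g : G, g⁻¹ * t * g ∈ H → t • (g : G ⧸ H) = (g : G ⧸ H) := by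
    intro g hg
    rw [MulAction.Quotient.smul_mk, smul_eq_mul, QuotientGroup.eq]
    have : (t * g)⁻¹ * g = g⁻¹ * t * g := by rw [mul_inv_rev, hti]
    rw [this]; exact hg
  have hsq : ∀ q : G ⧸ H, t • q = q → f q * f q = 1 := by
    intro q hq
    obtain ⟨g, rfl⟩ := QuotientGroup.mk_surjective q
    have hg := hfix g hq
    rw [hf _ g rfl hg, ← map_mul]
    have : (⟨g⁻¹ * t * g, hg⟩ : H) * ⟨g⁻¹ * t * g, hg⟩ = 1 := by
      apply Subtype.ext
      show g⁻¹ * t * g * (g⁻¹ * t * g) = 1
      calc g⁻¹ * t * g * (g⁻¹ * t * g) = g⁻¹ * (t * t) * g := by group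
        _ = 1 := by rw [ht]; group
    rw [this, map_one]
  -- `C` permutes the fixed cosets, `f` is constant on the orbits
  have hCfix : ∀ (c : C) (q : G ⧸ H), t • q = q → t • (c • q) = c • q ∧ f (c • q) = f q := by
    rintro ⟨c, hc⟩ q hq
    obtain ⟨g, rfl⟩ := QuotientGroup.mk_surjective q
    have hg := hfix g hq
    rw [hmemC] at hc
    have e1 : (c * g)⁻¹ * t * (c * g) = g⁻¹ * t * g := by
      calc (c * g)⁻¹ * t * (c * g) = g⁻¹ * c⁻¹ * (t * c) * g := by group
        _ = g⁻¹ * c⁻¹ * (c * t) * g := by rw [hc]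
        _ = _ := by group
    have hg' : (c * g)⁻¹ * t * (c * g) ∈ H := by rw [e1]; exact hg
    have e2 : (⟨c, (hmemC c).mpr hc⟩ : C) • (g : G ⧸ H) = ((c * g : G) : G ⧸ H) := rfl
    refine ⟨?_, ?_⟩
    · show t • ((⟨c, _⟩ : C) • (g : G ⧸ H)) = (⟨c, _⟩ : C) • (g : G ⧸ H)
      rw [e2]
      exact hfix' _ hg'
    · show f ((⟨c, _⟩ : C) • (g : G ⧸ H)) = _
      rw [e2, hf _ (c * g) rfl hg', hf _ g rfl hg]
      congr 1
      exact Subtype.ext e1
  set S : Finset (G ⧸ H) := Finset.univ.filter (fun q : G ⧸ H => t • q = q) with hS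
  have hmemS : ∀ q, q ∈ S ↔ t • q = q := fun q => by simp [hS]
  -- the orbit map
  let Ωt := Quotient (MulAction.orbitRel C (G ⧸ H))
  have hFt : Fintype Ωt := Fintype.ofFinite _
  let π : G ⧸ H → Ωt := fun q => Quotient.mk (MulAction.orbitRel C (G ⧸ H)) q
  have hπ : ∀ q q' : G ⧸ H, π q = π q' ↔ q ∈ MulAction.orbit C q' := fun q q' =>
    ⟨fun h => Quotient.exact h, fun h => Quotient.sound h⟩
  set q0 : G ⧸ H := ((1 : G) : G ⧸ H) with hq0
  have hq0S : q0 ∈ S := by
    rw [hmemS, hq0]
    exact hfix' 1 (by simpa using htH)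
  have hf0 : f q0 = φ ⟨t, htH⟩ := by
    have h1 : (1 : G)⁻¹ * t * 1 ∈ H := by simpa using htH
    rw [hf q0 1 rfl h1]
    congr 1
    exact Subtype.ext (by simp)
  -- the orbit of a fixed coset, inside `S`
  have hfib : ∀ q ∈ S, Finset.filter (fun q' => π q' = π q) S =
      Finset.univ.filter (fun q' => q' ∈ MulAction.orbit C q) := by
    intro q hq
    ext q'
    simp only [Finset.mem_filter, Finset.mem_univ, true_and, hmemS, hπ]
    constructor
    · rintro ⟨_, h2⟩; exact h2
    · rintro ⟨c, rfl⟩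
      exact ⟨(hCfix c q ((hmemS q).mp hq)).1, ⟨c, rfl⟩⟩
  have hinner : ∀ q ∈ S, ∏ q' ∈ S with π q' = π q, f q' =
      f q ^ Nat.card (MulAction.orbit C q) := by
    intro q hq
    rw [hfib q hq, Finset.prod_congr rfl (g := fun _ => f q), Finset.prod_const]
    · congr 1
      rw [Nat.card_coe_set_eq, ← Set.ncard_coe_finset]
      congr 1
      ext q'; simp
    · intro q' hq'
      simp only [Finset.mem_filter, Finset.mem_univ, true_and] at hq'
      obtain ⟨c, rfl⟩ := hq'
      exact (hCfix c q ((hmemS q).mp hq)).2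
  have horb : ∀ g : G, Nat.card (MulAction.orbit C ((g : G) : G ⧸ H)) =
      ((H.map (MulAut.conj g).toMonoidHom).subgroupOf C).index := by
    intro g
    have h2 : (MulAction.stabilizer C ((g : G) : G ⧸ H)) =
        (H.map (MulAut.conj g).toMonoidHom).subgroupOf C := by
      ext ⟨c, hc⟩
      rw [MulAction.mem_stabilizer_iff, Subgroup.mem_subgroupOf]
      show c • ((g : G) : G ⧸ H) = (g : G ⧸ H) ↔ c ∈ H.map (MulAut.conj g).toMonoidHom
      rw [MulAction.Quotient.smul_mk, smul_eq_mul]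
      constructor
      · intro e
        have h3 := QuotientGroup.eq.mp e.symm
        refine ⟨g⁻¹ * (c * g), h3, ?_⟩
        show g * (g⁻¹ * (c * g)) * g⁻¹ = c
        group
      · rintro ⟨x, hx, rfl⟩
        rw [eq_comm, QuotientGroup.eq]
        have : g⁻¹ * ((MulAut.conj g).toMonoidHom x * g) = x := by
          show g⁻¹ * (g * x * g⁻¹ * g) = x
          group
        rw [this]; exact hx
    rw [← h2, MulAction.index_stabilizer, Nat.card_coe_set_eq]
  rw [hprod, ← Finset.prod_fiberwise S π f, Finset.prod_eq_single (π q0)]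
  · rw [hinner q0 hq0S, hq0, horb 1]
    have h1 : H.map (MulAut.conj (1 : G)).toMonoidHom = H := by
      rw [map_one]; exact Subgroup.map_id H
    rw [h1]
    obtain ⟨k, hk⟩ := hodd
    rw [hk, pow_succ, pow_mul, ← hq0, pow_two, hsq q0 ((hmemS q0).mp hq0S), one_pow, one_mul, hf0]
  · intro j _ hj
    by_cases hex : ∃ q ∈ S, π q = j
    · obtain ⟨q, hq, rfl⟩ := hex
      rw [hinner q hq]
      obtain ⟨g, rfl⟩ := QuotientGroup.mk_surjective q
      have hgS := (hmemS _).mp hq
      have hg := hfix g hgS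
      rw [horb g]
      by_cases hone : f (g : G ⧸ H) = 1
      · rw [hone, one_pow]
      · rcases Nat.even_or_odd ((H.map (MulAut.conj g).toMonoidHom).subgroupOf C).index with he | ho
        · obtain ⟨k, hk⟩ := he
          have : k + k = 2 * k := by ring
          rw [hk, this, pow_mul, pow_two, hsq _ hgS, one_pow]
        · exfalso
          rw [hf _ g rfl hg] at hone
          obtain ⟨x, hx, e⟩ := hcl g hg hone ho
          apply hj
          rw [hπ]
          have hc : g * x⁻¹ ∈ C := by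
            rw [hmemC]
            have h2 : g * x⁻¹ * t * (g * x⁻¹)⁻¹ = t := by
              calc g * x⁻¹ * t * (g * x⁻¹)⁻¹ = g * (x⁻¹ * t * x) * g⁻¹ := by group
                _ = t := by rw [← e]; group
            calc g * x⁻¹ * t = g * x⁻¹ * t * (g * x⁻¹)⁻¹ * (g * x⁻¹) := by group
              _ = t * (g * x⁻¹) := by rw [h2]
          refine ⟨⟨g * x⁻¹, hc⟩, ?_⟩
          show (g * x⁻¹) • q0 = _
          rw [hq0, MulAction.Quotient.smul_mk, smul_eq_mul, mul_one, QuotientGroup.eq]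
          have : (g * x⁻¹)⁻¹ * g = x := by group
          rw [this]; exact hx
    · apply Finset.prod_eq_one
      intro q hq
      rw [Finset.mem_filter] at hq
      exact absurd ⟨q, hq.1, hq.2⟩ hex
  · intro h
    exact absurd (Finset.mem_univ _) h

/-- **Parity lemma**, odd-index version, for simple groups. -/
theorem eq_one {A : Type*} [CommGroup A] [Finite G] [IsSimpleGroup G]
    (hG : ¬ ∀ a b : G, a * b = b * a) (H : Subgroup G)
    (φ : H →* A) (t : G) (ht : t * t = 1) (htH : t ∈ H)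
    (hcl : ∀ g : G, ∀ hg : g⁻¹ * t * g ∈ H, φ ⟨g⁻¹ * t * g, hg⟩ ≠ 1 →
      Odd (((H.map (MulAut.conj g).toMonoidHom).subgroupOf (Subgroup.centralizer {t})).index) →
      ∃ x ∈ H, g⁻¹ * t * g = x⁻¹ * t * x)
    (hodd : Odd (H.subgroupOf (Subgroup.centralizer {t})).index) :
    φ ⟨t, htH⟩ = 1 := by
  rw [← transfer_eq H φ t ht htH hcl hodd]
  set f := MonoidHom.transfer φ with hf
  rcases (inferInstance : f.ker.Normal).eq_bot_or_eq_top with hk | hk
  · exfalso
    apply hG
    intro a b
    apply (MonoidHom.ker_eq_bot_iff f).mp hk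
    rw [map_mul, map_mul, mul_comm]
  · have : t ∈ f.ker := hk ▸ Subgroup.mem_top t
    exact this

end Cfsg.Agent.StdL3.OddParity
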