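import Cfsg.Agent.StdL3.Pack
import Cfsg.Agent.StdL3.ExtMain
import Cfsg.Agent.StdL3.OddParity

set_option autoImplicit false

/-!
# The case `|R| = 2` of standard components `L₃(4)`: final contradiction

blueprints/S1748-outer.md, sections 4-7: `Loc` at `t` and the package `Pack` on `U₀ = Q₁ Q₂` are
contradictory in a nonabelian simple group.
-/

namespace Cfsg.Agent.StdL3.ExtEnd

open Cfsg.Agent.StdL3.Pack
open Cfsg.Agent.StdL3.ExtLoc
open Cfsg.Agent.StdL3.ExtMain

variable {G : Type*} [Group G]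

/-- transport of the facts on a group `H` with automorphism `δ` along an embedding. -/
theorem hf_of_hom {H : Type*} [Group H] {t : G} (ψ : H →* G) (hψ : Function.Injective ψ)
    (δ : MulAut H) (ht : ∀ u, t * ψ u * t⁻¹ = ψ (δ u)) (hcard : Nat.card H = 2 ^ 12)
    (hcomm : ∀ u v : H, u * v * u⁻¹ * v⁻¹ ∈ Subgroup.center H)
    (h4 : Nat.card {z : Subgroup.center H // δ z = z} = 4)
    (h64 : 64 ≤ Nat.card {u : H // δ u = u})
    (hab : ∀ u : H, u * u = 1 →
      (∀ z ∈ Subgroup.center H, δ z = z → ∃ v : H, u * v * u⁻¹ * v⁻¹ = z) →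
      (∀ v w : H, Commute u v → Commute u w → Commute v w ∧ v * v = 1) ∧
        Nat.card (Subgroup.centralizer ({u} : Set H)) = 2 ^ 8) :
    HF ψ.range ((Subgroup.center H).map ψ) t := by
  have hfin : Finite H := Nat.finite_of_card_ne_zero (by rw [hcard]; norm_num)
  have hfix : ∀ u : H, ψ u * t = t * ψ u ↔ δ u = u := by
    intro u
    constructor
    · intro h
      apply hψ
      rw [← ht u, ← h]; group
    · intro h
      have h1 := ht u
      rw [h] at h1
      calc ψ u * t = t * ψ u * t⁻¹ * t := by rw [h1]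
        _ = t * ψ u := by group
  have hcen : ∀ u : H, u ∈ Subgroup.center H ↔ ∀ v : H, v * u = u * v := fun u =>
    Subgroup.mem_center_iff
  refine ⟨?_, ?_, ?_, ?_, ?_, ?_, ?_, ?_, ?_⟩
  · -- two
    have h1 : IsPGroup 2 H := IsPGroup.of_card hcard
    exact h1.of_surjective ψ.rangeRestrict ψ.rangeRestrict_surjective
  · rintro _ ⟨z, _, rfl⟩
    exact ⟨z, rfl⟩
  · rintro _ ⟨z, hz, rfl⟩ _ ⟨u, rfl⟩
    rw [← map_mul, ← map_mul, (hcen z).mp hz u]
  · rintro _ ⟨u, rfl⟩ h
    refine ⟨u, ?_, rfl⟩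
    show u ∈ Subgroup.center H
    rw [hcen]
    intro v
    apply hψ
    rw [map_mul, map_mul]
    exact h _ ⟨v, rfl⟩
  · rintro _ ⟨u, rfl⟩ _ ⟨v, rfl⟩
    refine ⟨_, hcomm u v, ?_⟩
    rw [map_mul, map_mul, map_mul, map_inv, map_inv]
  · rintro _ ⟨u, rfl⟩
    rw [ht]; exact ⟨_, rfl⟩
  · rw [← h4]
    symm
    apply Nat.card_congr
    refine Equiv.ofBijective (fun z => ⟨ψ z.1.1, ⟨z.1.1, z.1.2, rfl⟩, (hfix _).mpr z.2⟩) ⟨?_, ?_⟩
    · intro x y hxy
      have h1 : ψ x.1.1 = ψ y.1.1 := congrArg Subtype.val hxy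
      exact Subtype.ext (Subtype.ext (hψ h1))
    · rintro ⟨_, ⟨z, hz, rfl⟩, h2⟩
      exact ⟨⟨⟨z, hz⟩, (hfix z).mp h2⟩, rfl⟩
  · refine h64.trans (le_of_eq ?_)
    apply Nat.card_congr
    refine Equiv.ofBijective (fun z => ⟨ψ z.1, ⟨z.1, rfl⟩, (hfix _).mpr z.2⟩) ⟨?_, ?_⟩
    · intro x y hxy
      have h1 : ψ x.1 = ψ y.1 := congrArg Subtype.val hxy
      exact Subtype.ext (hψ h1)
    · rintro ⟨_, ⟨z, rfl⟩, h2⟩
      exact ⟨⟨z, (hfix z).mp h2⟩, rfl⟩
  · rintro _ ⟨u, rfl⟩ huu hsurj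
    have huu' : u * u = 1 := by
      apply hψ; rw [map_mul, huu, map_one]
    obtain ⟨h1, h2⟩ := hab u huu' (by
      intro z hz hdz
      obtain ⟨_, ⟨v, rfl⟩, e⟩ := hsurj _ ⟨z, hz, rfl⟩ ((hfix z).mpr hdz)
      refine ⟨v, hψ ?_⟩
      rw [map_mul, map_mul, map_mul, map_inv, map_inv]
      exact e)
    have hcm : ∀ v w : H, ψ v * ψ w = ψ w * ψ v → Commute v w := by
      intro v w h
      apply hψ
      rw [map_mul, map_mul]; exact h
    refine ⟨?_, ?_⟩
    · rintro _ ⟨v, rfl⟩ _ ⟨w, rfl⟩ hv hw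
      obtain ⟨h3, h4⟩ := h1 v w (hcm _ _ hv) (hcm _ _ hw)
      refine ⟨?_, ?_⟩
      · rw [← map_mul, ← map_mul, h3.eq]
      · rw [← map_mul, h4, map_one]
    · rw [show (256 : ℕ) = 2 ^ 8 by norm_num, ← h2]
      symm
      apply Nat.card_congr
      refine Equiv.ofBijective (fun z => ⟨ψ z.1, ⟨z.1, rfl⟩, ?_⟩) ⟨?_, ?_⟩
      · have := Subgroup.mem_centralizer_singleton_iff.mp z.2
        rw [← map_mul, ← map_mul, this]
      · intro x y hxy
        have h1 : ψ x.1 = ψ y.1 := congrArg Subtype.val hxy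
        exact Subtype.ext (hψ h1)
      · rintro ⟨_, ⟨v, rfl⟩, h3⟩
        refine ⟨⟨v, Subgroup.mem_centralizer_singleton_iff.mpr ?_⟩, rfl⟩
        exact (hcm _ _ h3).symm

variable {t : G} {T Z That O : Subgroup G} {A Q : Bool → Subgroup G}

/-- an elementary abelian `2`-subgroup centralising a conjugate of `t` has order `≤ 32`. -/
theorem card_elem [Finite G] (h : LocT t T Z That A) {v : G} (hv : IsConj t v) {E : Subgroup G}
    (hE : ∀ x ∈ E, x * x = 1) (hEv : ∀ x ∈ E, x * v = v * x) : Nat.card E ≤ 32 := by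
  obtain ⟨y, hy⟩ := isConj_iff.mp hv
  set E1 : Subgroup G := E.map (MulAut.conj y⁻¹).toMonoidHom with hE1
  have hcard1 : Nat.card E1 = Nat.card E :=
    Subgroup.card_map_of_injective (MulAut.conj y⁻¹).injective
  have hE1sq : ∀ x ∈ E1, x * x = 1 := by
    rintro _ ⟨x, hx, rfl⟩
    show (MulAut.conj y⁻¹) x * (MulAut.conj y⁻¹) x = 1
    rw [← map_mul, hE x hx, map_one]
  have h2 : ∀ E' : Subgroup G, (∀ x ∈ E', x * x = 1) → IsPGroup 2 E' := by
    intro E' hE' x
    refine ⟨1, Subtype.ext ?_⟩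
    show ((x ^ 2 ^ 1 : E') : G) = 1
    rw [pow_one, pow_two]
    exact hE' x.1 x.2
  have hE1t : ∀ x ∈ E1, x * t = t * x := by
    rintro _ ⟨x, hx, rfl⟩
    show (MulAut.conj y⁻¹) x * t = t * (MulAut.conj y⁻¹) x
    have h3 : t = (MulAut.conj y⁻¹) v := by
      rw [MulAut.conj_apply, ← hy]; group
    rw [h3, ← map_mul, ← map_mul, hEv x hx]
  obtain ⟨c, -, hc⟩ := h.that_syl E1 (h2 E1 hE1sq) hE1t
  set E2 : Subgroup G := E1.map (MulAut.conj c).toMonoidHom with hE2
  have hcard2 : Nat.card E2 = Nat.card E := by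
    rw [← hcard1]
    exact Subgroup.card_map_of_injective (MulAut.conj c).injective
  have hE2sq : ∀ x ∈ E2, x * x = 1 := by
    rintro _ ⟨x, hx, rfl⟩
    show (MulAut.conj c) x * (MulAut.conj c) x = 1
    rw [← map_mul, hE1sq x hx, map_one]
  have hE2le : E2 ≤ That := by
    rintro _ ⟨x, hx, rfl⟩
    exact hc x hx
  by_contra hcon
  push Not at hcon
  obtain ⟨i, hi⟩ := h.O3 E2 hE2le hE2sq (by rw [hcard2]; omega)
  have hcA : ∀ a ∈ A i, a * t = t * a := fun a ha => h.T_comm (h.A_le i ha)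
  have htA : t ∉ A i := fun h' => h.tT (h.A_le i h')
  have h3 : E2 = adj t (A i) h.tt hcA := by
    ext x
    exact hi x
  rw [← hcard2, h3, card_adj _ _ htA, h.cardA] at hcon
  omega

/-- **The final contradiction of the case `|R| = 2`.** -/
theorem false_of_loc [Finite G] [IsSimpleGroup G] (hG : ¬ ∀ a b : G, a * b = b * a)
    (h : Loc t T Z That O A Q) {U0 : Subgroup G} (hU0 : U0 = Q false ⊔ Q true) (τ : MulAut U0)
    (hτ : ∀ x : U0, ((τ x : U0) : G) = t * x * t⁻¹) (hP : Pack U0 τ) : False := by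
  classical
  obtain ⟨B, hB, χ, hχt, hχ⟩ := hP.chi
  set Y : Subgroup G := Subgroup.normalizer (U0 : Set G) with hY
  have hThatY : That ≤ Y := by
    intro c hc
    rw [hY, Subgroup.mem_normalizer_iff]
    intro x
    rw [hU0]
    constructor
    · exact h.conj_sup hc
    · intro hx
      have := h.conj_sup (That.inv_mem hc) hx
      have e : c⁻¹ * (c * x * c⁻¹) * c⁻¹⁻¹ = x := by group
      rwa [e] at this
  have htY : t ∈ Y := hThatY h.t_mem
  let φ : Y →* B := χ.comp U0.normalizerMonoidHom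
  have hnorm : ∀ (y : Y) (x : U0), ((U0.normalizerMonoidHom y x : U0) : G) = y * x * (y : G)⁻¹ :=
    fun y x => rfl
  have hφt : φ ⟨t, htY⟩ ≠ 1 := by
    have : U0.normalizerMonoidHom ⟨t, htY⟩ = τ := by
      ext x
      rw [hnorm, hτ]
    show χ (U0.normalizerMonoidHom ⟨t, htY⟩) ≠ 1
    rw [this]; exact hχt
  set C := Subgroup.centralizer ({t} : Set G) with hC
  have hmemC : ∀ c : G, c ∈ C ↔ c * t = t * c := fun c => by
    rw [hC, Subgroup.mem_centralizer_singleton_iff]
  have hThatC : That ≤ C := fun c hc => (hmemC c).mpr (h.that_comm c hc)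
  apply hφt
  apply OddParity.eq_one hG Y φ t h.tt htY
  · intro g hg hne hodd
    set d := g⁻¹ * t * g with hd
    set δ : MulAut U0 := U0.normalizerMonoidHom ⟨d, hg⟩ with hδ
    have hδ2 : δ * δ = 1 := by
      rw [hδ, ← map_mul]
      have : (⟨d, hg⟩ : Y) * ⟨d, hg⟩ = 1 := by
        apply Subtype.ext
        show d * d = 1
        rw [hd]
        calc g⁻¹ * t * g * (g⁻¹ * t * g) = g⁻¹ * (t * t) * g := by group
          _ = 1 := by rw [h.tt]; group
      rw [this, map_one]
    obtain ⟨h4, h64, hab⟩ := hχ δ hδ2 hne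
    -- `c⁻¹ That c ≤ g Y g⁻¹` for some `c ∈ C`
    obtain ⟨c, hcC, hc⟩ : ∃ c ∈ C, ∀ x ∈ That, g⁻¹ * (c⁻¹ * x * c) * g ∈ Y := by
      set Y1 := (Y.map (MulAut.conj g).toMonoidHom).subgroupOf C with hY1
      have hp : IsPGroup 2 (That.subgroupOf C) :=
        h.that_two.of_equiv (Subgroup.subgroupOfEquivOfLe hThatC).symm
      have hnd : ¬ 2 ∣ Nat.card (C ⧸ Y1) := by
        rw [← Subgroup.index_eq_card]
        rw [← even_iff_two_dvd, Nat.not_even_iff_odd]
        exact hodd
      obtain ⟨q, hq⟩ := hp.nonempty_fixed_point_of_prime_not_dvd_card (C ⧸ Y1) hnd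
      obtain ⟨⟨c, hcC⟩, rfl⟩ := QuotientGroup.mk_surjective q
      refine ⟨c, hcC, fun x hx => ?_⟩
      have h1 := hq ⟨⟨x, hThatC hx⟩, Subgroup.mem_subgroupOf.mpr hx⟩
      have h2 : ((⟨x, hThatC hx⟩ * ⟨c, hcC⟩ : C) : C ⧸ Y1) = ((⟨c, hcC⟩ : C) : C ⧸ Y1) := h1
      have h3 := QuotientGroup.eq.mp h2.symm
      rw [hY1, Subgroup.mem_subgroupOf] at h3
      obtain ⟨y, hy, e⟩ := h3
      have e' : g * y * g⁻¹ = c⁻¹ * (x * c) := e
      have : g⁻¹ * (c⁻¹ * x * c) * g = y := by
        calc g⁻¹ * (c⁻¹ * x * c) * g = g⁻¹ * (c⁻¹ * (x * c)) * g := by group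
          _ = y := by rw [← e']; group
      rw [this]; exact hy
    set n := c * g with hn
    have hnd : n⁻¹ * t * n = d := by
      have h1 := (hmemC c).mp hcC
      rw [hn, hd]
      calc (c * g)⁻¹ * t * (c * g) = g⁻¹ * c⁻¹ * (t * c) * g := by group
        _ = g⁻¹ * c⁻¹ * (c * t) * g := by rw [h1]
        _ = _ := by group
    -- the embedding
    let ψ : U0 →* G := (MulAut.conj n).toMonoidHom.comp U0.subtype
    have hψv : ∀ u : U0, ψ u = n * u * n⁻¹ := fun u => rfl
    have hψ : Function.Injective ψ := by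
      intro x y hxy
      exact Subtype.ext ((MulAut.conj n).injective hxy)
    have hψt : ∀ u, t * ψ u * t⁻¹ = ψ (δ u) := by
      intro u
      rw [hψv, hψv, hδ, hnorm]
      show t * (n * u * n⁻¹) * t⁻¹ = n * (d * u * d⁻¹) * n⁻¹
      rw [← hnd]; group
    have hHF : HF ψ.range ((Subgroup.center U0).map ψ) t :=
      hf_of_hom ψ hψ δ hψt hP.card hP.comm h4 h64 hab
    have hHyp : HF.Hyp t T Z That O A Q ψ.range ((Subgroup.center U0).map ψ) := by
      refine ⟨h, hHF, ?_, ?_⟩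
      · rintro x hx _ ⟨u, rfl⟩
        have h1 := hc x hx
        have e1 : n⁻¹ * x * n = g⁻¹ * (c⁻¹ * x * c) * g := by rw [hn]; group
        have h2 : n⁻¹ * x * n ∈ Y := by rw [e1]; exact h1
        rw [hY, Subgroup.mem_normalizer_iff] at h2
        have h3 := (h2 (u : G)).mp u.2
        refine ⟨⟨_, h3⟩, ?_⟩
        rw [hψv, hψv]
        show n * (n⁻¹ * x * n * u * (n⁻¹ * x * n)⁻¹) * n⁻¹ = x * (n * u * n⁻¹) * x⁻¹
        group
      · rintro _ ⟨u, rfl⟩ hconj
        rw [hψv] at hconj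
        have hconj' : IsConj t (u : G) := by
          refine hconj.trans (isConj_iff.mpr ⟨n⁻¹, by group⟩)
        have huu : u * u = 1 := by
          obtain ⟨y, hy⟩ := isConj_iff.mp hconj'
          apply Subtype.ext
          show (u : G) * u = 1
          rw [← hy]
          calc y * t * y⁻¹ * (y * t * y⁻¹) = y * (t * t) * y⁻¹ := by group
            _ = 1 := by rw [h.tt]; group
        obtain ⟨E, huE, hEcard, hEsq⟩ := hP.inv u huu
        have h1 : Nat.card (E.map U0.subtype) ≤ 32 := by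
          apply card_elem h.toLocT hconj'
          · rintro _ ⟨x, hx, rfl⟩
            show (x : G) * x = 1
            exact congrArg Subtype.val (hEsq x hx)
          · rintro _ ⟨x, hx, rfl⟩
            show (x : G) * u = u * x
            exact congrArg Subtype.val (comm_of_sq hEsq hx huE)
        rw [Subgroup.card_map_of_injective U0.subtype_injective, hEcard] at h1
        norm_num at h1
    have hQ : ∀ i, Q i ≤ ψ.range := fun i => HF.Q_le hHyp i
    have hle : U0 ≤ ψ.range := le_trans (le_of_eq hU0) (sup_le (hQ false) (hQ true))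
    have hfinr : Finite U0 := inferInstance
    have hcardr : Nat.card ψ.range = Nat.card U0 :=
      (Nat.card_congr (MonoidHom.ofInjective hψ).toEquiv).symm
    have heq : U0 = ψ.range := Subgroup.eq_of_le_of_card_ge hle hcardr.le
    refine ⟨n, ?_, hnd.symm⟩
    rw [hY, Subgroup.mem_normalizer_iff]
    intro x
    constructor
    · intro hx
      have : n * x * n⁻¹ ∈ ψ.range := ⟨⟨x, hx⟩, rfl⟩
      rw [← heq] at this
      exact this
    · intro hx
      have hx' : n * x * n⁻¹ ∈ ψ.range := by rw [← heq]; exact hx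
      obtain ⟨u, hu⟩ := hx'
      rw [hψv] at hu
      have : x = u := by
        have h1 := mul_right_cancel hu
        exact (mul_left_cancel h1).symm
      rw [this]; exact u.2
  · -- `|C : C ∩ Y|` is odd
    rw [← Nat.not_even_iff_odd, even_iff_two_dvd]
    intro hdvd
    have hp : IsPGroup 2 (That.subgroupOf C) :=
      h.that_two.of_equiv (Subgroup.subgroupOfEquivOfLe hThatC).symm
    obtain ⟨P, hP1⟩ := hp.exists_le_sylow
    have hPcard : Nat.card P ≤ Nat.card That := by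
      set P' : Subgroup G := (P : Subgroup C).map C.subtype with hP'
      have h1 : IsPGroup 2 P' := P.isPGroup'.map _
      obtain ⟨c, -, hc⟩ := h.that_syl P' h1 (by
        rintro _ ⟨x, -, rfl⟩
        exact (hmemC _).mp x.2)
      have h2 : P'.map (MulAut.conj c).toMonoidHom ≤ That := by
        rintro _ ⟨x, hx, rfl⟩
        exact hc x hx
      have h3 := Subgroup.card_le_of_le h2
      rw [Subgroup.card_map_of_injective (MulAut.conj c).injective, hP',
        Subgroup.card_map_of_injective C.subtype_injective] at h3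
      exact h3
    have hPeq : That.subgroupOf C = P := by
      apply Subgroup.eq_of_le_of_card_ge hP1
      rw [Nat.card_congr (Subgroup.subgroupOfEquivOfLe hThatC).toEquiv]
      exact hPcard
    have hle : (P : Subgroup C) ≤ Y.subgroupOf C := by
      rw [← hPeq]
      intro x hx
      rw [Subgroup.mem_subgroupOf] at hx ⊢
      exact hThatY hx
    have h1 := hdvd.trans (Subgroup.index_dvd_of_le hle)
    exact P.not_dvd_index' (Subgroup.index_ne_zero_of_finite) h1

end Cfsg.Agent.StdL3.ExtEnd
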