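import Cfsg.Agent.StdL3.ExtEnd

set_option autoImplicit false

/-!
# The case `|R| = 2` of standard components `L₃(4)` in an arbitrary finite group

The proof of `ExtEnd.false_of_loc` with the transfer homomorphism as output: `t ∉ G'`.
-/

namespace Cfsg.Agent.StdL3.ExtGen

open Cfsg.Agent.StdL3.Pack
open Cfsg.Agent.StdL3.ExtLoc
open Cfsg.Agent.StdL3.ExtMain
open Cfsg.Agent.StdL3.ExtEnd

variable {G : Type*} [Group G]
variable {t : G} {T Z That O : Subgroup G} {A Q : Bool → Subgroup G}

/-- **The case `|R| = 2`, any finite group: some homomorphism to an abelian group does not kill `t`.** -/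
theorem exists_hom_of_loc [Finite G]
    (h : Loc t T Z That O A Q) {U0 : Subgroup G} (hU0 : U0 = Q false ⊔ Q true) (τ : MulAut U0)
    (hτ : ∀ x : U0, ((τ x : U0) : G) = t * x * t⁻¹) (hP : Pack U0 τ) :
    ∃ (B : Type) (_ : CommGroup B) (V : G →* B), V t ≠ 1 := by
  classical
  obtain ⟨B, hB, χ, hχt, hχ⟩ := hP.chi
  set Y : Subgroup G := Subgroup.normalizer (U0 : Set G) with hY
  have hThatY : That ≤ Y := by
    intro c hc
    rw [hY, Subgroup.mem_normalizer_iff]
    intro x
    rw [hU0]
    constructor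
    · exact h.conj_sup hc
    · intro hx
      have := h.conj_sup (That.inv_mem hc) hx
      have e : c⁻¹ * (c * x * c⁻¹) * c⁻¹⁻¹ = x := by group
      rwa [e] at this
  have htY : t ∈ Y := hThatY h.t_mem
  let φ : Y →* B := χ.comp U0.normalizerMonoidHom
  have hnorm : ∀ (y : Y) (x : U0), ((U0.normalizerMonoidHom y x : U0) : G) = y * x * (y : G)⁻¹ :=
    fun y x => rfl
  have hφt : φ ⟨t, htY⟩ ≠ 1 := by
    have : U0.normalizerMonoidHom ⟨t, htY⟩ = τ := by
      ext x
      rw [hnorm, hτ]
    show χ (U0.normalizerMonoidHom ⟨t, htY⟩) ≠ 1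
    rw [this]; exact hχt
  set C := Subgroup.centralizer ({t} : Set G) with hC
  have hmemC : ∀ c : G, c ∈ C ↔ c * t = t * c := fun c => by
    rw [hC, Subgroup.mem_centralizer_singleton_iff]
  have hThatC : That ≤ C := fun c hc => (hmemC c).mpr (h.that_comm c hc)
  refine ⟨B, hB, MonoidHom.transfer φ, ?_⟩
  rw [OddParity.transfer_eq Y φ t h.tt htY]
  · exact hφt
  · intro g hg hne hodd
    set d := g⁻¹ * t * g with hd
    set δ : MulAut U0 := U0.normalizerMonoidHom ⟨d, hg⟩ with hδ
    have hδ2 : δ * δ = 1 := by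
      rw [hδ, ← map_mul]
      have : (⟨d, hg⟩ : Y) * ⟨d, hg⟩ = 1 := by
        apply Subtype.ext
        show d * d = 1
        rw [hd]
        calc g⁻¹ * t * g * (g⁻¹ * t * g) = g⁻¹ * (t * t) * g := by group
          _ = 1 := by rw [h.tt]; group
      rw [this, map_one]
    obtain ⟨h4, h64, hab⟩ := hχ δ hδ2 hne
    -- `c⁻¹ That c ≤ g Y g⁻¹` for some `c ∈ C`
    obtain ⟨c, hcC, hc⟩ : ∃ c ∈ C, ∀ x ∈ That, g⁻¹ * (c⁻¹ * x * c) * g ∈ Y := by
      set Y1 := (Y.map (MulAut.conj g).toMonoidHom).subgroupOf C with hY1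
      have hp : IsPGroup 2 (That.subgroupOf C) :=
        h.that_two.of_equiv (Subgroup.subgroupOfEquivOfLe hThatC).symm
      have hnd : ¬ 2 ∣ Nat.card (C ⧸ Y1) := by
        rw [← Subgroup.index_eq_card]
        rw [← even_iff_two_dvd, Nat.not_even_iff_odd]
        exact hodd
      obtain ⟨q, hq⟩ := hp.nonempty_fixed_point_of_prime_not_dvd_card (C ⧸ Y1) hnd
      obtain ⟨⟨c, hcC⟩, rfl⟩ := QuotientGroup.mk_surjective q
      refine ⟨c, hcC, fun x hx => ?_⟩
      have h1 := hq ⟨⟨x, hThatC hx⟩, Subgroup.mem_subgroupOf.mpr hx⟩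
      have h2 : ((⟨x, hThatC hx⟩ * ⟨c, hcC⟩ : C) : C ⧸ Y1) = ((⟨c, hcC⟩ : C) : C ⧸ Y1) := h1
      have h3 := QuotientGroup.eq.mp h2.symm
      rw [hY1, Subgroup.mem_subgroupOf] at h3
      obtain ⟨y, hy, e⟩ := h3
      have e' : g * y * g⁻¹ = c⁻¹ * (x * c) := e
      have : g⁻¹ * (c⁻¹ * x * c) * g = y := by
        calc g⁻¹ * (c⁻¹ * x * c) * g = g⁻¹ * (c⁻¹ * (x * c)) * g := by group
          _ = y := by rw [← e']; group
      rw [this]; exact hy
    set n := c * g with hn
    have hnd : n⁻¹ * t * n = d := by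
      have h1 := (hmemC c).mp hcC
      rw [hn, hd]
      calc (c * g)⁻¹ * t * (c * g) = g⁻¹ * c⁻¹ * (t * c) * g := by group
        _ = g⁻¹ * c⁻¹ * (c * t) * g := by rw [h1]
        _ = _ := by group
    -- the embedding
    let ψ : U0 →* G := (MulAut.conj n).toMonoidHom.comp U0.subtype
    have hψv : ∀ u : U0, ψ u = n * u * n⁻¹ := fun u => rfl
    have hψ : Function.Injective ψ := by
      intro x y hxy
      exact Subtype.ext ((MulAut.conj n).injective hxy)
    have hψt : ∀ u, t * ψ u * t⁻¹ = ψ (δ u) := by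
      intro u
      rw [hψv, hψv, hδ, hnorm]
      show t * (n * u * n⁻¹) * t⁻¹ = n * (d * u * d⁻¹) * n⁻¹
      rw [← hnd]; group
    have hHF : HF ψ.range ((Subgroup.center U0).map ψ) t :=
      hf_of_hom ψ hψ δ hψt hP.card hP.comm h4 h64 hab
    have hHyp : HF.Hyp t T Z That O A Q ψ.range ((Subgroup.center U0).map ψ) := by
      refine ⟨h, hHF, ?_, ?_⟩
      · rintro x hx _ ⟨u, rfl⟩
        have h1 := hc x hx
        have e1 : n⁻¹ * x * n = g⁻¹ * (c⁻¹ * x * c) * g := by rw [hn]; group
        have h2 : n⁻¹ * x * n ∈ Y := by rw [e1]; exact h1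
        rw [hY, Subgroup.mem_normalizer_iff] at h2
        have h3 := (h2 (u : G)).mp u.2
        refine ⟨⟨_, h3⟩, ?_⟩
        rw [hψv, hψv]
        show n * (n⁻¹ * x * n * u * (n⁻¹ * x * n)⁻¹) * n⁻¹ = x * (n * u * n⁻¹) * x⁻¹
        group
      · rintro _ ⟨u, rfl⟩ hconj
        rw [hψv] at hconj
        have hconj' : IsConj t (u : G) := by
          refine hconj.trans (isConj_iff.mpr ⟨n⁻¹, by group⟩)
        have huu : u * u = 1 := by
          obtain ⟨y, hy⟩ := isConj_iff.mp hconj'
          apply Subtype.ext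
          show (u : G) * u = 1
          rw [← hy]
          calc y * t * y⁻¹ * (y * t * y⁻¹) = y * (t * t) * y⁻¹ := by group
            _ = 1 := by rw [h.tt]; group
        obtain ⟨E, huE, hEcard, hEsq⟩ := hP.inv u huu
        have h1 : Nat.card (E.map U0.subtype) ≤ 32 := by
          apply card_elem h.toLocT hconj'
          · rintro _ ⟨x, hx, rfl⟩
            show (x : G) * x = 1
            exact congrArg Subtype.val (hEsq x hx)
          · rintro _ ⟨x, hx, rfl⟩
            show (x : G) * u = u * x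
            exact congrArg Subtype.val (comm_of_sq hEsq hx huE)
        rw [Subgroup.card_map_of_injective U0.subtype_injective, hEcard] at h1
        norm_num at h1
    have hQ : ∀ i, Q i ≤ ψ.range := fun i => HF.Q_le hHyp i
    have hle : U0 ≤ ψ.range := le_trans (le_of_eq hU0) (sup_le (hQ false) (hQ true))
    have hfinr : Finite U0 := inferInstance
    have hcardr : Nat.card ψ.range = Nat.card U0 :=
      (Nat.card_congr (MonoidHom.ofInjective hψ).toEquiv).symm
    have heq : U0 = ψ.range := Subgroup.eq_of_le_of_card_ge hle hcardr.le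
    refine ⟨n, ?_, hnd.symm⟩
    rw [hY, Subgroup.mem_normalizer_iff]
    intro x
    constructor
    · intro hx
      have : n * x * n⁻¹ ∈ ψ.range := ⟨⟨x, hx⟩, rfl⟩
      rw [← heq] at this
      exact this
    · intro hx
      have hx' : n * x * n⁻¹ ∈ ψ.range := by rw [← heq]; exact hx
      obtain ⟨u, hu⟩ := hx'
      rw [hψv] at hu
      have : x = u := by
        have h1 := mul_right_cancel hu
        exact (mul_left_cancel h1).symm
      rw [this]; exact u.2
  · -- `|C : C ∩ Y|` is odd
    rw [← Nat.not_even_iff_odd, even_iff_two_dvd]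
    intro hdvd
    have hp : IsPGroup 2 (That.subgroupOf C) :=
      h.that_two.of_equiv (Subgroup.subgroupOfEquivOfLe hThatC).symm
    obtain ⟨P, hP1⟩ := hp.exists_le_sylow
    have hPcard : Nat.card P ≤ Nat.card That := by
      set P' : Subgroup G := (P : Subgroup C).map C.subtype with hP'
      have h1 : IsPGroup 2 P' := P.isPGroup'.map _
      obtain ⟨c, -, hc⟩ := h.that_syl P' h1 (by
        rintro _ ⟨x, -, rfl⟩
        exact (hmemC _).mp x.2)
      have h2 : P'.map (MulAut.conj c).toMonoidHom ≤ That := by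
        rintro _ ⟨x, hx, rfl⟩
        exact hc x hx
      have h3 := Subgroup.card_le_of_le h2
      rw [Subgroup.card_map_of_injective (MulAut.conj c).injective, hP',
        Subgroup.card_map_of_injective C.subtype_injective] at h3
      exact h3
    have hPeq : That.subgroupOf C = P := by
      apply Subgroup.eq_of_le_of_card_ge hP1
      rw [Nat.card_congr (Subgroup.subgroupOfEquivOfLe hThatC).toEquiv]
      exact hPcard
    have hle : (P : Subgroup C) ≤ Y.subgroupOf C := by
      rw [← hPeq]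
      intro x hx
      rw [Subgroup.mem_subgroupOf] at hx ⊢
      exact hThatY hx
    have h1 := hdvd.trans (Subgroup.index_dvd_of_le hle)
    exact P.not_dvd_index' (Subgroup.index_ne_zero_of_finite) h1

/-- **The case `|R| = 2`, any finite group: `t` is not in the commutator subgroup.** -/
theorem notMem_commutator_of_loc [Finite G]
    (h : Loc t T Z That O A Q) {U0 : Subgroup G} (hU0 : U0 = Q false ⊔ Q true) (τ : MulAut U0)
    (hτ : ∀ x : U0, ((τ x : U0) : G) = t * x * t⁻¹) (hP : Pack U0 τ) : t ∉ commutator G := by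
  obtain ⟨B, _, V, hV⟩ := exists_hom_of_loc h hU0 τ hτ hP
  intro ht
  exact hV (Abelianization.commutator_subset_ker V ht)

end Cfsg.Agent.StdL3.ExtGen
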