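import Cfsg.Agent.SporadicA.FieldFour

/-!
# `L₃(4)` standard, `|R| = 4`: one side of the growth

`z = x₀₂`, `a = x₀₁`, `s = x₁₂`, `s' = x₂₁`, `w` the Weyl element (side 1); `z = x₀₂`, `a = x₁₂`, `s = x₀₁`,
`s' = x₁₀` (side 2).  `r` the coordinates on `R`, `n` the coordinates on `C_{T₁}(S)/(R Z)`.  With
`y m = (n m)^w` we determine `[n l, y m]` and `(y m)^(s b)` up to one parameter `c ∈ 𝔽₄`.
-/

set_option autoImplicit false
set_option linter.constructorNameAsVariable false
set_option linter.unusedVariables false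
set_option linter.unusedSimpArgs false

namespace Cfsg.Agent.StdL3.FourW

open Cfsg.Agent.SporadicA.FieldFour

variable {X : Type*} [Group X]

/-- The data of one side. -/
structure Side (κ : F4) (H : X →* X) (z a s s' r n : F4 → X) (w : X) : Prop where
  zA : ∀ u v, z (u + v) = z u * z v
  aA : ∀ u v, a (u + v) = a u * a v
  sA : ∀ u v, s (u + v) = s u * s v
  rA : ∀ u v, r (u + v) = r u * r v
  n0 : n 0 = 1
  nK : ∀ u v, n u * n v = n (u + v) * z (κ * (u * u) * (v * v))
  inj : ∀ k u v, r k * a u * z v = 1 → k = 0 ∧ u = 0 ∧ v = 0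
  az : ∀ u v, a u * z v = z v * a u
  sz : ∀ u v, s u * z v = z v * s u
  as : ∀ u v, a u * s v = s v * a u * z (u * v)
  as' : ∀ u v, a u * s' v = s' v * a u
  zs' : ∀ u v, z u * s' v = s' v * z u * a (u * v)
  rz : ∀ u v, r u * z v = z v * r u
  ra : ∀ u v, r u * a v = a v * r u
  rs : ∀ u v, r u * s v = s v * r u
  rs' : ∀ u v, r u * s' v = s' v * r u
  nz : ∀ u v, n u * z v = z v * n u
  na : ∀ u v, n u * a v = a v * n u
  ns : ∀ u v, n u * s v = s v * n u
  rn : ∀ k l, r k * n l = n l * r k * z (k * l)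
  Hz : ∀ u, H (z u) = z (F4.v * u)
  Ha : ∀ u, H (a u) = a (F4.w * u)
  Hs : ∀ u, H (s u) = s (F4.w * u)
  Hr : ∀ u, H (r u) = r u
  Hn : ∀ u, H (n u) = n (F4.v * u)
  Hw : ∀ x, H (w⁻¹ * x * w) = w⁻¹ * H (H x) * w
  wdef : w = s 1 * s' 1 * s 1
  ww : w * w = 1
  wz : ∀ u, w⁻¹ * z u * w = a u
  wa : ∀ u, w⁻¹ * a u * w = z u
  ws : ∀ u, w⁻¹ * s u * w = s' u
  CF : ∀ y, (∀ m, y * r m = r m * y) → (∀ u, y * a u = a u * y) → (∀ u, y * z u = z u * y) →
    ∃ m u v, y = r m * a u * z v

theorem add_self (u : F4) : u + u = 0 := by revert u; decide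

theorem f_zero {f : F4 → X} (h : ∀ u v, f (u + v) = f u * f v) : f 0 = 1 := by
  have := h 0 0
  rw [add_zero] at this
  exact left_eq_mul.1 this

theorem f_sq {f : F4 → X} (h : ∀ u v, f (u + v) = f u * f v) (u : F4) : f u * f u = 1 := by
  rw [← h, add_self, f_zero h]

theorem f_inv {f : F4 → X} (h : ∀ u v, f (u + v) = f u * f v) (u : F4) : (f u)⁻¹ = f u :=
  inv_eq_of_mul_eq_one_right (f_sq h u)

theorem add_sq (u v : F4) : (u + v) * (u + v) = u * u + v * v := by revert u v; decide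

theorem g_zero {f : F4 → F4} (h : ∀ u v, f (u + v) = f u + f v) : f 0 = 0 := by
  have := h 0 0
  rw [add_zero] at this
  exact left_eq_add.1 this

/-- a biadditive function vanishing on a basis is `0`. -/
theorem bil0 (f : F4 → F4 → F4) (h1 : ∀ l l' m, f (l + l') m = f l m + f l' m)
    (h2 : ∀ l m m', f l (m + m') = f l m + f l m')
    (e1 : f 1 1 = 0) (e2 : f 1 F4.w = 0) (e3 : f F4.w 1 = 0) (e4 : f F4.w F4.w = 0) :
    ∀ l m, f l m = 0 := by
  have k1 : ∀ m, f 1 m = 0 := by
    intro m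
    cases m
    · exact g_zero (h2 1)
    · exact e1
    · exact e2
    · have : f 1 (1 + F4.w) = 0 := by rw [h2, e1, e2]; rfl
      exact this
  have k2 : ∀ m, f F4.w m = 0 := by
    intro m
    cases m
    · exact g_zero (h2 F4.w)
    · exact e3
    · exact e4
    · have : f F4.w (1 + F4.w) = 0 := by rw [h2, e3, e4]; rfl
      exact this
  intro l m
  cases l
  · exact g_zero (f := fun l => f l m) (fun u v => h1 u v m)
  · exact k1 m
  · exact k2 m
  · have : f (1 + F4.w) m = 0 := by rw [h1, k1, k2]; rfl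
    exact this

set_option synthInstance.maxHeartbeats 400000 in
set_option synthInstance.maxSize 100000 in
/-- Two-variable additive functions of weight `(2,1) → 1`. -/
theorem bil1 (f : F4 → F4 → F4) (h1 : ∀ l l' m, f (l + l') m = f l m + f l' m)
    (h2 : ∀ l m m', f l (m + m') = f l m + f l m')
    (hw : ∀ l m, f (F4.v * l) (F4.w * m) = F4.w * f l m) :
    ∀ l m, f l m = f 1 1 * l * (m * m) := by
  have k : ∀ p q s t : F4, q + t = F4.w * p → (p + q) + (s + t) = F4.w * q → q = F4.w * s →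
      p + q = F4.w * t →
      q + p * 1 * (F4.w * F4.w) = 0 ∧ s + p * F4.w * (1 * 1) = 0 ∧
        t + p * F4.w * (F4.w * F4.w) = 0 := by decide
  have e1 := hw 1 1
  have e2 := hw 1 F4.w
  have e3 := hw F4.w 1
  have e4 := hw F4.w F4.w
  have v1 : F4.v * 1 = 1 + F4.w := rfl
  have w1 : F4.w * 1 = F4.w := rfl
  have w2 : F4.w * F4.w = 1 + F4.w := rfl
  have v2 : F4.v * F4.w = 1 := rfl
  rw [v1, w1, h1] at e1
  rw [v1, w2, h1, h2, h2] at e2
  rw [v2, w1] at e3
  rw [v2, w2, h2] at e4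
  obtain ⟨k1, k2, k3⟩ := k _ _ _ _ e1 e2 e3 e4
  have key := bil0 (fun l m => f l m + f 1 1 * l * (m * m))
    (fun l l' m => by
      have h := h1 l l' m
      simp only [h]; ring)
    (fun l m m' => by
      have h := h2 l m m'
      simp only [h, add_sq]; ring)
    (by have : ∀ p : F4, p + p * 1 * (1 * 1) = 0 := by decide
        exact this _) k1 k2 k3
  intro l m
  have h := key l m
  have : ∀ p q : F4, p + q = 0 → p = q := by decide
  exact this _ _ h

set_option synthInstance.maxHeartbeats 400000 in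
set_option synthInstance.maxSize 100000 in
/-- Two-variable additive functions of weight `(1,1) → 2`. -/
theorem bil2 (f : F4 → F4 → F4) (h1 : ∀ l l' m, f (l + l') m = f l m + f l' m)
    (h2 : ∀ l m m', f l (m + m') = f l m + f l m')
    (hw : ∀ l m, f (F4.w * l) (F4.w * m) = F4.v * f l m) :
    ∀ l m, f l m = f 1 1 * l * m := by
  have k : ∀ p q s t : F4, t = F4.v * p → s + t = F4.v * q → q + t = F4.v * s →
      q + p * 1 * F4.w = 0 ∧ s + p * F4.w * 1 = 0 ∧ t + p * F4.w * F4.w = 0 := by decide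
  have e1 := hw 1 1
  have e2 := hw 1 F4.w
  have e3 := hw F4.w 1
  have w1 : F4.w * 1 = F4.w := rfl
  have w2 : F4.w * F4.w = 1 + F4.w := rfl
  rw [w1] at e1
  rw [w1, w2, h2] at e2
  rw [w1, w2, h1] at e3
  obtain ⟨k1, k2, k3⟩ := k _ _ _ _ e1 e2 e3
  have key := bil0 (fun l m => f l m + f 1 1 * l * m)
    (fun l l' m => by
      have h := h1 l l' m
      simp only [h]; ring)
    (fun l m m' => by
      have h := h2 l m m'
      simp only [h]; ring)
    (by have : ∀ p : F4, p + p * 1 * 1 = 0 := by decide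
        exact this _) k1 k2 k3
  intro l m
  have h := key l m
  have : ∀ p q : F4, p + q = 0 → p = q := by decide
  exact this _ _ h

set_option synthInstance.maxHeartbeats 400000 in
set_option synthInstance.maxSize 100000 in
theorem bil3 (f : F4 → F4 → F4) (h1 : ∀ l l' m, f (l + l') m = f l m + f l' m)
    (h2 : ∀ l m m', f l (m + m') = f l m + f l m')
    (hs : ∀ m b b', f m b * b' = f m b' * b)
    (hw : ∀ l m, f (F4.w * l) (F4.w * m) = F4.w * f l m) :
    ∀ l m, f l m = 0 := by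
  have k : ∀ p q s t : F4, p * F4.w = q * 1 → s * F4.w = t * 1 → t = F4.w * p →
      q + t = F4.w * s → p = 0 ∧ q = 0 ∧ s = 0 ∧ t = 0 := by decide
  have e1 := hw 1 1
  have e3 := hw F4.w 1
  have w1 : F4.w * 1 = F4.w := rfl
  have w2 : F4.w * F4.w = 1 + F4.w := rfl
  rw [w1] at e1
  rw [w1, w2, h1] at e3
  obtain ⟨k0, k1, k2, k3⟩ := k _ _ _ _ (hs 1 1 F4.w) (hs F4.w 1 F4.w) e1 e3
  exact bil0 f h1 h2 k0 k1 k2 k3

namespace Side

variable {κ : F4} {H : X →* X} {z a s s' r n : F4 → X} {w : X} (S : Side κ H z a s s' r n w)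

/-- the conjugate `n^w` -/
def y (_ : Side κ H z a s s' r n w) (m : F4) : X := w⁻¹ * n m * w

include S

theorem y0 : S.y 0 = 1 := by
  unfold y; rw [S.n0]; group

theorem yK (u v : F4) : S.y u * S.y v = S.y (u + v) * a (κ * (u * u) * (v * v)) := by
  unfold y
  rw [← S.wz]
  calc w⁻¹ * n u * w * (w⁻¹ * n v * w) = w⁻¹ * (n u * n v) * w := by group
    _ = w⁻¹ * (n (u + v) * z (κ * (u * u) * (v * v))) * w := by rw [S.nK]
    _ = _ := by group

omit S in
theorem k4 (κ l : F4) : κ * (l * l) * (l * l) = κ * l := by revert κ l; decide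

theorem nsq (l : F4) : n l * n l = z (κ * l) := by
  rw [S.nK, add_self, S.n0, one_mul, k4]

theorem ysq (l : F4) : S.y l * S.y l = a (κ * l) := by
  rw [S.yK, add_self, S.y0, one_mul, k4]

theorem wr (k : F4) : w * r k = r k * w := by
  rw [S.wdef]
  have h1 := S.rs k 1
  have h2 := S.rs' k 1
  calc s 1 * s' 1 * s 1 * r k = s 1 * s' 1 * (s 1 * r k) := by group
    _ = s 1 * (s' 1 * r k) * s 1 := by rw [← h1]; group
    _ = (s 1 * r k) * s' 1 * s 1 := by rw [← h2]; group
    _ = r k * (s 1 * s' 1 * s 1) := by rw [← h1]; group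

theorem winv : w⁻¹ = w := inv_eq_of_mul_eq_one_right S.ww

theorem yz (m v : F4) : S.y m * z v = z v * S.y m := by
  have h := S.na m v
  rw [← S.wa v]
  unfold y
  calc w⁻¹ * n m * w * (w⁻¹ * a v * w) = w⁻¹ * (n m * a v) * w := by group
    _ = _ := by rw [h]; group

theorem ya (m v : F4) : S.y m * a v = a v * S.y m := by
  have h := S.nz m v
  rw [← S.wz v]
  unfold y
  calc w⁻¹ * n m * w * (w⁻¹ * z v * w) = w⁻¹ * (n m * z v) * w := by group
    _ = _ := by rw [h]; group

theorem ys' (m v : F4) : S.y m * s' v = s' v * S.y m := by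
  have h := S.ns m v
  rw [← S.ws v]
  unfold y
  calc w⁻¹ * n m * w * (w⁻¹ * s v * w) = w⁻¹ * (n m * s v) * w := by group
    _ = _ := by rw [h]; group

theorem ry (k m : F4) : r k * S.y m = S.y m * r k * a (k * m) := by
  have h := S.rn k m
  have hw := S.wr k
  have hw' : r k * w⁻¹ = w⁻¹ * r k := by
    calc r k * w⁻¹ = w⁻¹ * (w * r k) * w⁻¹ := by group
      _ = w⁻¹ * r k := by rw [hw]; group
  rw [← S.wz (k * m)]
  unfold y
  calc r k * (w⁻¹ * n m * w) = (r k * w⁻¹) * n m * w := by group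
    _ = w⁻¹ * (r k * n m) * w := by rw [hw']; group
    _ = w⁻¹ * n m * (r k * z (k * m)) * w := by rw [h]; group
    _ = w⁻¹ * n m * w * (w⁻¹ * r k) * z (k * m) * w := by group
    _ = w⁻¹ * n m * w * (r k * w⁻¹) * z (k * m) * w := by rw [hw']
    _ = _ := by group

theorem Hy (m : F4) : H (S.y m) = S.y (F4.w * m) := by
  unfold y
  rw [S.Hw, S.Hn, S.Hn]
  have : F4.v * (F4.v * m) = F4.w * m := by revert m; decide
  rw [this]

/-- the commutator `[n l, y m]` -/
def k (l m : F4) : X := (n l)⁻¹ * (S.y m)⁻¹ * n l * S.y m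

theorem ny0 (l m : F4) : n l * S.y m = S.y m * n l * S.k l m := by unfold k; group

theorem k_z (l m u : F4) : S.k l m * z u = z u * S.k l m := by
  have h1 := S.nz l u
  have h2 := S.yz m u
  unfold k
  calc (n l)⁻¹ * (S.y m)⁻¹ * n l * S.y m * z u = (n l)⁻¹ * (S.y m)⁻¹ * n l * (S.y m * z u) := by
        group
    _ = (n l)⁻¹ * (S.y m)⁻¹ * (n l * z u) * S.y m := by rw [h2]; group
    _ = (n l)⁻¹ * ((S.y m)⁻¹ * z u) * n l * S.y m := by rw [h1]; group
    _ = ((n l)⁻¹ * z u) * (S.y m)⁻¹ * n l * S.y m := by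
        have : (S.y m)⁻¹ * z u = z u * (S.y m)⁻¹ := by
          rw [inv_mul_eq_iff_eq_mul, ← mul_assoc, h2]; group
        rw [this]; group
    _ = _ := by
        have : (n l)⁻¹ * z u = z u * (n l)⁻¹ := by
          rw [inv_mul_eq_iff_eq_mul, ← mul_assoc, h1]; group
        rw [this]; group

theorem k_a (l m u : F4) : S.k l m * a u = a u * S.k l m := by
  have h1 := S.na l u
  have h2 := S.ya m u
  unfold k
  calc (n l)⁻¹ * (S.y m)⁻¹ * n l * S.y m * a u = (n l)⁻¹ * (S.y m)⁻¹ * n l * (S.y m * a u) := by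
        group
    _ = (n l)⁻¹ * (S.y m)⁻¹ * (n l * a u) * S.y m := by rw [h2]; group
    _ = (n l)⁻¹ * ((S.y m)⁻¹ * a u) * n l * S.y m := by rw [h1]; group
    _ = ((n l)⁻¹ * a u) * (S.y m)⁻¹ * n l * S.y m := by
        have : (S.y m)⁻¹ * a u = a u * (S.y m)⁻¹ := by
          rw [inv_mul_eq_iff_eq_mul, ← mul_assoc, h2]; group
        rw [this]; group
    _ = _ := by
        have : (n l)⁻¹ * a u = a u * (n l)⁻¹ := by
          rw [inv_mul_eq_iff_eq_mul, ← mul_assoc, h1]; group
        rw [this]; group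

theorem k_r (l m j : F4) : S.k l m * r j = r j * S.k l m := by
  have e1 : r j * (n l * S.y m) = n l * S.y m * (r j * a (j * m) * z (j * l)) := by
    calc r j * (n l * S.y m) = (r j * n l) * S.y m := by group
      _ = n l * r j * (z (j * l) * S.y m) := by rw [S.rn]; group
      _ = n l * (r j * S.y m) * z (j * l) := by rw [← S.yz]; group
      _ = _ := by rw [S.ry]; group
  have e2 : r j * (S.y m * n l) = S.y m * n l * (r j * a (j * m) * z (j * l)) := by
    calc r j * (S.y m * n l) = (r j * S.y m) * n l := by group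
      _ = S.y m * r j * (a (j * m) * n l) := by rw [S.ry]; group
      _ = S.y m * (r j * n l) * a (j * m) := by rw [← S.na]; group
      _ = S.y m * n l * r j * (z (j * l) * a (j * m)) := by rw [S.rn]; group
      _ = _ := by rw [← S.az]; group
  have e3 : S.k l m = (S.y m * n l)⁻¹ * (n l * S.y m) := by unfold k; group
  set A := n l * S.y m
  set B := S.y m * n l
  set C := r j * a (j * m) * z (j * l)
  rw [e3]
  have e4 : B⁻¹ * r j = C * B⁻¹ := by
    rw [inv_mul_eq_iff_eq_mul, ← mul_assoc, ← e2]; group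
  have e5 : A * r j = A * r j := rfl
  have e6 : r j * B⁻¹ = B⁻¹ * (B * r j * B⁻¹) := by group
  -- r A = A C, r B = B C  ⇒ r (B⁻¹ A) = (B C B⁻¹)... use C
  have e7 : C * (B⁻¹ * A) = B⁻¹ * A * C := by
    calc C * (B⁻¹ * A) = (C * B⁻¹) * A := by group
      _ = B⁻¹ * (r j * A) := by rw [← e4]; group
      _ = B⁻¹ * A * C := by rw [e1]; group
  -- `C = r j * a * z`, `B⁻¹ A` commutes with `a`, `z`
  have h1 : B⁻¹ * A * a (j * m) = a (j * m) * (B⁻¹ * A) := by rw [← e3]; exact S.k_a l m _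
  have h2 : B⁻¹ * A * z (j * l) = z (j * l) * (B⁻¹ * A) := by rw [← e3]; exact S.k_z l m _
  have h3 : r j = C * (z (j * l))⁻¹ * (a (j * m))⁻¹ := by
    change r j = r j * a (j * m) * z (j * l) * (z (j * l))⁻¹ * (a (j * m))⁻¹
    group
  have h4 : ∀ g t : X, g * t = t * g → g * t⁻¹ = t⁻¹ * g := by
    intro g t hg
    rw [mul_inv_eq_iff_eq_mul, mul_assoc, hg]; group
  rw [h3]
  calc B⁻¹ * A * (C * (z (j * l))⁻¹ * (a (j * m))⁻¹)
      = (B⁻¹ * A * C) * (z (j * l))⁻¹ * (a (j * m))⁻¹ := by group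
    _ = C * (B⁻¹ * A * (z (j * l))⁻¹) * (a (j * m))⁻¹ := by rw [← e7]; group
    _ = C * (z (j * l))⁻¹ * (B⁻¹ * A * (a (j * m))⁻¹) := by rw [h4 _ _ h2]; group
    _ = _ := by rw [h4 _ _ h1]; group

theorem az_inj {u v u' v' : F4} (h : a u * z v = a u' * z v') : u = u' ∧ v = v' := by
  have h1 : r 0 * a (u + u') * z (v + v') = 1 := by
    rw [f_zero S.rA, one_mul, S.aA, S.zA]
    have c := S.az u' v
    calc a u * a u' * (z v * z v') = a u * (a u' * z v) * z v' := by group
      _ = (a u * z v) * (a u' * z v') := by rw [c]; group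
      _ = (a u' * z v') * (a u' * z v') := by rw [h]
      _ = a u' * (z v' * a u') * z v' := by group
      _ = (a u' * a u') * (z v' * z v') := by rw [← S.az]; group
      _ = 1 := by rw [f_sq S.aA, f_sq S.zA, one_mul]
  obtain ⟨_, h2, h3⟩ := S.inj _ _ _ h1
  have key : ∀ x y : F4, x + y = 0 → x = y := by decide
  exact ⟨key _ _ h2, key _ _ h3⟩

theorem az_mul (u v u' v' : F4) : a u * z v * (a u' * z v') = a (u + u') * z (v + v') := by
  rw [S.aA, S.zA]
  have c := S.az u' v
  calc a u * z v * (a u' * z v') = a u * (z v * a u') * z v' := by group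
    _ = _ := by rw [← c]; group

/-- `[n l, y m] ∈ a z`. -/
theorem exists_k (l m : F4) : ∃ p q : F4, S.k l m = a p * z q := by
  obtain ⟨ρ, p, q, h⟩ := S.CF (S.k l m) (S.k_r l m) (S.k_a l m) (S.k_z l m)
  have h0 := S.ny0 l m
  have hk : n l * S.k l m * (n l * S.k l m) = z (κ * l) := by
    have e1 : n l * (n l * S.y m) = S.y m * (n l * S.k l m * (n l * S.k l m)) := by
      have e2 : n l * (S.y m * n l * S.k l m) = (n l * S.y m) * (n l * S.k l m) := by group
      rw [h0, e2, h0]; group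
    rw [← mul_assoc, S.nsq, ← S.yz] at e1
    exact (mul_left_cancel e1).symm
  rw [h] at hk
  have c1 : ∀ k l, r k * n l = n l * (r k * z (k * l)) := fun k l => by rw [S.rn, mul_assoc]
  have c1' : ∀ k l t, r k * (n l * t) = n l * (r k * (z (k * l) * t)) := fun k l t => by
    rw [← mul_assoc, S.rn, mul_assoc, mul_assoc]
  have c2' : ∀ u l t, a u * (n l * t) = n l * (a u * t) := fun u l t => by
    rw [← mul_assoc, ← S.na, mul_assoc]
  have c3' : ∀ u l t, z u * (n l * t) = n l * (z u * t) := fun u l t => by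
    rw [← mul_assoc, ← S.nz, mul_assoc]
  have c4 : ∀ u k t, a u * (r k * t) = r k * (a u * t) := fun u l t => by
    rw [← mul_assoc, ← S.ra, mul_assoc]
  have c5 : ∀ u k t, z u * (r k * t) = r k * (z u * t) := fun u l t => by
    rw [← mul_assoc, ← S.rz, mul_assoc]
  have c6 : ∀ u k t, z u * (a k * t) = a k * (z u * t) := fun u l t => by
    rw [← mul_assoc, ← S.az, mul_assoc]
  have d1 : ∀ u v t, n u * (n v * t) = n (u + v) * (z (κ * (u * u) * (v * v)) * t) :=
    fun u v t => by rw [← mul_assoc, S.nK, mul_assoc]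
  have d2 : ∀ u v t, r u * (r v * t) = r (u + v) * t := fun u v t => by rw [S.rA, mul_assoc]
  have d3 : ∀ u v t, a u * (a v * t) = a (u + v) * t := fun u v t => by rw [S.aA, mul_assoc]
  have d4 : ∀ u v, z u * z v = z (u + v) := fun u v => by rw [S.zA]
  have d4' : ∀ u v t, z u * (z v * t) = z (u + v) * t := fun u v t => by rw [S.zA, mul_assoc]
  simp only [mul_assoc, c1', c2', c3', c4, c5, c6, d1, d2, d3, d4, d4'] at hk
  simp only [add_self, S.n0, f_zero S.rA, f_zero S.aA, one_mul, add_zero] at hk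
  have h5 : a 0 * z (κ * (l * l * (l * l)) + ρ * l) = a 0 * z (κ * l) := by
    rw [← hk]
    simp only [mul_assoc, add_comm, add_left_comm]
  have h4 : ρ * l = 0 := by
    have h3 := (S.az_inj h5).2
    have key : ∀ x l y : F4, x * (l * l * (l * l)) + y = x * l → y = 0 := by decide
    exact key _ _ _ h3
  rcases mul_eq_zero.1 h4 with h1 | h1
  · refine ⟨p, q, ?_⟩
    rw [h, h1, f_zero S.rA, one_mul]
  · refine ⟨0, 0, ?_⟩
    rw [h1, f_zero S.aA, f_zero S.zA]
    unfold k
    rw [S.n0]; group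

/-- the commutator `[n l, y m]`, one parameter. -/
theorem exists_c : ∃ c : F4, ∀ l m, S.k l m = a (c * l * (m * m)) * z (c * (l * l) * m) := by
  choose p q hpq using S.exists_k
  have kn : ∀ l m l', S.k l m * n l' = n l' * S.k l m := by
    intro l m l'
    rw [hpq]
    have h1 := S.na l' (p l m)
    have h2 := S.nz l' (q l m)
    calc a (p l m) * z (q l m) * n l' = a (p l m) * (z (q l m) * n l') := by group
      _ = (a (p l m) * n l') * z (q l m) := by rw [← h2]; group
      _ = _ := by rw [← h1]; group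
  have ky : ∀ l m l', S.k l m * S.y l' = S.y l' * S.k l m := by
    intro l m l'
    rw [hpq]
    have h1 := S.ya l' (p l m)
    have h2 := S.yz l' (q l m)
    calc a (p l m) * z (q l m) * S.y l' = a (p l m) * (z (q l m) * S.y l') := by group
      _ = (a (p l m) * S.y l') * z (q l m) := by rw [← h2]; group
      _ = _ := by rw [← h1]; group
  have add1 : ∀ l l' m, S.k (l + l') m = S.k l m * S.k l' m := by
    intro l l' m
    have e1 : n l * n l' * S.y m = S.y m * (n l * n l') * (S.k l m * S.k l' m) := by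
      calc n l * n l' * S.y m = n l * (n l' * S.y m) := by group
        _ = (n l * S.y m) * (n l' * S.k l' m) := by rw [S.ny0 l' m]; group
        _ = S.y m * n l * (S.k l m * n l') * S.k l' m := by rw [S.ny0 l m]; group
        _ = _ := by rw [kn]; group
    rw [S.nK] at e1
    set t := z (κ * (l * l) * (l' * l'))
    have h1 : t * S.y m = S.y m * t := (S.yz m _).symm
    have h2 : S.k (l + l') m * t = t * S.k (l + l') m := S.k_z _ _ _
    have e2 : S.y m * (n (l + l') * t) * S.k (l + l') m =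
        S.y m * (n (l + l') * t) * (S.k l m * S.k l' m) := by
      rw [← e1]
      calc S.y m * (n (l + l') * t) * S.k (l + l') m = S.y m * n (l + l') * (t * S.k (l + l') m) := by
            group
        _ = (S.y m * n (l + l') * S.k (l + l') m) * t := by rw [← h2]; group
        _ = n (l + l') * (S.y m * t) := by rw [← S.ny0]; group
        _ = _ := by rw [← h1]; group
    exact mul_left_cancel e2
  have add2 : ∀ l m m', S.k l (m + m') = S.k l m * S.k l m' := by
    intro l m m'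
    have e1 : n l * (S.y m * S.y m') = S.y m * S.y m' * n l * (S.k l m' * S.k l m) := by
      calc n l * (S.y m * S.y m') = (n l * S.y m) * S.y m' := by group
        _ = S.y m * n l * (S.k l m * S.y m') := by rw [S.ny0 l m]; group
        _ = S.y m * (n l * S.y m') * S.k l m := by rw [ky]; group
        _ = _ := by rw [S.ny0 l m']; group
    rw [S.yK] at e1
    set t := a (κ * (m * m) * (m' * m'))
    have h1 : t * n l = n l * t := (S.na l _).symm
    have h2 : S.k l (m + m') * t = t * S.k l (m + m') := S.k_a _ _ _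
    have e2 : S.y (m + m') * t * n l * S.k l (m + m') =
        S.y (m + m') * t * n l * (S.k l m' * S.k l m) := by
      rw [← e1]
      calc S.y (m + m') * t * n l * S.k l (m + m') = S.y (m + m') * (t * n l) * S.k l (m + m') := by
            group
        _ = S.y (m + m') * n l * (t * S.k l (m + m')) := by rw [h1]; group
        _ = (S.y (m + m') * n l * S.k l (m + m')) * t := by rw [← h2]; group
        _ = _ := by rw [← S.ny0]; group
    rw [mul_left_cancel e2, hpq, hpq, S.az_mul, S.az_mul, add_comm (p l m'), add_comm (q l m')]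
  have pA1 : ∀ l l' m, p (l + l') m = p l m + p l' m ∧ q (l + l') m = q l m + q l' m := by
    intro l l' m
    have h := add1 l l' m
    rw [hpq, hpq, hpq, S.az_mul] at h
    exact S.az_inj h
  have pA2 : ∀ l m m', p l (m + m') = p l m + p l m' ∧ q l (m + m') = q l m + q l m' := by
    intro l m m'
    have h := add2 l m m'
    rw [hpq, hpq, hpq, S.az_mul] at h
    exact S.az_inj h
  have pW : ∀ l m, p (F4.v * l) (F4.w * m) = F4.w * p l m := by
    intro l m
    have h : H (S.k l m) = S.k (F4.v * l) (F4.w * m) := by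
      unfold k
      rw [map_mul, map_mul, map_mul, map_inv, map_inv, S.Hn, S.Hy]
    rw [hpq, hpq, map_mul, S.Ha, S.Hz] at h
    exact (S.az_inj h).1.symm
  have sym : ∀ l m, q l m = p m l := by
    intro l m
    have h1 : w⁻¹ * S.k l m * w = (S.k m l)⁻¹ := by
      have e1 : w⁻¹ * S.y m * w = n m := by
        unfold y
        have hw := S.ww
        have hw' : w⁻¹ * w⁻¹ = 1 := by rw [← mul_inv_rev, hw, inv_one]
        calc w⁻¹ * (w⁻¹ * n m * w) * w = (w⁻¹ * w⁻¹) * n m * (w * w) := by group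
          _ = n m := by rw [hw, hw']; group
      have e2 : w⁻¹ * n l * w = S.y l := rfl
      unfold k
      calc w⁻¹ * ((n l)⁻¹ * (S.y m)⁻¹ * n l * S.y m) * w
          = (w⁻¹ * n l * w)⁻¹ * (w⁻¹ * S.y m * w)⁻¹ * (w⁻¹ * n l * w) * (w⁻¹ * S.y m * w) := by group
        _ = (S.y l)⁻¹ * (n m)⁻¹ * S.y l * n m := by rw [e1, e2]
        _ = _ := by group
    rw [hpq, hpq] at h1
    have e3 : w⁻¹ * (a (p l m) * z (q l m)) * w = z (p l m) * a (q l m) := by
      have e4 := S.wa (p l m)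
      have e5 := S.wz (q l m)
      calc w⁻¹ * (a (p l m) * z (q l m)) * w =
          (w⁻¹ * a (p l m) * w) * (w⁻¹ * z (q l m) * w) := by group
        _ = _ := by rw [e4, e5]
    rw [e3, mul_inv_rev, f_inv S.aA, f_inv S.zA, ← S.az, ← S.az] at h1
    exact (S.az_inj h1).1
  have hp := bil1 p (fun l l' m => (pA1 l l' m).1) (fun l m m' => (pA2 l m m').1) pW
  refine ⟨p 1 1, ?_⟩
  intro l m
  rw [hpq, sym, hp, hp m l]
  congr 2
  ring

/-- normal form in `W = ⟨y, n, r, a, z⟩` -/
def W (m l k u v : F4) : X :=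
  S.y m * (n l * (r k * (a u * z v)))

variable {c : F4} (hc : ∀ l m, S.k l m = a (c * l * (m * m)) * z (c * (l * l) * m))

include hc


theorem ny (l m : F4) :
    n l * S.y m = S.y m * (n l * (a (c * l * (m * m)) * z (c * (l * l) * m))) := by
  rw [S.ny0, hc, mul_assoc]

theorem W_mul (m l k u v m' l' k' u' v' : F4) :
    S.W m l k u v * S.W m' l' k' u' v' =
      S.W (m + m') (l + l') (k + k')
        (u + u' + (c * l * (m' * m') + k * m') + κ * (m * m) * (m' * m'))
        (v + v' + (c * (l * l) * m' + k * l') + κ * (l * l) * (l' * l')) := by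
  unfold W
  have c0' : ∀ l m t, n l * (S.y m * t) =
      S.y m * (n l * (a (c * l * (m * m)) * (z (c * (l * l) * m) * t))) := fun l m t => by
    rw [← mul_assoc, S.ny hc]; simp only [mul_assoc]
  have c1' : ∀ k l t, r k * (n l * t) = n l * (r k * (z (k * l) * t)) := fun k l t => by
    rw [← mul_assoc, S.rn, mul_assoc, mul_assoc]
  have c1'' : ∀ k l t, r k * (S.y l * t) = S.y l * (r k * (a (k * l) * t)) := fun k l t => by
    rw [← mul_assoc, S.ry, mul_assoc, mul_assoc]
  have c2' : ∀ u l t, a u * (n l * t) = n l * (a u * t) := fun u l t => by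
    rw [← mul_assoc, ← S.na, mul_assoc]
  have c3' : ∀ u l t, z u * (n l * t) = n l * (z u * t) := fun u l t => by
    rw [← mul_assoc, ← S.nz, mul_assoc]
  have c2'' : ∀ u l t, a u * (S.y l * t) = S.y l * (a u * t) := fun u l t => by
    rw [← mul_assoc, ← S.ya, mul_assoc]
  have c3'' : ∀ u l t, z u * (S.y l * t) = S.y l * (z u * t) := fun u l t => by
    rw [← mul_assoc, ← S.yz, mul_assoc]
  have c4 : ∀ u k t, a u * (r k * t) = r k * (a u * t) := fun u l t => by
    rw [← mul_assoc, ← S.ra, mul_assoc]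
  have c5 : ∀ u k t, z u * (r k * t) = r k * (z u * t) := fun u l t => by
    rw [← mul_assoc, ← S.rz, mul_assoc]
  have c6 : ∀ u k t, z u * (a k * t) = a k * (z u * t) := fun u l t => by
    rw [← mul_assoc, ← S.az, mul_assoc]
  have d0 : ∀ u v t, S.y u * (S.y v * t) = S.y (u + v) * (a (κ * (u * u) * (v * v)) * t) :=
    fun u v t => by rw [← mul_assoc, S.yK, mul_assoc]
  have d1 : ∀ u v t, n u * (n v * t) = n (u + v) * (z (κ * (u * u) * (v * v)) * t) :=
    fun u v t => by rw [← mul_assoc, S.nK, mul_assoc]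
  have d2 : ∀ u v t, r u * (r v * t) = r (u + v) * t := fun u v t => by rw [S.rA, mul_assoc]
  have d3 : ∀ u v t, a u * (a v * t) = a (u + v) * t := fun u v t => by rw [S.aA, mul_assoc]
  have d4 : ∀ u v, z u * z v = z (u + v) := fun u v => by rw [S.zA]
  have d4' : ∀ u v t, z u * (z v * t) = z (u + v) * t := fun u v t => by rw [S.zA, mul_assoc]
  simp only [mul_assoc, c0', c1', c1'', c2', c3', c2'', c3'', c4, c5, c6, d0, d1, d2, d3, d4, d4']
  congr 4
  · congr 1; ring
  · congr 1; ring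

omit hc in
theorem raz_inj {k u v k' u' v' : F4} (h : r k * (a u * z v) = r k' * (a u' * z v')) :
    k = k' ∧ u = u' ∧ v = v' := by
  have h1 : r (k + k') * a (u + u') * z (v + v') = 1 := by
    have e1 : r (k + k') * (a (u + u') * z (v + v')) = r k * (a u * z v) * (r k' * (a u' * z v')) := by
      rw [← S.az_mul, S.rA]
      have c1 := S.ra k' u
      have c2 := S.rz k' v
      calc r k * r k' * (a u * z v * (a u' * z v')) = r k * (r k' * a u) * z v * (a u' * z v') := by
            group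
        _ = r k * a u * (r k' * z v) * (a u' * z v') := by rw [c1]; group
        _ = _ := by rw [c2]; group
    rw [mul_assoc, e1, h]
    have c1 := S.ra k' u'
    have c2 := S.rz k' v'
    calc r k' * (a u' * z v') * (r k' * (a u' * z v'))
        = r k' * a u' * (z v' * r k') * (a u' * z v') := by group
      _ = r k' * (a u' * r k') * z v' * (a u' * z v') := by rw [← c2]; group
      _ = (r k' * r k') * (a u' * z v' * (a u' * z v')) := by rw [← c1]; group
      _ = 1 := by
        rw [S.az_mul, f_sq S.rA, add_self, add_self, f_zero S.aA, f_zero S.zA]; group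
  obtain ⟨h2, h3, h4⟩ := S.inj _ _ _ h1
  have key : ∀ x y : F4, x + y = 0 → x = y := by decide
  exact ⟨key _ _ h2, key _ _ h3, key _ _ h4⟩

theorem W_inj {m l k u v m' l' k' u' v' : F4} (h : S.W m l k u v = S.W m' l' k' u' v') :
    m = m' ∧ l = l' ∧ k = k' ∧ u = u' ∧ v = v' := by
  have e1 : ∀ m l k u v : F4, S.W 0 0 1 0 0 * S.W m l k u v = S.W m l k u v * S.W 0 0 1 m l := by
    intro m l k u v
    rw [S.W_mul hc, S.W_mul hc]
    congr 1 <;> ring
  have e2 : S.W 0 0 1 m l = S.W 0 0 1 m' l' := by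
    have h1 := e1 m l k u v
    rw [h, e1] at h1
    exact (mul_left_cancel h1).symm
  unfold W at e2
  obtain ⟨_, h3, h4⟩ := S.raz_inj (mul_left_cancel (mul_left_cancel e2))
  subst h3; subst h4
  unfold W at h
  obtain ⟨h5, h6, h7⟩ := S.raz_inj (mul_left_cancel (mul_left_cancel h))
  exact ⟨rfl, rfl, h5, h6, h7⟩

omit S hc in
theorem comm_of {A B C t a' z' : X} (h1 : t * A = A * C) (h2 : t * B = B * C)
    (hC : C = t * a' * z') (ha : B⁻¹ * A * a' = a' * (B⁻¹ * A))
    (hz : B⁻¹ * A * z' = z' * (B⁻¹ * A)) : B⁻¹ * A * t = t * (B⁻¹ * A) := by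
  have e4 : B⁻¹ * t = C * B⁻¹ := by
    rw [inv_mul_eq_iff_eq_mul, ← mul_assoc, ← h2]; group
  have e7 : C * (B⁻¹ * A) = B⁻¹ * A * C := by
    calc C * (B⁻¹ * A) = (C * B⁻¹) * A := by group
      _ = B⁻¹ * (t * A) := by rw [← e4]; group
      _ = B⁻¹ * A * C := by rw [h1]; group
  have h3 : t = C * z'⁻¹ * a'⁻¹ := by rw [hC]; group
  have h4 : ∀ g t : X, g * t = t * g → g * t⁻¹ = t⁻¹ * g := by
    intro g t hg
    rw [mul_inv_eq_iff_eq_mul, mul_assoc, hg]; group
  rw [h3]
  calc B⁻¹ * A * (C * z'⁻¹ * a'⁻¹) = (B⁻¹ * A * C) * z'⁻¹ * a'⁻¹ := by group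
    _ = C * (B⁻¹ * A * z'⁻¹) * a'⁻¹ := by rw [← e7]; group
    _ = C * z'⁻¹ * (B⁻¹ * A * a'⁻¹) := by rw [h4 _ _ hz]; group
    _ = _ := by rw [h4 _ _ ha]; group

omit hc in
/-- `(y m)^(s b) = y m n(mb) r ρ a e₁ z e₂` -/
theorem exists_ys (m b : F4) : ∃ ρ e1 e2 : F4, (s b)⁻¹ * S.y m * s b = S.W m (m * b) ρ e1 e2 := by
  set A := (s b)⁻¹ * S.y m * s b with hA
  set B := S.y m * n (m * b) with hB
  have Az : ∀ u, A * z u = z u * A := by
    intro u
    have h1 := S.sz b u
    have h2 := S.yz m u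
    have h3 : (s b)⁻¹ * z u = z u * (s b)⁻¹ := by
      rw [inv_mul_eq_iff_eq_mul, ← mul_assoc, h1]; group
    rw [hA]
    calc (s b)⁻¹ * S.y m * s b * z u = (s b)⁻¹ * S.y m * (s b * z u) := by group
      _ = (s b)⁻¹ * (S.y m * z u) * s b := by rw [h1]; group
      _ = ((s b)⁻¹ * z u) * S.y m * s b := by rw [h2]; group
      _ = _ := by rw [h3]; group
  have Aa : ∀ u, A * a u = a u * A := by
    intro u
    have h1 : s b * a u = a u * z (u * b) * s b := by
      have h := S.as u b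
      have h' := S.sz b (u * b)
      have h'' := S.az u (u * b)
      have h3 : a u * s b * z (u * b) = s b * a u := by
        rw [h, mul_assoc, f_sq S.zA, mul_one]
      rw [← h3]
      calc a u * s b * z (u * b) = a u * (s b * z (u * b)) := by group
        _ = _ := by rw [h']; group
    have h2 := S.ya m u
    have h3 := S.yz m (u * b)
    rw [hA]
    calc (s b)⁻¹ * S.y m * s b * a u = (s b)⁻¹ * S.y m * (s b * a u) := by group
      _ = (s b)⁻¹ * (S.y m * a u) * z (u * b) * s b := by rw [h1]; group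
      _ = (s b)⁻¹ * a u * (S.y m * z (u * b)) * s b := by rw [h2]; group
      _ = (s b)⁻¹ * (a u * z (u * b) * s b) * (s b)⁻¹ * S.y m * s b := by rw [h3]; group
      _ = _ := by rw [← h1]; group
  have Bz : ∀ u, B * z u = z u * B := by
    intro u
    have h1 := S.nz (m * b) u
    have h2 := S.yz m u
    rw [hB]
    calc S.y m * n (m * b) * z u = S.y m * (n (m * b) * z u) := by group
      _ = (S.y m * z u) * n (m * b) := by rw [h1]; group
      _ = _ := by rw [h2]; group
  have Ba : ∀ u, B * a u = a u * B := by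
    intro u
    have h1 := S.na (m * b) u
    have h2 := S.ya m u
    rw [hB]
    calc S.y m * n (m * b) * a u = S.y m * (n (m * b) * a u) := by group
      _ = (S.y m * a u) * n (m * b) := by rw [h1]; group
      _ = _ := by rw [h2]; group
  have BA : ∀ t : X, A * t = t * A → B * t = t * B → B⁻¹ * A * t = t * (B⁻¹ * A) := by
    intro t h1 h2
    have h3 : B⁻¹ * t = t * B⁻¹ := by
      rw [inv_mul_eq_iff_eq_mul, ← mul_assoc, h2]; group
    calc B⁻¹ * A * t = B⁻¹ * (A * t) := by group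
      _ = (B⁻¹ * t) * A := by rw [h1]; group
      _ = _ := by rw [h3]; group
  have rA' : ∀ j, r j * A = A * (r j * a (j * m) * z (j * m * b)) := by
    intro j
    have h1 := S.rs j b
    have h2 : r j * (s b)⁻¹ = (s b)⁻¹ * r j := by
      rw [mul_inv_eq_iff_eq_mul, mul_assoc, h1]; group
    have h3 := S.ry j m
    have h4 := S.as (j * m) b
    rw [hA]
    calc r j * ((s b)⁻¹ * S.y m * s b) = (r j * (s b)⁻¹) * S.y m * s b := by group
      _ = (s b)⁻¹ * (r j * S.y m) * s b := by rw [h2]; group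
      _ = (s b)⁻¹ * S.y m * r j * (a (j * m) * s b) := by rw [h3]; group
      _ = (s b)⁻¹ * S.y m * (r j * s b) * a (j * m) * z (j * m * b) := by rw [h4]; group
      _ = _ := by rw [h1]; group
  have rB' : ∀ j, r j * B = B * (r j * a (j * m) * z (j * m * b)) := by
    intro j
    have h3 := S.ry j m
    have h4 := S.na (m * b) (j * m)
    have h5 := S.rn j (m * b)
    have h6 := S.az (j * m) (j * (m * b))
    rw [hB]
    calc r j * (S.y m * n (m * b)) = (r j * S.y m) * n (m * b) := by group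
      _ = S.y m * r j * (a (j * m) * n (m * b)) := by rw [h3]; group
      _ = S.y m * (r j * n (m * b)) * a (j * m) := by rw [← h4]; group
      _ = S.y m * n (m * b) * r j * (z (j * (m * b)) * a (j * m)) := by rw [h5]; group
      _ = _ := by rw [← h6, mul_assoc j m b]; group
  obtain ⟨ρ, e1, e2, h⟩ := S.CF (B⁻¹ * A)
    (fun j => comm_of (rA' j) (rB' j) rfl (BA _ (Aa _) (Ba _)) (BA _ (Az _) (Bz _)))
    (fun u => BA _ (Aa u) (Ba u)) (fun u => BA _ (Az u) (Bz u))
  refine ⟨ρ, e1, e2, ?_⟩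
  unfold W
  have h1 : A = B * (r ρ * a e1 * z e2) := by rw [← h]; group
  rw [h1, hB]
  simp only [mul_assoc]

omit hc in
theorem W_y (m : F4) : S.W m 0 0 0 0 = S.y m := by
  unfold W
  rw [S.n0, f_zero S.rA, f_zero S.aA, f_zero S.zA]; simp

omit hc in
theorem W_n (l : F4) : S.W 0 l 0 0 0 = n l := by
  unfold W
  rw [S.y0, f_zero S.rA, f_zero S.aA, f_zero S.zA]; simp

omit hc in
theorem W_r (l : F4) : S.W 0 0 l 0 0 = r l := by
  unfold W
  rw [S.y0, S.n0, f_zero S.aA, f_zero S.zA]; simp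

omit hc in
theorem W_az (u v : F4) : S.W 0 0 0 u v = a u * z v := by
  unfold W
  rw [S.y0, S.n0, f_zero S.rA]; simp

omit hc in
theorem W_one : S.W 0 0 0 0 0 = 1 := by
  rw [S.W_y, S.y0]

/-- **`κ = 0`, and the action of `s b` on `y m`**, one more parameter `d`. -/
theorem exists_d : κ = 0 ∧ ∃ d : F4, ∀ m b, (s b)⁻¹ * S.y m * s b =
    S.W m (m * b) (c * b * (m * m)) (c * b * (m * m * m)) (d * m * b) := by
  choose ρ e1 e2 he using S.exists_ys
  -- squares
  have hρ : ∀ m b, ρ m b = c * b * (m * m) := by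
    intro m b
    have h1 : S.W m (m * b) (ρ m b) (e1 m b) (e2 m b) * S.W m (m * b) (ρ m b) (e1 m b) (e2 m b) =
        S.W 0 0 0 (κ * m) (κ * m * b) := by
      rw [← he, S.W_az]
      have h2 := S.as (κ * m) b
      calc (s b)⁻¹ * S.y m * s b * ((s b)⁻¹ * S.y m * s b) = (s b)⁻¹ * (S.y m * S.y m) * s b := by
            group
        _ = (s b)⁻¹ * (a (κ * m) * s b) := by rw [S.ysq]; group
        _ = _ := by rw [h2]; group
    rw [S.W_mul hc] at h1
    obtain ⟨_, _, _, h2, _⟩ := S.W_inj hc h1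
    rw [add_self, zero_add, k4] at h2
    by_cases hm : m = 0
    · subst hm
      have h3 := he 0 b
      rw [S.y0] at h3
      have h4 : S.W 0 0 0 0 0 = S.W 0 (0 * b) (ρ 0 b) (e1 0 b) (e2 0 b) := by
        rw [← h3, S.W_one]; group
      obtain ⟨_, _, h5, _⟩ := S.W_inj hc h4
      rw [← h5]; ring
    · have h3 := add_eq_right.1 h2
      have key : ∀ c m b ρ : F4, m ≠ 0 → c * (m * b) * (m * m) + ρ * m = 0 →
          ρ = c * b * (m * m) := by decide
      exact key _ _ _ _ hm h3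
  -- conjugation by `s b`
  have conjs : ∀ b m l k u v, (s b)⁻¹ * S.W m l k u v * s b =
      S.W m (m * b) (ρ m b) (e1 m b) (e2 m b) * S.W 0 l k u (u * b + v) := by
    intro b m l k u v
    have h1 : (s b)⁻¹ * n l * s b = n l := by
      rw [mul_assoc, S.ns]; group
    have h2 : (s b)⁻¹ * r k * s b = r k := by
      rw [mul_assoc, S.rs]; group
    have h3 : (s b)⁻¹ * a u * s b = a u * z (u * b) := by
      rw [mul_assoc, S.as]; group
    have h4 : (s b)⁻¹ * z v * s b = z v := by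
      rw [mul_assoc, ← S.sz]; group
    have h5 : S.W 0 l k u (u * b + v) = n l * (r k * (a u * z (u * b) * z v)) := by
      unfold W
      rw [S.y0, S.zA, one_mul]; group
    rw [← he, h5]
    calc (s b)⁻¹ * (S.y m * (n l * (r k * (a u * z v)))) * s b
        = ((s b)⁻¹ * S.y m * s b) * (((s b)⁻¹ * n l * s b) * (((s b)⁻¹ * r k * s b) *
          (((s b)⁻¹ * a u * s b) * ((s b)⁻¹ * z v * s b)))) := by group
      _ = _ := by rw [h1, h2, h3, h4]
  -- additivity in `b`
  have addb : ∀ m b b', e1 m (b + b') = e1 m b' + e1 m b ∧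
      e2 m (b + b') = e2 m b' + (e1 m b * b' + e2 m b) + ρ m b' * (m * b) +
        κ * (m * b' * (m * b')) * (m * b * (m * b)) := by
    intro m b b'
    have h1 : S.W m (m * (b + b')) (ρ m (b + b')) (e1 m (b + b')) (e2 m (b + b')) =
        S.W m (m * b') (ρ m b') (e1 m b') (e2 m b') *
          S.W 0 (m * b) (ρ m b) (e1 m b) (e1 m b * b' + e2 m b) := by
      rw [← conjs, ← he, ← he, S.sA]; group
    rw [S.W_mul hc] at h1
    obtain ⟨_, _, _, h2, h3⟩ := S.W_inj hc h1
    refine ⟨by rw [h2]; ring, by rw [h3]; ring⟩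
  have hz0 : ∀ m, e1 m 0 = 0 ∧ e2 m 0 = 0 := by
    intro m
    have h1 := he m 0
    rw [f_zero S.sA, inv_one, one_mul, mul_one, ← S.W_y] at h1
    obtain ⟨_, _, _, h2, h3⟩ := S.W_inj hc h1
    exact ⟨h2.symm, h3.symm⟩
  have he1 : ∀ m b, b ≠ 0 → e1 m b = c * b * (m * m * m) + κ * m := by
    intro m b hb
    have h1 := (addb m b b).2
    rw [add_self, (hz0 m).2, hρ] at h1
    have key : ∀ x y c b m κ : F4, b ≠ 0 →
        0 = y + (x * b + y) + c * b * (m * m) * (m * b) + κ * (m * b * (m * b)) * (m * b * (m * b)) →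
        x = c * b * (m * m * m) + κ * m := by
      intro x y c b m κ hb h
      have h2 : ∀ y t : F4, y + (t + y) = t := by decide
      rw [h2, k4] at h
      have h3 : b * (x + (c * b * (m * m * m) + κ * m)) = 0 := by
        rw [h]; ring
      rcases mul_eq_zero.1 h3 with h4 | h4
      · exact absurd h4 hb
      · have : ∀ p q : F4, p + q = 0 → p = q := by decide
        exact this _ _ h4
    exact key _ _ _ _ _ _ hb h1
  have hκ : κ = 0 := by
    have h1 := (addb 1 1 F4.w).1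
    rw [he1 1 1 (by decide), he1 1 F4.w (by decide), he1 1 (1 + F4.w) (by decide)] at h1
    have key : ∀ c κ : F4, c * (1 + F4.w) * (1 * 1 * 1) + κ * 1 =
        c * F4.w * (1 * 1 * 1) + κ * 1 + (c * 1 * (1 * 1 * 1) + κ * 1) → κ = 0 := by decide
    exact key _ _ h1
  have he1' : ∀ m b, e1 m b = c * b * (m * m * m) := by
    intro m b
    by_cases hb : b = 0
    · subst hb
      rw [(hz0 m).1]; ring
    · rw [he1 m b hb, hκ]; ring
  refine ⟨hκ, ?_⟩
  -- additivity in `m`
  have addm : ∀ m m' b,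
      e2 (m + m') b = e2 m b + e2 m' b + (c * ((m * b) * (m * b)) * m' + ρ m b * (m' * b)) := by
    intro m m' b
    have hy : S.y (m + m') = S.y m * S.y m' := by
      have h0 : κ * (m * m) * (m' * m') = 0 := by rw [hκ]; ring
      rw [S.yK, h0, f_zero S.aA, mul_one]
    have h1 : S.W (m + m') ((m + m') * b) (ρ (m + m') b) (e1 (m + m') b) (e2 (m + m') b) =
        S.W m (m * b) (ρ m b) (e1 m b) (e2 m b) *
          S.W m' (m' * b) (ρ m' b) (e1 m' b) (e2 m' b) := by
      rw [← he, ← he, ← he, hy]; group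
    rw [S.W_mul hc] at h1
    obtain ⟨_, _, _, _, h3⟩ := S.W_inj hc h1
    rw [h3, hκ]; ring
  -- weights
  have wt : ∀ m b, e2 (F4.w * m) (F4.w * b) = F4.v * e2 m b := by
    intro m b
    have h1 : H (S.W m (m * b) (ρ m b) (e1 m b) (e2 m b)) =
        S.W (F4.w * m) (F4.w * m * (F4.w * b)) (ρ (F4.w * m) (F4.w * b))
          (e1 (F4.w * m) (F4.w * b)) (e2 (F4.w * m) (F4.w * b)) := by
      rw [← he, ← he, map_mul, map_mul, map_inv, S.Hs, S.Hy]
    have h2 : H (S.W m (m * b) (ρ m b) (e1 m b) (e2 m b)) =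
        S.W (F4.w * m) (F4.v * (m * b)) (ρ m b) (F4.w * e1 m b) (F4.v * e2 m b) := by
      unfold W
      simp only [map_mul, S.Hy, S.Hn, S.Hr, S.Ha, S.Hz]
    rw [h2] at h1
    obtain ⟨_, _, _, _, h4⟩ := S.W_inj hc h1
    exact h4.symm
  have he2 := bil2 e2
    (by
      intro m m' b
      rw [addm m m' b, hρ]
      have key : ∀ x y : F4, x + (y + y) = x := by decide
      have h3 : c * ((m * b) * (m * b)) * m' = c * b * (m * m) * (m' * b) := by ring
      rw [h3, key])
    (by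
      intro m b b'
      rw [(addb m b b').2, hρ, he1', hκ]
      have key : ∀ x y z : F4, x + (z + y) + z = y + x := by decide
      rw [← key (e2 m b') (e2 m b) (c * b' * (m * m) * (m * b))]; ring)
    wt
  refine ⟨e2 1 1, ?_⟩
  intro m b
  rw [he, hρ, he1', he2 m b]

/-- **`d = 0`.** -/
theorem d_zero {d : F4} (hκ : κ = 0) (hd : ∀ m b, (s b)⁻¹ * S.y m * s b =
    S.W m (m * b) (c * b * (m * m)) (c * b * (m * m * m)) (d * m * b)) : d = 0 := by
  have hd1 := hd 1 1
  set C := c * 1 * (1 * 1) with hC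
  have hC1 : c * 1 * (1 * 1 * 1) = c := by ring
  have hC2 : C = c := by rw [hC]; ring
  have hD : d * 1 * 1 = d := by ring
  rw [hC1, hC2, hD, mul_one] at hd1
  have hw := S.ww
  have hw' : w⁻¹ * w⁻¹ = 1 := by rw [← mul_inv_rev, hw, inv_one]
  have ey : w⁻¹ * S.y 1 * w = n 1 := by
    unfold y
    calc w⁻¹ * (w⁻¹ * n 1 * w) * w = (w⁻¹ * w⁻¹) * n 1 * (w * w) := by group
      _ = n 1 := by rw [hw, hw']; group
  have er : w⁻¹ * r c * w = r c := by
    rw [mul_assoc, ← S.wr]; group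
  have e1 : (s' 1)⁻¹ * n 1 * s' 1 = n 1 * (S.y 1 * (r c * (z c * a d))) := by
    have h1 : w⁻¹ * ((s 1)⁻¹ * S.y 1 * s 1) * w = (s' 1)⁻¹ * n 1 * s' 1 := by
      rw [← S.ws, ← ey]; group
    rw [← h1, hd1]
    unfold W
    calc w⁻¹ * (S.y 1 * (n 1 * (r c * (a c * z d)))) * w
        = (w⁻¹ * S.y 1 * w) * ((w⁻¹ * n 1 * w) * ((w⁻¹ * r c * w) * ((w⁻¹ * a c * w) *
          (w⁻¹ * z d * w)))) := by group
      _ = _ := by rw [ey, er, S.wa, S.wz]; rfl
  have e2 : (s' 1)⁻¹ * S.y 1 * s' 1 = S.y 1 := by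
    rw [mul_assoc, S.ys']; group
  have e3 : (s' 1)⁻¹ * r c * s' 1 = r c := by
    rw [mul_assoc, S.rs']; group
  have e4 : (s' 1)⁻¹ * a c * s' 1 = a c := by
    rw [mul_assoc, S.as']; group
  have e5 : (s' 1)⁻¹ * z d * s' 1 = z d * a d := by
    rw [mul_assoc, S.zs', mul_one]; group
  have e6 : (s' 1)⁻¹ * ((s 1)⁻¹ * S.y 1 * s 1) * s' 1 =
      S.y 1 * ((n 1 * (S.y 1 * (r c * (z c * a d)))) * (r c * (a c * (z d * a d)))) := by
    rw [hd1]
    unfold W
    calc (s' 1)⁻¹ * (S.y 1 * (n 1 * (r c * (a c * z d)))) * s' 1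
        = ((s' 1)⁻¹ * S.y 1 * s' 1) * (((s' 1)⁻¹ * n 1 * s' 1) * (((s' 1)⁻¹ * r c * s' 1) *
          (((s' 1)⁻¹ * a c * s' 1) * ((s' 1)⁻¹ * z d * s' 1)))) := by group
      _ = _ := by rw [e1, e2, e3, e4, e5]
  have e7 : (s' 1)⁻¹ * ((s 1)⁻¹ * S.y 1 * s 1) * s' 1 = n 1 := by
    have h1 : (s 1)⁻¹ * ((s' 1)⁻¹ * ((s 1)⁻¹ * S.y 1 * s 1) * s' 1) * s 1 = n 1 := by
      have h3 : (s 1)⁻¹ * ((s' 1)⁻¹ * ((s 1)⁻¹ * S.y 1 * s 1) * s' 1) * s 1 =
          (s 1 * s' 1 * s 1)⁻¹ * S.y 1 * (s 1 * s' 1 * s 1) := by group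
      rw [h3, ← ey]
      have h4 : ∀ t : X, (s 1 * s' 1 * s 1)⁻¹ * t * (s 1 * s' 1 * s 1) = w⁻¹ * t * w := fun t =>
        congrArg (fun g => g⁻¹ * t * g) S.wdef.symm
      exact h4 _
    have h2 := S.ns 1 1
    calc (s' 1)⁻¹ * ((s 1)⁻¹ * S.y 1 * s 1) * s' 1
        = s 1 * ((s 1)⁻¹ * ((s' 1)⁻¹ * ((s 1)⁻¹ * S.y 1 * s 1) * s' 1) * s 1) * (s 1)⁻¹ := by group
      _ = n 1 := by rw [h1, ← h2]; group
  rw [e6] at e7
  have e8 : S.W 1 0 0 0 0 * (S.W 0 1 0 0 0 * S.W 1 0 0 0 0 * (S.W 0 0 c d c) *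
      S.W 0 0 c (c + d) d) = S.W 0 1 0 0 0 := by
    have h1 : S.W 0 0 c d c = r c * (z c * a d) := by
      unfold W
      rw [S.y0, S.n0, one_mul, one_mul, S.az]
    have h2 : S.W 0 0 c (c + d) d = r c * (a c * (z d * a d)) := by
      unfold W
      rw [S.y0, S.n0, one_mul, one_mul, S.aA, mul_assoc, S.az]
    rw [h1, h2, S.W_y, S.W_n]
    refine Eq.trans ?_ e7
    group
  rw [S.W_mul hc, S.W_mul hc, S.W_mul hc, S.W_mul hc] at e8
  obtain ⟨_, _, _, h1, h2⟩ := S.W_inj hc e8
  subst hκ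
  simp only [mul_zero, zero_mul, add_zero, zero_add, mul_one, one_mul] at h1 h2
  rw [add_self, zero_add] at h2
  exact h2

omit hc in
/-- **One side, final form.** -/
theorem main : κ = 0 ∧ ∃ c : F4,
    (∀ l m, n l * S.y m = S.y m * n l * a (c * l * (m * m)) * z (c * (l * l) * m)) ∧
    ∀ m b, (s b)⁻¹ * S.y m * s b =
      S.y m * n (m * b) * r (c * b * (m * m)) * a (c * b * (m * m * m)) := by
  obtain ⟨c, hc⟩ := S.exists_c
  obtain ⟨hκ, d, hd⟩ := S.exists_d hc
  have hd0 := S.d_zero hc hκ hd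
  refine ⟨hκ, c, ?_, ?_⟩
  · intro l m
    rw [S.ny hc]; group
  · intro m b
    rw [hd, hd0]
    unfold W
    rw [zero_mul, zero_mul, f_zero S.zA]; group

end Side

end Cfsg.Agent.StdL3.FourW
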