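import Mathlib

/-!
# The Heisenberg group over a commutative ring of characteristic 2

`Heis B` = triples `(a,b,c)` with `(a,b,c)(a',b',c') = (a+a', b+b', c+c'+ab')`.
Blueprint `S1748-outer.md`, section 3 (a), (b), (d).
-/

set_option autoImplicit false
set_option linter.dupNamespace false

namespace Cfsg.Agent.StdL3.Heis

/-- The Heisenberg group over `B` (underlying set). -/
@[ext]
structure Heis (B : Type*) where
  /-- first coordinate -/
  a : B
  /-- second coordinate -/
  b : B
  /-- central coordinate -/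
  c : B

section Group

variable {B : Type*} [CommRing B]

instance instMul : Mul (Heis B) := ⟨fun u v => ⟨u.a + v.a, u.b + v.b, u.c + v.c + u.a * v.b⟩⟩
instance instOne : One (Heis B) := ⟨⟨0, 0, 0⟩⟩
instance instInv : Inv (Heis B) := ⟨fun u => ⟨-u.a, -u.b, -u.c + u.a * u.b⟩⟩

@[simp] theorem mul_a (u v : Heis B) : (u * v).a = u.a + v.a := rfl
@[simp] theorem mul_b (u v : Heis B) : (u * v).b = u.b + v.b := rfl
@[simp] theorem mul_c (u v : Heis B) : (u * v).c = u.c + v.c + u.a * v.b := rfl
@[simp] theorem one_a : (1 : Heis B).a = 0 := rfl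
@[simp] theorem one_b : (1 : Heis B).b = 0 := rfl
@[simp] theorem one_c : (1 : Heis B).c = 0 := rfl
@[simp] theorem inv_a (u : Heis B) : (u⁻¹).a = -u.a := rfl
@[simp] theorem inv_b (u : Heis B) : (u⁻¹).b = -u.b := rfl
@[simp] theorem inv_c (u : Heis B) : (u⁻¹).c = -u.c + u.a * u.b := rfl

instance instGroup : Group (Heis B) :=
  Group.ofLeftAxioms
    (by intro x y z; ext <;> simp <;> ring)
    (by intro x; ext <;> simp)
    (by intro x; ext <;> simp)

theorem comm_a (u v : Heis B) : (u * v * u⁻¹ * v⁻¹).a = 0 := by simp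
theorem comm_b (u v : Heis B) : (u * v * u⁻¹ * v⁻¹).b = 0 := by simp
theorem comm_c (u v : Heis B) : (u * v * u⁻¹ * v⁻¹).c = u.a * v.b - v.a * u.b := by
  simp; ring

/-- The commutator formula. -/
theorem comm_eq (u v : Heis B) : u * v * u⁻¹ * v⁻¹ = ⟨0, 0, u.a * v.b - v.a * u.b⟩ := by
  ext
  · exact comm_a u v
  · exact comm_b u v
  · exact comm_c u v

theorem commute_iff (u v : Heis B) : u * v = v * u ↔ u.a * v.b = v.a * u.b := by
  constructor
  · intro h
    have := congrArg Heis.c h
    simp only [mul_c] at this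
    linear_combination this
  · intro h
    ext
    · simp [add_comm]
    · simp [add_comm]
    · simp only [mul_c]; linear_combination h

/-- the central element with third coordinate `c` -/
def z (c : B) : Heis B := ⟨0, 0, c⟩

@[simp] theorem z_a (c : B) : (z c).a = 0 := rfl
@[simp] theorem z_b (c : B) : (z c).b = 0 := rfl
@[simp] theorem z_c (c : B) : (z c).c = c := rfl

theorem z_mul (c c' : B) : z c * z c' = z (c + c') := by ext <;> simp
theorem z_zero : z (0 : B) = 1 := rfl
theorem z_inj {c c' : B} (h : z c = z c') : c = c' := congrArg Heis.c h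
theorem z_comm (c : B) (u : Heis B) : z c * u = u * z c := by
  rw [commute_iff]; simp

theorem z_inv (c : B) : (z c)⁻¹ = z (-c) := by ext <;> simp

/-- The subgroup `J = {(0,0,c)}`. -/
def J (B : Type*) [CommRing B] : Subgroup (Heis B) where
  carrier := {u | u.a = 0 ∧ u.b = 0}
  mul_mem' := by
    rintro u v ⟨h1, h2⟩ ⟨h3, h4⟩
    exact ⟨by simp [h1, h3], by simp [h2, h4]⟩
  one_mem' := ⟨rfl, rfl⟩
  inv_mem' := by
    rintro u ⟨h1, h2⟩
    exact ⟨by simp [h1], by simp [h2]⟩

theorem mem_J {u : Heis B} : u ∈ J B ↔ u.a = 0 ∧ u.b = 0 := Iff.rfl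

theorem z_mem_J (c : B) : z c ∈ J B := ⟨rfl, rfl⟩

theorem mem_J_iff_exists {u : Heis B} : u ∈ J B ↔ ∃ c, u = z c := by
  constructor
  · rintro ⟨h1, h2⟩
    exact ⟨u.c, by ext <;> simp [h1, h2]⟩
  · rintro ⟨c, rfl⟩
    exact z_mem_J c

theorem J_eq_center : J B = Subgroup.center (Heis B) := by
  ext u
  rw [Subgroup.mem_center_iff]
  constructor
  · rintro ⟨h1, h2⟩ g
    rw [commute_iff]; simp [h1, h2]
  · intro h
    have h1 := (commute_iff _ _).1 (h ⟨1, 0, 0⟩)
    have h2 := (commute_iff _ _).1 (h ⟨0, 1, 0⟩)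
    simp only [one_mul, mul_zero, zero_mul, mul_one] at h1 h2
    exact ⟨h2.symm, h1⟩

theorem map_J (α : MulAut (Heis B)) {u : Heis B} (hu : u ∈ J B) : α u ∈ J B := by
  rw [J_eq_center] at hu ⊢
  rw [Subgroup.mem_center_iff] at hu ⊢
  intro g
  have := congrArg α (hu (α.symm g))
  simpa using this

/-- The action of an automorphism on `J`, as a map of `B`. -/
def gam (α : MulAut (Heis B)) (c : B) : B := (α (z c)).c

theorem map_z (α : MulAut (Heis B)) (c : B) : α (z c) = z (gam α c) := by
  obtain ⟨h1, h2⟩ := map_J α (z_mem_J c)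
  ext
  · exact h1
  · exact h2
  · rfl

theorem gam_add (α : MulAut (Heis B)) (c c' : B) : gam α (c + c') = gam α c + gam α c' := by
  apply z_inj
  rw [← map_z, ← z_mul, map_mul, map_z, map_z, z_mul]

theorem gam_mul_apply (α β : MulAut (Heis B)) (c : B) : gam (α * β) c = gam α (gam β c) := by
  apply z_inj
  rw [← map_z, MulAut.mul_apply, map_z, map_z]

theorem gam_one (c : B) : gam (1 : MulAut (Heis B)) c = c := rfl

theorem gam_inv (α : MulAut (Heis B)) (c : B) : gam α⁻¹ (gam α c) = c := by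
  rw [← gam_mul_apply, inv_mul_cancel, gam_one]

theorem gam_inv' (α : MulAut (Heis B)) (c : B) : gam α (gam α⁻¹ c) = c := by
  rw [← gam_mul_apply, mul_inv_cancel, gam_one]

theorem gam_bijective (α : MulAut (Heis B)) : Function.Bijective (gam α) :=
  Function.bijective_iff_has_inverse.2 ⟨gam α⁻¹, gam_inv α, gam_inv' α⟩

theorem gam_zero (α : MulAut (Heis B)) : gam α 0 = 0 := by
  have := gam_add α 0 0
  simpa using this

theorem gam_neg (α : MulAut (Heis B)) (c : B) : gam α (-c) = - gam α c := by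
  have := gam_add α c (-c)
  rw [add_neg_cancel, gam_zero] at this
  linear_combination -this

theorem gam_sub (α : MulAut (Heis B)) (c c' : B) : gam α (c - c') = gam α c - gam α c' := by
  rw [sub_eq_add_neg, gam_add, gam_neg, ← sub_eq_add_neg]

/-- Commutators under `α`. -/
theorem gam_comm (α : MulAut (Heis B)) (u v : Heis B) :
    gam α (u.a * v.b - v.a * u.b) = (α u).a * (α v).b - (α v).a * (α u).b := by
  apply z_inj
  rw [← map_z]
  have h1 : z (u.a * v.b - v.a * u.b) = u * v * u⁻¹ * v⁻¹ := (comm_eq u v).symm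
  have h2 : z ((α u).a * (α v).b - (α v).a * (α u).b) = α u * α v * (α u)⁻¹ * (α v)⁻¹ :=
    (comm_eq _ _).symm
  rw [h1, h2]
  simp

/-- **3a**, commuting form: if `(a,b)` is unimodular then everything commuting with `u` is a
multiple of `u` modulo `J`. -/
theorem eq_smul_of_commute {u v : Heis B} {r s : B} (h1 : r * u.a + s * u.b = 1)
    (h : u * v = v * u) :
    v.a = (r * v.a + s * v.b) * u.a ∧ v.b = (r * v.a + s * v.b) * u.b := by
  rw [commute_iff] at h
  constructor
  · linear_combination (-v.a) * h1 - s * h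
  · linear_combination (-v.b) * h1 + r * h

/-- unimodularity of `α(1,0,0)` -/
theorem exists_unimodular (α : MulAut (Heis B)) (u : Heis B)
    (hu : ∃ r s : B, r * u.a + s * u.b = 1) :
    ∃ r s : B, r * (α u).a + s * (α u).b = 1 := by
  obtain ⟨r, s, hrs⟩ := hu
  -- every element of B is a commutator [u,v], so the same for `α u`
  have h1 : ∀ x : B, ∃ v : Heis B, u.a * v.b - v.a * u.b = x := by
    intro x
    refine ⟨⟨-(x * s), x * r, 0⟩, ?_⟩
    linear_combination x * hrs
  obtain ⟨v, hv⟩ := h1 (gam α⁻¹ 1)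
  have h2 := gam_comm α u v
  rw [hv, gam_inv'] at h2
  exact ⟨(α v).b, -(α v).a, by linear_combination -h2⟩

/-- The ring automorphism attached to `α`, as a function. -/
theorem exists_sig (α : MulAut (Heis B)) :
    ∃ σ : B → B, ∀ c x : B, gam α (c * x) = σ c * gam α x := by
  obtain ⟨r, s, hrs⟩ := exists_unimodular α ⟨1, 0, 0⟩ ⟨1, 0, by simp⟩
  have h : ∀ c : B, ∃ l : B, (α ⟨c, 0, 0⟩).a = l * (α ⟨1, 0, 0⟩).a ∧
      (α ⟨c, 0, 0⟩).b = l * (α ⟨1, 0, 0⟩).b := by
    intro c
    have hc : (⟨1, 0, 0⟩ : Heis B) * ⟨c, 0, 0⟩ = ⟨c, 0, 0⟩ * ⟨1, 0, 0⟩ := by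
      rw [commute_iff]; simp
    have hc' := congrArg α hc
    rw [map_mul, map_mul] at hc'
    exact ⟨_, eq_smul_of_commute hrs hc'⟩
  choose σ hσ1 hσ2 using h
  refine ⟨σ, ?_⟩
  intro c x
  have e1 := gam_comm α ⟨c, 0, 0⟩ ⟨0, x, 0⟩
  have e2 := gam_comm α ⟨1, 0, 0⟩ ⟨0, x, 0⟩
  simp only [zero_mul, sub_zero, one_mul] at e1 e2
  rw [e1, hσ1, hσ2, e2]
  ring

/-- The function underlying `sig`. -/
noncomputable def sigFun (α : MulAut (Heis B)) : B → B := (exists_sig α).choose

theorem gam_smul (α : MulAut (Heis B)) (c x : B) : gam α (c * x) = sigFun α c * gam α x :=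
  (exists_sig α).choose_spec c x

theorem sig_unique (α : MulAut (Heis B)) {c l : B} (h : ∀ x, gam α (c * x) = l * gam α x) :
    sigFun α c = l := by
  obtain ⟨y, hy⟩ := (gam_bijective α).2 1
  have h1 := h y
  rw [gam_smul, hy, mul_one, mul_one] at h1
  exact h1

theorem sigFun_mul_apply (α β : MulAut (Heis B)) (c : B) :
    sigFun (α * β) c = sigFun α (sigFun β c) := by
  apply sig_unique
  intro x
  rw [gam_mul_apply, gam_smul, gam_smul, gam_mul_apply]

theorem sigFun_one (c : B) : sigFun (1 : MulAut (Heis B)) c = c := by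
  apply sig_unique
  intro x
  rfl

/-- **3b** `Aut(Heis B) → RingAut(B)`, one element. -/
noncomputable def sigEquiv (α : MulAut (Heis B)) : B ≃+* B where
  toFun := sigFun α
  invFun := sigFun α⁻¹
  left_inv c := by rw [← sigFun_mul_apply, inv_mul_cancel, sigFun_one]
  right_inv c := by rw [← sigFun_mul_apply, mul_inv_cancel, sigFun_one]
  map_mul' c c' := by
    apply sig_unique
    intro x
    rw [mul_assoc, gam_smul, gam_smul, mul_assoc]
  map_add' c c' := by
    apply sig_unique
    intro x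
    rw [add_mul, gam_add, gam_smul, gam_smul, add_mul]

/-- **3b** the homomorphism `Aut(Heis B) → RingAut(B)`. -/
noncomputable def sig : MulAut (Heis B) →* RingAut B where
  toFun := sigEquiv
  map_one' := by
    ext c
    exact sigFun_one c
  map_mul' α β := by
    ext c
    exact sigFun_mul_apply α β c

theorem gam_sig (α : MulAut (Heis B)) (c x : B) : gam α (c * x) = sig α c * gam α x :=
  gam_smul α c x

theorem sig_eq_of (α : MulAut (Heis B)) {c l : B} (h : ∀ x, gam α (c * x) = l * gam α x) :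
    sig α c = l := sig_unique α h

/-- The automorphism of `Heis B` induced by a ring automorphism. -/
def ofRing (σ : RingAut B) : MulAut (Heis B) where
  toFun u := ⟨σ u.a, σ u.b, σ u.c⟩
  invFun u := ⟨σ⁻¹ u.a, σ⁻¹ u.b, σ⁻¹ u.c⟩
  left_inv u := by
    ext
    · exact σ.symm_apply_apply _
    · exact σ.symm_apply_apply _
    · exact σ.symm_apply_apply _
  right_inv u := by
    ext
    · exact σ.apply_symm_apply _
    · exact σ.apply_symm_apply _
    · exact σ.apply_symm_apply _
  map_mul' u v := by ext <;> simp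

theorem ofRing_apply (σ : RingAut B) (u : Heis B) : ofRing σ u = ⟨σ u.a, σ u.b, σ u.c⟩ := rfl

theorem gam_ofRing (σ : RingAut B) (c : B) : gam (ofRing σ) c = σ c := rfl

theorem sig_ofRing (σ : RingAut B) : sig (ofRing σ) = σ := by
  ext c
  apply sig_eq_of
  intro x
  rw [gam_ofRing, gam_ofRing, map_mul]

/-- an automorphism whose restriction to `J` is semilinear `c ↦ σ c * m` has `sig = σ`. -/
theorem sig_eq_of_gam (α : MulAut (Heis B)) (σ : RingAut B) (m : B)
    (h : ∀ c, gam α c = σ c * m) : sig α = σ := by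
  ext c
  apply sig_eq_of
  intro x
  rw [h, h, map_mul, mul_assoc]

end Group

end Cfsg.Agent.StdL3.Heis
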