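import Cfsg.Agent.StdL3.HeisPack

/-!
# Coordinates: the grown group `U = Y₁ Y₂ Y₃` is `Heis (Q ν)`

Blueprint `S1748-outer.md`, section 2.
-/

set_option autoImplicit false
set_option linter.constructorNameAsVariable false
set_option linter.unusedSimpArgs false

namespace Cfsg.Agent.StdL3.HeisCoord

open Cfsg.Agent.StdL3.Heis Cfsg.Agent.StdL3.HeisTwo Cfsg.Agent.StdL3.HeisRing
open Cfsg.Agent.StdL3.HeisPack Cfsg.Agent.StdL3.Pack
open Cfsg.Agent.SporadicA.FieldFour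

variable {X : Type*} [Group X]

/-- The grown configuration (`T` = conjugation by `t`, `H` = conjugation by the torus element `h`). -/
structure Grown (T H : X →* X) (Y1 Y2 Y3 U : Subgroup X) (x1 x2 x3 : F4 → X) : Prop where
  card1 : Nat.card Y1 = 16
  card2 : Nat.card Y2 = 16
  card3 : Nat.card Y3 = 16
  cardU : Nat.card U = 2 ^ 12
  sq1 : ∀ y ∈ Y1, y * y = 1
  sq2 : ∀ y ∈ Y2, y * y = 1
  sq3 : ∀ y ∈ Y3, y * y = 1
  le1 : Y1 ≤ U
  le2 : Y2 ≤ U
  le3 : Y3 ≤ U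
  gen : ∀ u ∈ U, ∃ y1 ∈ Y1, ∃ y2 ∈ Y2, ∃ y3 ∈ Y3, u = y1 * y2 * y3
  c13 : ∀ y ∈ Y1, ∀ z ∈ Y3, y * z = z * y
  c23 : ∀ y ∈ Y2, ∀ z ∈ Y3, y * z = z * y
  c12 : ∀ y ∈ Y1, ∀ y' ∈ Y2, ∃ z ∈ Y3, y * y' = y' * y * z
  TH : ∀ y, T (H y) = H (T y)
  HHH : ∀ y, H (H (H y)) = y
  T3 : ∀ y ∈ Y3, T y ∈ Y3
  H1 : ∀ y ∈ Y1, H y ∈ Y1
  H2 : ∀ y ∈ Y2, H y ∈ Y2
  H3 : ∀ y ∈ Y3, H y ∈ Y3
  fix1 : ∀ y ∈ Y1, H y = y → y = 1
  fix2 : ∀ y ∈ Y2, H y = y → y = 1
  fix3 : ∀ y ∈ Y3, H y = y → y = 1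
  m1 : ∀ a, x1 a ∈ Y1
  m2 : ∀ a, x2 a ∈ Y2
  m3 : ∀ a, x3 a ∈ Y3
  a1 : ∀ a b, x1 (a + b) = x1 a * x1 b
  a2 : ∀ a b, x2 (a + b) = x2 a * x2 b
  a3 : ∀ a b, x3 (a + b) = x3 a * x3 b
  i1 : ∀ a, x1 a = 1 → a = 0
  i2 : ∀ a, x2 a = 1 → a = 0
  i3 : ∀ a, x3 a = 1 → a = 0
  h1 : ∀ a, H (x1 a) = x1 (F4.w * a)
  h2 : ∀ a, H (x2 a) = x2 (F4.w * a)
  h3 : ∀ a, H (x3 a) = x3 (F4.v * a)
  comm : ∀ a b, x1 a * x2 b = x2 b * x1 a * x3 (a * b)
  t1 : ∀ a, T (x1 a) = x1 a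
  t2 : ∀ a, T (x2 a) = x2 a
  t3 : ∀ a, T (x3 a) = x3 a
  lift1 : ∃ y ∈ Y1, T y = y * x1 1
  lift2 : ∃ y ∈ Y2, T y = y * x2 1
  tfix3 : ∀ y ∈ Y3, T y = y → ∃ a, y = x3 a

/-- commutator, `y y' = y' y z(y,y')` -/
def zz (y y' : X) : X := y⁻¹ * y'⁻¹ * y * y'

theorem zz_spec (y y' : X) : y * y' = y' * y * zz y y' := by unfold zz; group

theorem map_zz (f : X →* X) (y y' : X) : f (zz y y') = zz (f y) (f y') := by simp [zz]

theorem comm_of_sq {Y : Subgroup X} (h : ∀ y ∈ Y, y * y = 1) {x y : X} (hx : x ∈ Y) (hy : y ∈ Y) :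
    x * y = y * x := by
  have h1 := h _ (Y.mul_mem hx hy)
  have h2 : x⁻¹ = x := inv_eq_of_mul_eq_one_right (h _ hx)
  have h3 : y⁻¹ = y := inv_eq_of_mul_eq_one_right (h _ hy)
  calc x * y = (x * y)⁻¹ := (inv_eq_of_mul_eq_one_right h1).symm
    _ = y⁻¹ * x⁻¹ := by group
    _ = y * x := by rw [h2, h3]

/-- the additive map `𝔽₄ → X` with `1 ↦ g`, `ω ↦ H g`. -/
def lin (H : X →* X) (g : X) : F4 → X
  | .z => 1
  | .o => g
  | .w => H g
  | .v => g * H g

section Lin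

variable {H : X →* X} {Y : Subgroup X} {g : X}

theorem lin_mem (hH : ∀ y ∈ Y, H y ∈ Y) (hg : g ∈ Y) (a : F4) : lin H g a ∈ Y := by
  cases a
  · exact Y.one_mem
  · exact hg
  · exact hH _ hg
  · exact Y.mul_mem hg (hH _ hg)

theorem lin_add (hs : ∀ y ∈ Y, y * y = 1) (hH : ∀ y ∈ Y, H y ∈ Y) (hg : g ∈ Y) (a b : F4) :
    lin H g (a + b) = lin H g a * lin H g b := by
  have s1 : g * g = 1 := hs _ hg
  have s2 : H g * H g = 1 := hs _ (hH _ hg)
  have c : H g * g = g * H g := comm_of_sq hs (hH _ hg) hg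
  have s1' : ∀ y, g * (g * y) = y := fun y => by rw [← mul_assoc, s1, one_mul]
  have s2' : ∀ y, H g * (H g * y) = y := fun y => by rw [← mul_assoc, s2, one_mul]
  have c' : ∀ y, H g * (g * y) = g * (H g * y) := fun y => by rw [← mul_assoc, c, mul_assoc]
  change lin H g (F4.add a b) = _
  cases a <;> cases b <;>
    simp only [F4.add, lin, mul_assoc, mul_one, one_mul, s1, s2, c, s1', s2', c']

theorem lin_H (hs : ∀ y ∈ Y, y * y = 1) (hH : ∀ y ∈ Y, H y ∈ Y) (hHHH : ∀ y, H (H (H y)) = y)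
    (hfix : ∀ y ∈ Y, H y = y → y = 1) (hg : g ∈ Y) (a : F4) :
    H (lin H g a) = lin H g (F4.w * a) := by
  have s1 : g * g = 1 := hs _ hg
  have s2 : H g * H g = 1 := hs _ (hH _ hg)
  have c : H g * g = g * H g := comm_of_sq hs (hH _ hg) hg
  have c' : ∀ y, H g * (g * y) = g * (H g * y) := fun y => by rw [← mul_assoc, c, mul_assoc]
  have s1' : ∀ y, g * (g * y) = y := fun y => by rw [← mul_assoc, s1, one_mul]
  have hm : g * H g ∈ Y := Y.mul_mem hg (hH _ hg)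
  have hm2 : H (H g) ∈ Y := hH _ (hH _ hg)
  have hh : g * H g * H (H g) = 1 := by
    apply hfix _ (Y.mul_mem hm hm2)
    rw [map_mul, map_mul, hHHH]
    have e1 : H (H g) * g = g * H (H g) := comm_of_sq hs hm2 hg
    have e2 : H g * H (H g) = H (H g) * H g := comm_of_sq hs (hH _ hg) hm2
    calc H g * H (H g) * g = H g * (H (H g) * g) := by group
      _ = H g * g * H (H g) := by rw [e1]; group
      _ = g * H g * H (H g) := by rw [c]
  have hh' : H (H g) = g * H g := by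
    have : H (H g) = (g * H g)⁻¹ := eq_inv_of_mul_eq_one_right hh
    rw [this]
    exact inv_eq_of_mul_eq_one_right (hs _ hm)
  change _ = lin H g (F4.mul F4.w a)
  cases a
  · simp [lin, F4.mul]
  · simp [lin, F4.mul]
  · simp only [lin, F4.mul, hh']
  · simp only [lin, F4.mul, map_mul, hh', c', s2, mul_one]

end Lin

namespace Grown

variable {T H : X →* X} {Y1 Y2 Y3 U : Subgroup X} {x1 x2 x3 : F4 → X}
variable (G : Grown T H Y1 Y2 Y3 U x1 x2 x3)
include G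

theorem zz_mem {y y' : X} (hy : y ∈ Y1) (hy' : y' ∈ Y2) : zz y y' ∈ Y3 := by
  obtain ⟨z, hz, h⟩ := G.c12 y hy y' hy'
  have : zz y y' = z := by
    have h2 := zz_spec y y'
    rw [h] at h2
    exact (mul_left_cancel h2).symm
  rw [this]; exact hz

theorem cc {a b : X} (ha : a ∈ Y3) (hb : b ∈ Y3) : a * b = b * a := comm_of_sq G.sq3 ha hb

theorem zz_mul_left {y1 y2 y' : X} (h1 : y1 ∈ Y1) (h2 : y2 ∈ Y1) (h' : y' ∈ Y2) :
    zz (y1 * y2) y' = zz y1 y' * zz y2 y' := by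
  have c := G.c13 y2 h2 _ (G.zz_mem h1 h')
  have e1 : y1⁻¹ * y'⁻¹ * y1 = zz y1 y' * y'⁻¹ := by unfold zz; group
  calc zz (y1 * y2) y' = y2⁻¹ * (y1⁻¹ * y'⁻¹ * y1) * y2 * y' := by unfold zz; group
    _ = y2⁻¹ * (zz y1 y' * y2) * y2⁻¹ * y'⁻¹ * y2 * y' := by rw [e1]; group
    _ = zz y1 y' * zz y2 y' := by rw [← c]; unfold zz; group

theorem zz_mul_right {y y1' y2' : X} (h : y ∈ Y1) (h1 : y1' ∈ Y2) (h2 : y2' ∈ Y2) :
    zz y (y1' * y2') = zz y y1' * zz y y2' := by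
  have c := G.c23 y2' h2 _ (G.zz_mem h h1)
  have e1 : y1'⁻¹ * y * y1' = y * zz y y1' := by unfold zz; group
  calc zz y (y1' * y2') = y⁻¹ * y2'⁻¹ * (y1'⁻¹ * y * y1') * y2' := by unfold zz; group
    _ = y⁻¹ * y2'⁻¹ * y * (zz y y1' * y2') := by rw [e1]; group
    _ = zz y y2' * zz y y1' := by rw [← c]; unfold zz; group
    _ = zz y y1' * zz y y2' := G.cc (G.zz_mem h h2) (G.zz_mem h h1)

theorem sub3 {a b : X} (hb : b ∈ Y3) : a * b * b = a := by
  rw [mul_assoc, G.sq3 b hb, mul_one]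

/-- bilinearity of the commutator -/
theorem bil {f g : F4 → X} (hf : ∀ a, f a ∈ Y1) (hg : ∀ a, g a ∈ Y2)
    (fa : ∀ a b, f (a + b) = f a * f b) (ga : ∀ a b, g (a + b) = g a * g b)
    (fH : ∀ a, H (f a) = f (F4.w * a)) (gH : ∀ a, H (g a) = g (F4.w * a)) (a b : F4) :
    zz (f a) (g b) = zz (f 1) (g (a * b)) := by
  have key : ∀ a b, zz (f (F4.w * a)) (g b) = zz (f a) (g (F4.w * b)) := by
    intro a b
    have m1 := G.zz_mem (hf (F4.w * a)) (hg b)
    have m2 := G.zz_mem (hf a) (hg (F4.w * b))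
    have m3 := G.zz_mem (hf (F4.w * a)) (hg (F4.w * b))
    have hw : ∀ x : F4, F4.w * (F4.w * x) = x + F4.w * x := by decide
    have hD : zz (f (F4.w * a)) (g b) * zz (f a) (g (F4.w * b)) = 1 := by
      apply G.fix3 _ (Y3.mul_mem m1 m2)
      rw [map_mul, map_zz, map_zz, fH, gH, fH, gH, hw, hw, fa, ga,
        G.zz_mul_left (hf _) (hf _) (hg _), G.zz_mul_right (hf _) (hg _) (hg _)]
      calc zz (f a) (g (F4.w * b)) * zz (f (F4.w * a)) (g (F4.w * b)) *
            (zz (f (F4.w * a)) (g b) * zz (f (F4.w * a)) (g (F4.w * b)))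
          = zz (f a) (g (F4.w * b)) * (zz (f (F4.w * a)) (g (F4.w * b)) *
            zz (f (F4.w * a)) (g b)) * zz (f (F4.w * a)) (g (F4.w * b)) := by group
        _ = zz (f a) (g (F4.w * b)) * zz (f (F4.w * a)) (g b) *
            zz (f (F4.w * a)) (g (F4.w * b)) * zz (f (F4.w * a)) (g (F4.w * b)) := by
            rw [G.cc m3 m1]; group
        _ = zz (f (F4.w * a)) (g b) * zz (f a) (g (F4.w * b)) := by
            rw [G.sub3 m3, G.cc m2 m1]
    have h2 : zz (f a) (g (F4.w * b)) = (zz (f (F4.w * a)) (g b))⁻¹ :=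
      eq_inv_of_mul_eq_one_right hD
    rw [h2]
    exact (inv_eq_of_mul_eq_one_right (G.sq3 _ m1)).symm
  have f0 : f 0 = 1 := by
    have := fa 0 0
    rw [add_zero] at this
    exact left_eq_mul.1 this
  have g0 : g 0 = 1 := by
    have := ga 0 0
    rw [add_zero] at this
    exact left_eq_mul.1 this
  have h1 : ∀ b : F4, zz (f F4.w) (g b) = zz (f 1) (g (F4.w * b)) := fun b => key 1 b
  cases a
  · have e : F4.z * b = 0 := by cases b <;> rfl
    rw [e, g0]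
    change zz (f 0) (g b) = _
    rw [f0]
    simp [zz]
  · have e : F4.o * b = b := by cases b <;> rfl
    rw [e]; rfl
  · exact h1 b
  · have e : F4.v * b = F4.w * (F4.w * b) := by cases b <;> rfl
    rw [e, ← h1]
    exact key F4.w b

/-- a `T`-fixed linear map into `Y₃` is a multiple of `x₃` -/
theorem lin_fix {k : F4 → X} (hk : ∀ c, k c ∈ Y3) (ka : ∀ a b, k (a + b) = k a * k b)
    (kH : ∀ a, H (k a) = k (F4.v * a)) (kT : ∀ a, T (k a) = k a) :
    ∃ b : F4, ∀ c, k c = x3 (b * c) := by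
  obtain ⟨b, hb⟩ := G.tfix3 _ (hk 1) (kT 1)
  have k0 : k 0 = 1 := by
    have := ka 0 0
    rw [add_zero] at this
    exact left_eq_mul.1 this
  have x0 : x3 0 = 1 := by
    have := G.a3 0 0
    rw [add_zero] at this
    exact left_eq_mul.1 this
  have kv : k F4.v = x3 (F4.v * b) := by
    have := kH 1
    rw [hb, G.h3] at this
    exact this.symm
  have kw : k F4.w = x3 (F4.w * b) := by
    have h1 := kH F4.v
    rw [kv, G.h3] at h1
    have e1 : F4.v * F4.v = F4.w := rfl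
    have e2 : F4.v * (F4.v * b) = F4.w * b := by cases b <;> rfl
    rw [e1, e2] at h1
    exact h1.symm
  refine ⟨b, ?_⟩
  intro c
  cases c
  · have e : b * F4.z = 0 := by cases b <;> rfl
    rw [e, x0]; exact k0
  · have e : b * F4.o = b := by cases b <;> rfl
    rw [e]; exact hb
  · rw [mul_comm]; exact kw
  · rw [mul_comm]; exact kv

theorem zz_x (a b : F4) : zz (x1 a) (x2 b) = x3 (a * b) := by
  have h := zz_spec (x1 a) (x2 b)
  rw [G.comm] at h
  exact (mul_left_cancel h).symm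

/-- **coordinates** -/
theorem exists_coords : ∃ (ν : F4) (p q r : F4 → X),
    (∀ a, p a ∈ Y1) ∧ (∀ a, q a ∈ Y2) ∧ (∀ a, r a ∈ Y3) ∧
    (∀ a b, p (a + b) = p a * p b) ∧ (∀ a b, q (a + b) = q a * q b) ∧
    (∀ a b, r (a + b) = r a * r b) ∧
    (∀ a, T (p a) = p a * x1 a) ∧ (∀ a, T (q a) = q a * x2 a) ∧ (∀ a, T (r a) = r a * x3 a) ∧
    (∀ a b, zz (p a) (x2 b) = r (a * b)) ∧ (∀ a b, zz (x1 a) (q b) = r (a * b)) ∧
    (∀ a b, zz (p a) (q b) = r (a * b) * x3 (ν * (a * b))) := by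
  obtain ⟨g1, hg1, tg1⟩ := G.lift1
  obtain ⟨g2, hg2, tg2⟩ := G.lift2
  -- additive maps
  set p := lin H g1 with hp
  set q0 := lin H g2 with hq0
  have pm : ∀ a, p a ∈ Y1 := lin_mem G.H1 hg1
  have qm : ∀ a, q0 a ∈ Y2 := lin_mem G.H2 hg2
  have pa : ∀ a b, p (a + b) = p a * p b := lin_add G.sq1 G.H1 hg1
  have qa : ∀ a b, q0 (a + b) = q0 a * q0 b := lin_add G.sq2 G.H2 hg2
  have pH : ∀ a, H (p a) = p (F4.w * a) := lin_H G.sq1 G.H1 G.HHH G.fix1 hg1
  have qH : ∀ a, H (q0 a) = q0 (F4.w * a) := lin_H G.sq2 G.H2 G.HHH G.fix2 hg2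
  have x10 : x1 0 = 1 := by
    have := G.a1 0 0
    rw [add_zero] at this
    exact left_eq_mul.1 this
  have x20 : x2 0 = 1 := by
    have := G.a2 0 0
    rw [add_zero] at this
    exact left_eq_mul.1 this
  have pT : ∀ a, T (p a) = p a * x1 a := by
    have hH : T (H g1) = H g1 * x1 F4.w := by
      rw [G.TH, tg1, map_mul, G.h1]; rfl
    intro a
    cases a
    · change T 1 = 1 * x1 0
      rw [map_one, x10, mul_one]
    · exact tg1
    · exact hH
    · change T (g1 * H g1) = (g1 * H g1) * x1 F4.v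
      have e : F4.v = 1 + F4.w := rfl
      rw [map_mul, tg1, hH, e, G.a1]
      have c := comm_of_sq G.sq1 (G.m1 1) (G.H1 _ hg1)
      calc g1 * x1 1 * (H g1 * x1 F4.w) = g1 * (x1 1 * H g1) * x1 F4.w := by group
        _ = _ := by rw [c]; group
  have qT : ∀ a, T (q0 a) = q0 a * x2 a := by
    have hH : T (H g2) = H g2 * x2 F4.w := by
      rw [G.TH, tg2, map_mul, G.h2]; rfl
    intro a
    cases a
    · change T 1 = 1 * x2 0
      rw [map_one, x20, mul_one]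
    · exact tg2
    · exact hH
    · change T (g2 * H g2) = (g2 * H g2) * x2 F4.v
      have e : F4.v = 1 + F4.w := rfl
      rw [map_mul, tg2, hH, e, G.a2]
      have c := comm_of_sq G.sq2 (G.m2 1) (G.H2 _ hg2)
      calc g2 * x2 1 * (H g2 * x2 F4.w) = g2 * (x2 1 * H g2) * x2 F4.w := by group
        _ = _ := by rw [c]; group
  -- the map `r`
  set r : F4 → X := fun c => zz (p 1) (x2 c) with hr
  have rm : ∀ c, r c ∈ Y3 := fun c => G.zz_mem (pm 1) (G.m2 c)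
  have ra : ∀ a b, r (a + b) = r a * r b := by
    intro a b
    change zz (p 1) (x2 (a + b)) = _
    rw [G.a2, G.zz_mul_right (pm 1) (G.m2 _) (G.m2 _)]
  have rb : ∀ a b, zz (p a) (x2 b) = r (a * b) := G.bil pm G.m2 pa G.a2 pH G.h2
  have rH : ∀ c, H (r c) = r (F4.v * c) := by
    intro c
    change H (zz (p 1) (x2 c)) = _
    rw [map_zz, pH, G.h2, rb]
    congr 1
    cases c <;> rfl
  have rT : ∀ c, T (r c) = r c * x3 c := by
    intro c
    change T (zz (p 1) (x2 c)) = _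
    rw [map_zz, pT, G.t2, G.zz_mul_left (pm 1) (G.m1 1) (G.m2 c), G.zz_x, one_mul]
  -- the map `k2 c = [x1 1, q0 c]`
  set k2 : F4 → X := fun c => zz (x1 1) (q0 c) with hk2
  have k2m : ∀ c, k2 c ∈ Y3 := fun c => G.zz_mem (G.m1 1) (qm c)
  have k2a : ∀ a b, k2 (a + b) = k2 a * k2 b := by
    intro a b
    change zz (x1 1) (q0 (a + b)) = _
    rw [qa, G.zz_mul_right (G.m1 1) (qm _) (qm _)]
  have k2b : ∀ a b, zz (x1 a) (q0 b) = k2 (a * b) := G.bil G.m1 qm G.a1 qa G.h1 qH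
  have k2H : ∀ c, H (k2 c) = k2 (F4.v * c) := by
    intro c
    change H (zz (x1 1) (q0 c)) = _
    rw [map_zz, qH, G.h1, k2b]
    congr 1
    cases c <;> rfl
  have k2T : ∀ c, T (k2 c) = k2 c * x3 c := by
    intro c
    change T (zz (x1 1) (q0 c)) = _
    rw [map_zz, qT, G.t1, G.zz_mul_right (G.m1 1) (qm c) (G.m2 c), G.zz_x, one_mul]
  have four : ∀ a b c d : X, b ∈ Y3 → c ∈ Y3 → a * b * (c * d) = a * c * (b * d) := by
    intro a b c d hb hc
    calc a * b * (c * d) = a * (b * c) * d := by group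
      _ = a * c * (b * d) := by rw [G.cc hb hc]; group
  -- general principle: two lifts of `x3` differ by a multiple of `x3`
  have diff : ∀ k : F4 → X, (∀ c, k c ∈ Y3) → (∀ a b, k (a + b) = k a * k b) →
      (∀ c, H (k c) = k (F4.v * c)) → (∀ c, T (k c) = k c * x3 c) →
      ∃ b : F4, ∀ c, k c = r c * x3 (b * c) := by
    intro k km ka kH kT
    obtain ⟨b, hb⟩ := G.lin_fix (k := fun c => r c * k c) (fun c => Y3.mul_mem (rm c) (km c))
      (by
        intro a b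
        rw [ra, ka, four _ _ _ _ (km a) (rm b)])
      (by
        intro a
        rw [map_mul, rH, kH])
      (by
        intro a
        rw [map_mul, rT, kT, four _ _ _ _ (G.m3 a) (km a), G.sq3 _ (G.m3 a), mul_one])
    refine ⟨b, ?_⟩
    intro c
    have h1 : r c * k c = x3 (b * c) := hb c
    rw [← h1, ← mul_assoc, G.sq3 _ (rm c), one_mul]
  obtain ⟨b, hb⟩ := diff k2 k2m k2a k2H k2T
  -- new `q`
  set q : F4 → X := fun c => q0 c * x2 (b * c) with hq
  have qm' : ∀ c, q c ∈ Y2 := fun c => Y2.mul_mem (qm c) (G.m2 _)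
  have qa' : ∀ a c, q (a + c) = q a * q c := by
    intro a c
    change q0 (a + c) * x2 (b * (a + c)) = q0 a * x2 (b * a) * (q0 c * x2 (b * c))
    rw [qa, mul_add, G.a2]
    have c1 := comm_of_sq G.sq2 (G.m2 (b * a)) (qm c)
    calc q0 a * q0 c * (x2 (b * a) * x2 (b * c)) = q0 a * (q0 c * x2 (b * a)) * x2 (b * c) := by
          group
      _ = _ := by rw [← c1]; group
  have qH' : ∀ a, H (q a) = q (F4.w * a) := by
    intro a
    change H (q0 a * x2 (b * a)) = q0 (F4.w * a) * x2 (b * (F4.w * a))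
    rw [map_mul, qH, G.h2]
    congr 2
    ring
  have qT' : ∀ a, T (q a) = q a * x2 a := by
    intro a
    change T (q0 a * x2 (b * a)) = q0 a * x2 (b * a) * x2 a
    rw [map_mul, qT, G.t2, mul_assoc, mul_assoc, comm_of_sq G.sq2 (G.m2 a) (G.m2 (b * a))]
  have k2b' : ∀ a c, zz (x1 a) (q c) = r (a * c) := by
    intro a c
    change zz (x1 a) (q0 c * x2 (b * c)) = _
    rw [G.zz_mul_right (G.m1 a) (qm c) (G.m2 _), k2b, G.zz_x, hb]
    have e : a * (b * c) = b * (a * c) := by ring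
    rw [e, G.sub3 (G.m3 _)]
  -- the map `k3 c = [p 1, q c]`
  set k3 : F4 → X := fun c => zz (p 1) (q c) with hk3
  have k3m : ∀ c, k3 c ∈ Y3 := fun c => G.zz_mem (pm 1) (qm' c)
  have k3a : ∀ a b, k3 (a + b) = k3 a * k3 b := by
    intro a b
    change zz (p 1) (q (a + b)) = _
    rw [qa', G.zz_mul_right (pm 1) (qm' _) (qm' _)]
  have k3b : ∀ a b, zz (p a) (q b) = k3 (a * b) := G.bil pm qm' pa qa' pH qH'
  have k3H : ∀ c, H (k3 c) = k3 (F4.v * c) := by
    intro c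
    change H (zz (p 1) (q c)) = _
    rw [map_zz, qH', pH, k3b]
    congr 1
    cases c <;> rfl
  have k3T : ∀ c, T (k3 c) = k3 c * x3 c := by
    intro c
    change T (zz (p 1) (q c)) = _
    rw [map_zz, qT', pT, G.zz_mul_left (pm 1) (G.m1 1) (Y2.mul_mem (qm' c) (G.m2 c)),
      G.zz_mul_right (pm 1) (qm' c) (G.m2 c), G.zz_mul_right (G.m1 1) (qm' c) (G.m2 c),
      rb, k2b', G.zz_x, one_mul]
    change k3 c * r c * (r c * x3 c) = k3 c * x3 c
    rw [← mul_assoc, G.sub3 (rm c)]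
  obtain ⟨ν, hν⟩ := diff k3 k3m k3a k3H k3T
  refine ⟨ν, p, q, r, pm, qm', rm, pa, qa', ra, pT, qT', rT, rb, k2b', ?_⟩
  intro a b
  rw [k3b, hν]

/-- **section 2**: `U ≅ Heis (Q ν)`, `T` acting on the coordinates. -/
theorem exists_equiv : ∃ (ν : F4) (e : U ≃* Heis (Q ν)),
    ∀ u v : U, (v : X) = T u → e v = ofRing (tau ν) (e u) := by
  obtain ⟨ν, p, q, r, pm, qm, rm, pa, qa, ra, pT, qT, rT, h1, h2, h3⟩ := G.exists_coords
  have z0 : ∀ f : F4 → X, (∀ a b, f (a + b) = f a * f b) → f 0 = 1 := by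
    intro f hf
    have := hf 0 0
    rw [add_zero] at this
    exact left_eq_mul.1 this
  -- general facts on `a ↦ x a.re * p a.im`
  have gen : ∀ (Y : Subgroup X) (x s : F4 → X), (∀ y ∈ Y, y * y = 1) → Nat.card Y = 16 →
      (∀ a, x a ∈ Y) → (∀ a, s a ∈ Y) → (∀ a b, x (a + b) = x a * x b) →
      (∀ a b, s (a + b) = s a * s b) → (∀ a, T (x a) = x a) → (∀ a, T (s a) = s a * x a) →
      (∀ a, x a = 1 → a = 0) →
      (∀ a b : Q ν, x (a + b).re * s (a + b).im = x a.re * s a.im * (x b.re * s b.im)) ∧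
      (∀ a : Q ν, T (x a.re * s a.im) = x (tau ν a).re * s (tau ν a).im) ∧
      (∀ y ∈ Y, ∃ a : Q ν, y = x a.re * s a.im) := by
    intro Y x s hsq hcard xm sm xa sa xT sT xi
    have cm : ∀ {a b : X}, a ∈ Y → b ∈ Y → a * b = b * a := fun ha hb => comm_of_sq hsq ha hb
    have hadd : ∀ a b : Q ν, x (a + b).re * s (a + b).im = x a.re * s a.im * (x b.re * s b.im) := by
      intro a b
      rw [re_add, im_add, xa, sa]
      calc x a.re * x b.re * (s a.im * s b.im) = x a.re * (x b.re * s a.im) * s b.im := by group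
        _ = _ := by rw [cm (xm b.re) (sm a.im)]; group
    refine ⟨hadd, ?_, ?_⟩
    · intro a
      rw [map_mul, xT, sT, tau_apply, xa, cm (sm a.im) (xm a.im)]
      group
    · have hinj : ∀ a : Q ν, x a.re * s a.im = 1 → a = 0 := by
        intro a ha
        have e1 := congrArg T ha
        rw [map_mul, xT, sT, map_one, ← mul_assoc, ha, one_mul] at e1
        have e2 := xi _ e1
        rw [e2, z0 s sa, mul_one] at ha
        exact q_ext (xi _ ha) e2
      have hI : Function.Injective (fun a : Q ν => (⟨x a.re * s a.im, Y.mul_mem (xm _) (sm _)⟩ : Y)) := by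
        intro a b hab
        have e1 : x a.re * s a.im = x b.re * s b.im := congrArg Subtype.val hab
        have e2 := hinj (a + b) (by
          rw [hadd, e1, hsq _ (Y.mul_mem (xm _) (sm _))])
        have e3 : a + b + b = b := by rw [e2, zero_add]
        rw [add_assoc, CharTwo.add_self_eq_zero, add_zero] at e3
        exact e3
      have hfin : Finite Y := Nat.finite_of_card_ne_zero (by rw [hcard]; norm_num)
      have hB := hI.bijective_of_nat_card_le (by rw [hcard, card_q])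
      intro y hy
      obtain ⟨a, ha⟩ := hB.2 ⟨y, hy⟩
      exact ⟨a, (congrArg Subtype.val ha).symm⟩
  obtain ⟨ad1, T1, sur1⟩ := gen Y1 x1 p G.sq1 G.card1 G.m1 pm G.a1 pa G.t1 pT G.i1
  obtain ⟨ad2, T2, sur2⟩ := gen Y2 x2 q G.sq2 G.card2 G.m2 qm G.a2 qa G.t2 qT G.i2
  obtain ⟨ad3, T3, sur3⟩ := gen Y3 x3 r G.sq3 G.card3 G.m3 rm G.a3 ra G.t3 rT G.i3
  set y1 : Q ν → X := fun a => x1 a.re * p a.im with hy1
  set y2 : Q ν → X := fun a => x2 a.re * q a.im with hy2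
  set y3 : Q ν → X := fun a => x3 a.re * r a.im with hy3
  have m1 : ∀ a, y1 a ∈ Y1 := fun a => Y1.mul_mem (G.m1 _) (pm _)
  have m2 : ∀ a, y2 a ∈ Y2 := fun a => Y2.mul_mem (G.m2 _) (qm _)
  have m3 : ∀ a, y3 a ∈ Y3 := fun a => Y3.mul_mem (G.m3 _) (rm _)
  have key : ∀ a b : Q ν, zz (y1 a) (y2 b) = y3 (a * b) := by
    intro a b
    change zz (x1 a.re * p a.im) (x2 b.re * q b.im) = x3 (a * b).re * r (a * b).im
    rw [G.zz_mul_left (G.m1 _) (pm _) (m2 b), G.zz_mul_right (G.m1 _) (G.m2 _) (qm _),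
      G.zz_mul_right (pm _) (G.m2 _) (qm _), G.zz_x, h1, h2, h3, re_mul, im_mul, one_mul,
      G.a3, ra, ra, mul_assoc ν]
    set A := x3 (a.re * b.re)
    set B := r (a.re * b.im)
    set C := r (a.im * b.re)
    set D := r (a.im * b.im)
    set E := x3 (ν * (a.im * b.im))
    have mE : E ∈ Y3 := G.m3 _
    have mBCD : B * C * D ∈ Y3 := Y3.mul_mem (Y3.mul_mem (rm _) (rm _)) (rm _)
    calc A * B * (C * (D * E)) = A * ((B * C * D) * E) := by group
      _ = A * E * (B * C * D) := by rw [G.cc mBCD mE]; group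
  -- the isomorphism
  let F : Heis (Q ν) → X := fun u => y2 u.b * y1 u.a * y3 u.c
  have hF : ∀ u v, F (u * v) = F u * F v := by
    intro u v
    change y2 (u.b + v.b) * y1 (u.a + v.a) * y3 (u.c + v.c + u.a * v.b) =
      y2 u.b * y1 u.a * y3 u.c * (y2 v.b * y1 v.a * y3 v.c)
    have e1 : y2 (u.b + v.b) = y2 u.b * y2 v.b := ad2 _ _
    have e2 : y1 (u.a + v.a) = y1 u.a * y1 v.a := ad1 _ _
    have e3 : y3 (u.c + v.c + u.a * v.b) = y3 u.c * y3 v.c * y3 (u.a * v.b) := by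
      have e4 : y3 (u.c + v.c + u.a * v.b) = y3 (u.c + v.c) * y3 (u.a * v.b) := ad3 _ _
      have e5 : y3 (u.c + v.c) = y3 u.c * y3 v.c := ad3 _ _
      rw [e4, e5]
    rw [e1, e2, e3]
    have c1 := zz_spec (y1 u.a) (y2 v.b)
    rw [key] at c1
    have c2 := G.c13 _ (m1 v.a) _ (m3 (u.a * v.b))
    have c3 := G.c23 _ (m2 v.b) _ (m3 u.c)
    have c4 := G.c13 _ (m1 v.a) _ (m3 u.c)
    have c5 := G.cc (m3 (u.a * v.b)) (Y3.mul_mem (m3 u.c) (m3 v.c))
    symm
    calc y2 u.b * y1 u.a * y3 u.c * (y2 v.b * y1 v.a * y3 v.c)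
        = y2 u.b * y1 u.a * (y3 u.c * y2 v.b) * y1 v.a * y3 v.c := by group
      _ = y2 u.b * (y1 u.a * y2 v.b) * (y3 u.c * y1 v.a) * y3 v.c := by rw [← c3]; group
      _ = y2 u.b * y2 v.b * y1 u.a * (y3 (u.a * v.b) * y1 v.a) * y3 u.c * y3 v.c := by
          rw [c1, ← c4]; group
      _ = y2 u.b * y2 v.b * y1 u.a * y1 v.a * (y3 (u.a * v.b) * (y3 u.c * y3 v.c)) := by
          rw [← c2]; group
      _ = _ := by rw [c5]; group
  have hFU : ∀ u, F u ∈ U := fun u =>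
    U.mul_mem (U.mul_mem (G.le2 (m2 _)) (G.le1 (m1 _))) (G.le3 (m3 _))
  let F' : Heis (Q ν) →* U := MonoidHom.mk' (fun u => ⟨F u, hFU u⟩) (fun u v => Subtype.ext (hF u v))
  have hsur : Function.Surjective F' := by
    rintro ⟨u, hu⟩
    obtain ⟨w1, hw1, w2, hw2, w3, hw3, rfl⟩ := G.gen u hu
    obtain ⟨a, rfl⟩ := sur1 w1 hw1
    obtain ⟨b, rfl⟩ := sur2 w2 hw2
    obtain ⟨c, rfl⟩ := sur3 w3 hw3
    refine ⟨⟨a, b, a * b + c⟩, Subtype.ext ?_⟩
    change y2 b * y1 a * y3 (a * b + c) = y1 a * y2 b * y3 c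
    have e : y3 (a * b + c) = y3 (a * b) * y3 c := ad3 _ _
    rw [e, zz_spec (y1 a) (y2 b), key, ← mul_assoc]
  have hfin : Finite U := Nat.finite_of_card_ne_zero (by rw [G.cardU]; norm_num)
  have hbij : Function.Bijective F' := by
    apply hsur.bijective_of_nat_card_le
    rw [card_heis, card_q, G.cardU]; norm_num
  have hFT : ∀ u, T (F u) = F (ofRing (tau ν) u) := by
    intro u
    change T (y2 u.b * y1 u.a * y3 u.c) = y2 (tau ν u.b) * y1 (tau ν u.a) * y3 (tau ν u.c)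
    have e1 : T (y2 u.b) = y2 (tau ν u.b) := T2 _
    have e2 : T (y1 u.a) = y1 (tau ν u.a) := T1 _
    have e3 : T (y3 u.c) = y3 (tau ν u.c) := T3 _
    rw [map_mul, map_mul, e1, e2, e3]
  let e := MulEquiv.ofBijective F' hbij
  refine ⟨ν, e.symm, ?_⟩
  intro u v huv
  apply e.injective
  rw [MulEquiv.apply_symm_apply]
  apply Subtype.ext
  rw [huv]
  change T u = F (ofRing (tau ν) (e.symm u))
  rw [← hFT]
  congr 1
  exact (congrArg Subtype.val (e.apply_symm_apply u)).symm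

/-- **[HC]** the package of facts on `U`. -/
theorem pack (t' : MulAut U) (ht' : ∀ u : U, (t' u : X) = T u) : Pack U t' := by
  obtain ⟨ν, e, he⟩ := G.exists_equiv
  exact transport (HeisPack.pack ν) e (fun u => he u (t' u) (ht' u))

end Grown

end Cfsg.Agent.StdL3.HeisCoord
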