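import Mathlib

set_option autoImplicit false
set_option linter.dupNamespace false

/-!
# The package of facts on the `2`-group of order `2^12` grown from `L₃(4)`

`Pack U t`: the facts on `U = Heis(B)` (`B = 𝔽₁₆` or `𝔽₄ × 𝔽₄`) and its automorphism `t` used in the
elimination of `|R| = 2` (blueprints/S1748-outer.md, sections 3 and 4).
-/

namespace Cfsg.Agent.StdL3.Pack

structure Pack (U : Type*) [Group U] (t : MulAut U) : Prop where
  card : Nat.card U = 2 ^ 12
  comm : ∀ u v : U, u * v * u⁻¹ * v⁻¹ ∈ Subgroup.center U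
  sq : ∀ u : U, u * u ∈ Subgroup.center U
  cardZ : Nat.card (Subgroup.center U) = 16
  sqZ : ∀ z ∈ Subgroup.center U, z * z = 1
  inv : ∀ u : U, u * u = 1 → ∃ E : Subgroup U, u ∈ E ∧ Nat.card E = 2 ^ 8 ∧ ∀ x ∈ E, x * x = 1
  chi : ∃ (A : Type) (_ : CommGroup A) (χ : MulAut U →* A), χ t ≠ 1 ∧
    ∀ d : MulAut U, d * d = 1 → χ d ≠ 1 →
      Nat.card {z : Subgroup.center U // d z = z} = 4 ∧ 64 ≤ Nat.card {u : U // d u = u} ∧
      ∀ u : U, u * u = 1 →
        (∀ z ∈ Subgroup.center U, d z = z → ∃ v : U, u * v * u⁻¹ * v⁻¹ = z) →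
        (∀ v w : U, Commute u v → Commute u w → Commute v w ∧ v * v = 1) ∧
          Nat.card (Subgroup.centralizer ({u} : Set U)) = 2 ^ 8

end Cfsg.Agent.StdL3.Pack
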