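import Cfsg.Agent.StdL3.HeisRing
import Cfsg.Agent.StdL3.Pack

/-!
# `Pack` for `Heis (Q ν)`, and transport of `Pack`
-/

set_option autoImplicit false
set_option linter.constructorNameAsVariable false

namespace Cfsg.Agent.StdL3.HeisPack

open Cfsg.Agent.StdL3.Heis Cfsg.Agent.StdL3.HeisTwo Cfsg.Agent.StdL3.HeisRing
open Cfsg.Agent.StdL3.Pack
open Cfsg.Agent.SporadicA.FieldFour

theorem mem_center {B : Type*} [CommRing B] {u : Heis B} :
    u ∈ Subgroup.center (Heis B) ↔ ∃ c, u = z c := by
  rw [← J_eq_center]; exact mem_J_iff_exists

/-- `Pack` for `Heis (Q ν)` and the automorphism `tau` on the coordinates. -/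
theorem pack (ν : F4) : Pack (Heis (Q ν)) (ofRing (tau ν)) where
  card := by rw [card_heis, card_q]; norm_num
  comm := by
    intro u v
    rw [mem_center]
    exact ⟨_, comm_eq u v⟩
  sq := by
    intro u
    rw [mem_center]
    exact ⟨_, sq_eq u⟩
  cardZ := by rw [← J_eq_center, card_J, card_q]
  sqZ := by
    intro w hw
    obtain ⟨c, rfl⟩ := mem_center.1 hw
    exact z_sq c
  inv := by
    intro u hu
    obtain ⟨E, h1, h2, _, h4⟩ := exists_elementary reg_q hu
    refine ⟨E, h1, ?_, h2⟩
    rw [h4, card_q]; norm_num
  chi := by
    obtain ⟨A, hA, χ, θ, h1, h2⟩ := exists_chi ν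
    refine ⟨A, hA, χ.comp sig, ?_, ?_⟩
    · change χ (sig (ofRing (tau ν))) ≠ 1
      rw [sig_ofRing]
      exact h1
    · intro d hd hχ
      have hχ' : χ (sig d) ≠ 1 := hχ
      have h3 : sig d θ = θ + 1 := by
        apply h2 _ _ hχ'
        rw [← map_mul, hd, map_one]
      refine ⟨?_, ?_, ?_⟩
      · have e : {z : Subgroup.center (Heis (Q ν)) // d z = z} ≃ fixJ d :=
          { toFun := fun w => ⟨w.1.1.c, by
              obtain ⟨c, hc⟩ := mem_center.1 w.1.2
              have hw : d w.1.1 = w.1.1 := w.2
              rw [hc] at hw ⊢
              exact mem_fixJ_iff.2 hw⟩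
            invFun := fun c => ⟨⟨z c.1, mem_center.2 ⟨_, rfl⟩⟩, mem_fixJ_iff.1 c.2⟩
            left_inv := by
              rintro ⟨⟨w, hw⟩, hw'⟩
              obtain ⟨c, rfl⟩ := mem_center.1 hw
              rfl
            right_inv := fun c => rfl }
        rw [Nat.card_congr e]
        exact card_fix_eq_four card_q hd h3
      · exact card_fixAll_ge card_q hd h3
      · intro u hu hcov
        have hun : Uni u := by
          apply uni_of_fix hd h3
          intro c hc
          exact hcov (z c) (mem_center.2 ⟨c, rfl⟩) hc
        refine ⟨?_, ?_⟩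
        · intro v w hv hw
          exact ⟨hun.comm_of_comm hv hw, hun.sq_of_comm hu hv⟩
        · rw [hun.card_centralizer, card_q]; norm_num

/-- **transport** of `Pack` along an isomorphism. -/
theorem transport {U U' : Type*} [Group U] [Group U'] {t : MulAut U} {t' : MulAut U'}
    (hP : Pack U t) (e : U' ≃* U) (h : ∀ u, e (t' u) = t (e u)) : Pack U' t' := by
  have hc : ∀ u : U', u ∈ Subgroup.center U' ↔ e u ∈ Subgroup.center U := by
    intro u
    rw [Subgroup.mem_center_iff, Subgroup.mem_center_iff]
    constructor
    · intro hu g
      have := congrArg e (hu (e.symm g))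
      simpa using this
    · intro hu g
      apply e.injective
      rw [map_mul, map_mul]
      exact hu (e g)
  have ez : Subgroup.center U' ≃ Subgroup.center U :=
    { toFun := fun u => ⟨e u.1, (hc _).1 u.2⟩
      invFun := fun u => ⟨e.symm u.1, (hc _).2 (by rw [MulEquiv.apply_symm_apply]; exact u.2)⟩
      left_inv := fun u => Subtype.ext (e.symm_apply_apply _)
      right_inv := fun u => Subtype.ext (e.apply_symm_apply _) }
  refine ⟨?_, ?_, ?_, ?_, ?_, ?_, ?_⟩
  · rw [Nat.card_congr e.toEquiv]; exact hP.card
  · intro u v
    rw [hc]
    simpa using hP.comm (e u) (e v)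
  · intro u
    rw [hc, map_mul]; exact hP.sq _
  · rw [Nat.card_congr ez]; exact hP.cardZ
  · intro w hw
    apply e.injective
    rw [map_mul, map_one]
    exact hP.sqZ _ ((hc _).1 hw)
  · intro u hu
    obtain ⟨E, h1, h2, h3⟩ := hP.inv (e u) (by rw [← map_mul, hu, map_one])
    refine ⟨E.comap e.toMonoidHom, h1, ?_, ?_⟩
    · have : E.comap e.toMonoidHom ≃ E :=
        { toFun := fun x => ⟨e x.1, x.2⟩
          invFun := fun x => ⟨e.symm x.1, by
            change e (e.symm x.1) ∈ E
            rw [MulEquiv.apply_symm_apply]; exact x.2⟩
          left_inv := fun u => Subtype.ext (e.symm_apply_apply _)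
          right_inv := fun u => Subtype.ext (e.apply_symm_apply _) }
      rw [Nat.card_congr this, h2]
    · intro x hx
      apply e.injective
      rw [map_mul, map_one]
      exact h3 _ hx
  · obtain ⟨A, hA, χ, h1, h2⟩ := hP.chi
    have ht : MulAut.congr e t' = t := by
      apply MulEquiv.ext
      intro u
      change e (t' (e.symm u)) = t u
      rw [h, MulEquiv.apply_symm_apply]
    refine ⟨A, hA, χ.comp (MulAut.congr e).toMonoidHom, ?_, ?_⟩
    · change χ (MulAut.congr e t') ≠ 1
      rw [ht]; exact h1
    · intro d hd hχ
      have hχ' : χ (MulAut.congr e d) ≠ 1 := hχ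
      obtain ⟨h3, h4, h5⟩ := h2 (MulAut.congr e d) (by rw [← map_mul, hd, map_one]) hχ'
      have hD : ∀ u, MulAut.congr e d (e u) = e (d u) := by
        intro u
        change e (d (e.symm (e u))) = e (d u)
        rw [MulEquiv.symm_apply_apply]
      refine ⟨?_, ?_, ?_⟩
      · have e1 : {z : Subgroup.center U' // d z = z} ≃
            {z : Subgroup.center U // MulAut.congr e d z = z} :=
          { toFun := fun w => ⟨⟨e w.1.1, (hc _).1 w.1.2⟩, by
              rw [hD, w.2]⟩
            invFun := fun w => ⟨⟨e.symm w.1.1, (hc _).2 (by
              rw [MulEquiv.apply_symm_apply]; exact w.1.2)⟩, by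
              apply e.injective
              have hw : MulAut.congr e d w.1.1 = w.1.1 := w.2
              rw [← hD, MulEquiv.apply_symm_apply, hw]⟩
            left_inv := fun u => Subtype.ext (Subtype.ext (e.symm_apply_apply _))
            right_inv := fun u => Subtype.ext (Subtype.ext (e.apply_symm_apply _)) }
        rw [Nat.card_congr e1]; exact h3
      · have e1 : {u : U' // d u = u} ≃ {u : U // MulAut.congr e d u = u} :=
          { toFun := fun w => ⟨e w.1, by rw [hD, w.2]⟩
            invFun := fun w => ⟨e.symm w.1, by
              apply e.injective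
              have hw : MulAut.congr e d w.1 = w.1 := w.2
              rw [← hD, MulEquiv.apply_symm_apply, hw]⟩
            left_inv := fun u => Subtype.ext (e.symm_apply_apply _)
            right_inv := fun u => Subtype.ext (e.apply_symm_apply _) }
        rw [Nat.card_congr e1]; exact h4
      · intro u hu hcov
        obtain ⟨h6, h7⟩ := h5 (e u) (by rw [← map_mul, hu, map_one]) (by
          intro w hw hdw
          have hw' : e.symm w ∈ Subgroup.center U' := (hc _).2 (by
            rw [MulEquiv.apply_symm_apply]; exact hw)
          obtain ⟨v, hv⟩ := hcov (e.symm w) hw' (by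
            apply e.injective
            rw [← hD, MulEquiv.apply_symm_apply, hdw])
          refine ⟨e v, ?_⟩
          have := congrArg e hv
          simpa using this)
        refine ⟨?_, ?_⟩
        · intro v w hv hw
          obtain ⟨h8, h9⟩ := h6 (e v) (e w) (hv.map e) (hw.map e)
          refine ⟨?_, ?_⟩
          · apply e.injective
            rw [map_mul, map_mul]; exact h8
          · apply e.injective
            rw [map_mul, map_one]; exact h9
        · have e1 : Subgroup.centralizer ({u} : Set U') ≃ Subgroup.centralizer ({e u} : Set U) :=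
            { toFun := fun w => ⟨e w.1, by
                have hw := w.2
                rw [Subgroup.mem_centralizer_singleton_iff] at hw ⊢
                rw [← map_mul, hw, map_mul]⟩
              invFun := fun w => ⟨e.symm w.1, by
                have hw := w.2
                rw [Subgroup.mem_centralizer_singleton_iff] at hw ⊢
                apply e.injective
                rw [map_mul, map_mul, MulEquiv.apply_symm_apply]; exact hw⟩
              left_inv := fun u => Subtype.ext (e.symm_apply_apply _)
              right_inv := fun u => Subtype.ext (e.apply_symm_apply _) }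
          rw [Nat.card_congr e1]; exact h7

end Cfsg.Agent.StdL3.HeisPack
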