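import Cfsg.Agent.StdL3.HeisTwo
import Cfsg.Agent.SporadicA.FieldFour

/-!
# The rings `Q ν = 𝔽₄[θ]`, `θ² = θ + ν`

`𝔽₄ × 𝔽₄` (`ν = c² + c`) or `𝔽₁₆` (`ν² + ν = 1`).  Blueprint `S1748-outer.md`, section 3 (c).
-/

set_option autoImplicit false
set_option linter.constructorNameAsVariable false

namespace Cfsg.Agent.StdL3.HeisRing

open Cfsg.Agent.StdL3.Heis Cfsg.Agent.StdL3.HeisTwo
open Cfsg.Agent.SporadicA.FieldFour

/-- `𝔽₄[θ]`, `θ² = θ + ν`. -/
abbrev Q (ν : F4) : Type := QuadraticAlgebra F4 ν 1

variable {ν : F4}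

theorem q_ext {a b : Q ν} (h1 : a.re = b.re) (h2 : a.im = b.im) : a = b :=
  QuadraticAlgebra.ext h1 h2

theorem re_add (a b : Q ν) : (a + b).re = a.re + b.re := rfl
theorem im_add (a b : Q ν) : (a + b).im = a.im + b.im := rfl
theorem re_mul (a b : Q ν) : (a * b).re = a.re * b.re + ν * a.im * b.im := rfl
theorem im_mul (a b : Q ν) : (a * b).im = a.re * b.im + a.im * b.re + 1 * a.im * b.im := rfl
theorem re_one : (1 : Q ν).re = 1 := rfl
theorem im_one : (1 : Q ν).im = 0 := rfl
theorem re_zero : (0 : Q ν).re = 0 := rfl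
theorem im_zero : (0 : Q ν).im = 0 := rfl

/-- the generator `θ` -/
def th (ν : F4) : Q ν := ⟨0, 1⟩

/-- constants -/
def con (x : F4) : Q ν := ⟨x, 0⟩

theorem eq_con_add (a : Q ν) : a = con a.re + con a.im * th ν := by
  apply q_ext
  · rw [re_add, re_mul]
    change a.re = a.re + (a.im * 0 + ν * 0 * 1)
    ring
  · rw [im_add, im_mul]
    change a.im = 0 + (a.im * 1 + 0 * 0 + 1 * 0 * 1)
    ring

theorem con_zero : (con 0 : Q ν) = 0 := rfl
theorem con_one : (con 1 : Q ν) = 1 := rfl
theorem con_add (x y : F4) : (con (x + y) : Q ν) = con x + con y := by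
  apply q_ext
  · rfl
  · exact (add_zero (0 : F4)).symm
theorem con_mul (x y : F4) : (con (x * y) : Q ν) = con x * con y := by
  apply q_ext
  · rw [re_mul]
    change x * y = x * y + ν * 0 * 0
    ring
  · rw [im_mul]
    change 0 = x * 0 + 0 * y + 1 * 0 * 0
    ring

theorem con_inj {x y : F4} (h : (con x : Q ν) = con y) : x = y := congrArg QuadraticAlgebra.re h

theorem two_eq_zero : (2 : Q ν) = 0 := by
  have h : (1 : Q ν) + 1 = 0 := by
    apply q_ext
    · rw [re_add, re_one, re_zero]; decide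
    · rw [im_add, im_one, im_zero]; decide
  rw [← h]; norm_num

theorem one_ne_zero' : (1 : Q ν) ≠ 0 := by
  intro h
  have := congrArg QuadraticAlgebra.re h
  rw [re_one, re_zero] at this
  exact absurd this (by decide)

instance instNontrivial : Nontrivial (Q ν) := ⟨1, 0, one_ne_zero'⟩

instance instCharP : CharP (Q ν) 2 := CharTwo.of_one_ne_zero_of_two_eq_zero one_ne_zero' two_eq_zero

instance instFiniteQ : Finite (Q ν) := Finite.of_equiv _ (QuadraticAlgebra.equivProd ν 1).symm

theorem card_q : Nat.card (Q ν) = 16 := by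
  rw [Nat.card_congr (QuadraticAlgebra.equivProd ν 1), Nat.card_prod, Nat.card_eq_fintype_card]
  rfl

theorem sq_q (a : Q ν) : a * a = ⟨a.re * a.re + ν * (a.im * a.im), a.im * a.im⟩ := by
  apply q_ext
  · rw [re_mul]
    change _ = a.re * a.re + ν * (a.im * a.im)
    ring
  · rw [im_mul]
    change _ = a.im * a.im
    have : ∀ u v : F4, u * v + v * u + 1 * v * v = v * v := by decide
    exact this _ _

/-- `a ^ 16 = a`. -/
theorem pow_16 (a : Q ν) : a ^ 16 = a := by
  have h : a ^ 16 = ((((a * a) * (a * a)) * ((a * a) * (a * a))) *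
      (((a * a) * (a * a)) * ((a * a) * (a * a)))) := by ring
  rw [h]
  set b := a * a with hb
  set c := b * b with hc
  set d := c * c with hd
  rw [sq_q d, hd, sq_q c, hc, sq_q b, hb, sq_q a]
  have k1 : ∀ ν x y : F4,
      ((((x * x + ν * (y * y)) * (x * x + ν * (y * y)) + ν * (y * y * (y * y))) *
        ((x * x + ν * (y * y)) * (x * x + ν * (y * y)) + ν * (y * y * (y * y))) +
        ν * (y * y * (y * y) * (y * y * (y * y)))) *
       (((x * x + ν * (y * y)) * (x * x + ν * (y * y)) + ν * (y * y * (y * y))) *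
        ((x * x + ν * (y * y)) * (x * x + ν * (y * y)) + ν * (y * y * (y * y))) +
        ν * (y * y * (y * y) * (y * y * (y * y)))) +
        ν * (y * y * (y * y) * (y * y * (y * y)) * (y * y * (y * y) * (y * y * (y * y))))) = x := by
    decide
  have k2 : ∀ y : F4, y * y * (y * y) * (y * y * (y * y)) * (y * y * (y * y) * (y * y * (y * y))) =
      y := by decide
  apply q_ext
  · exact k1 ν a.re a.im
  · exact k2 a.im

/-- `Q ν` is regular. -/
theorem reg_q : Reg (Q ν) := by
  intro a
  have h := pow_16 a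
  refine ⟨a ^ 15, a ^ 14, ?_, ?_, ?_⟩
  · calc a ^ 15 * a ^ 15 = a ^ 14 * a ^ 16 := by ring
      _ = a ^ 14 * a := by rw [h]
      _ = a ^ 15 := by ring
  · calc a ^ 15 * a = a ^ 16 := by ring
      _ = a := h
  · ring

/-- the automorphism `θ ↦ θ + 1`, identity on `𝔽₄` -/
def tau (ν : F4) : RingAut (Q ν) where
  toFun a := ⟨a.re + a.im, a.im⟩
  invFun a := ⟨a.re + a.im, a.im⟩
  left_inv a := by
    apply q_ext
    · change a.re + a.im + a.im = a.re
      have : ∀ u v : F4, u + v + v = u := by decide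
      exact this _ _
    · rfl
  right_inv a := by
    apply q_ext
    · change a.re + a.im + a.im = a.re
      have : ∀ u v : F4, u + v + v = u := by decide
      exact this _ _
    · rfl
  map_mul' a b := by
    obtain ⟨x, y⟩ := a
    obtain ⟨x', y'⟩ := b
    apply q_ext
    · rw [re_mul]
      change x * x' + ν * y * y' + (x * y' + y * x' + 1 * y * y') =
        (x + y) * (x' + y') + ν * y * y'
      ring
    · rw [im_mul]
      change x * y' + y * x' + 1 * y * y' = (x + y) * y' + y * (x' + y') + 1 * y * y'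
      have : ∀ u v w : F4, u + v + w = (u + w) + (v + w) + w := by decide
      rw [this]
      ring
  map_add' a b := by
    apply q_ext
    · change a.re + b.re + (a.im + b.im) = a.re + a.im + (b.re + b.im)
      ring
    · rfl

theorem tau_apply (a : Q ν) : tau ν a = ⟨a.re + a.im, a.im⟩ := rfl

theorem tau_th : tau ν (th ν) = th ν + 1 := by
  apply q_ext
  · change (0 : F4) + 1 = 0 + 1
    rfl
  · change (1 : F4) = 1 + 0
    rfl

theorem tau_con (x : F4) : tau ν (con x) = con x := by
  apply q_ext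
  · change x + 0 = x
    ring
  · rfl

/-! ## the split case -/

section Split

variable {c : F4}

/-- the idempotent `θ + c` -/
def idem (ν c : F4) : Q ν := ⟨c, 1⟩

theorem idem_mul (hc : c * c + c = ν) : idem ν c * idem ν c = idem ν c := by
  rw [sq_q]
  apply q_ext
  · change c * c + ν * (1 * 1) = c
    subst hc
    revert c
    decide
  · rfl

theorem eq_of_idem (hc : c * c + c = ν) {a : Q ν} (ha : a * a = a) :
    a = 0 ∨ a = 1 ∨ a = idem ν c ∨ a = idem ν c + 1 := by
  rw [sq_q] at ha
  obtain ⟨x, y⟩ := a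
  have h1 : x * x + ν * (y * y) = x := congrArg QuadraticAlgebra.re ha
  have h2 : y * y = y := congrArg QuadraticAlgebra.im ha
  have h3 : (x = 0 ∧ y = 0) ∨ (x = 1 ∧ y = 0) ∨ (x = c ∧ y = 1) ∨ (x = c + 1 ∧ y = 1) := by
    subst hc
    revert c x y
    decide
  rcases h3 with ⟨rfl, rfl⟩ | ⟨rfl, rfl⟩ | ⟨rfl, rfl⟩ | ⟨rfl, rfl⟩
  · exact Or.inl rfl
  · exact Or.inr (Or.inl rfl)
  · exact Or.inr (Or.inr (Or.inl rfl))
  · exact Or.inr (Or.inr (Or.inr rfl))

theorem idem_ne_zero : idem ν c ≠ 0 := by
  intro h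
  have : (1 : F4) = 0 := congrArg QuadraticAlgebra.im h
  exact absurd this (by decide)

theorem idem_ne_one : idem ν c ≠ 1 := by
  intro h
  have : (1 : F4) = 0 := congrArg QuadraticAlgebra.im h
  exact absurd this (by decide)

theorem map_idem (hc : c * c + c = ν) (σ : RingAut (Q ν)) :
    σ (idem ν c) = idem ν c ∨ σ (idem ν c) = idem ν c + 1 := by
  have h : σ (idem ν c) * σ (idem ν c) = σ (idem ν c) := by rw [← map_mul, idem_mul hc]
  rcases eq_of_idem hc h with h | h | h | h
  · exfalso
    apply idem_ne_zero (ν := ν) (c := c)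
    apply σ.injective
    rw [h, map_zero]
  · exfalso
    apply idem_ne_one (ν := ν) (c := c)
    apply σ.injective
    rw [h, map_one]
  · exact Or.inl h
  · exact Or.inr h

/-- the sign of the action on the two idempotents -/
def chiSplit (hc : c * c + c = ν) : RingAut (Q ν) →* Multiplicative (Q ν) where
  toFun σ := Multiplicative.ofAdd (σ (idem ν c) - idem ν c)
  map_one' := by
    change Multiplicative.ofAdd (idem ν c - idem ν c) = 1
    rw [sub_self]; rfl
  map_mul' σ τ := by
    change Multiplicative.ofAdd (σ (τ (idem ν c)) - idem ν c) =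
      Multiplicative.ofAdd ((σ (idem ν c) - idem ν c) + (τ (idem ν c) - idem ν c))
    congr 1
    rcases map_idem hc τ with h | h
    · rw [h, sub_self, add_zero]
    · rw [h, map_add, map_one]; ring

theorem exists_chi_split (hc : c * c + c = ν) :
    ∃ (A : Type) (_ : CommGroup A) (χ : RingAut (Q ν) →* A) (θ : Q ν), χ (tau ν) ≠ 1 ∧
      ∀ σ : RingAut (Q ν), σ * σ = 1 → χ σ ≠ 1 → σ θ = θ + 1 := by
  refine ⟨Multiplicative (Q ν), inferInstance, chiSplit hc, idem ν c, ?_, ?_⟩
  · intro h
    have h1 : tau ν (idem ν c) - idem ν c = 0 := congrArg Multiplicative.toAdd h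
    rw [sub_eq_zero, tau_apply] at h1
    have h2 : c + 1 = c := congrArg QuadraticAlgebra.re h1
    have key : ∀ c : F4, c + 1 = c → False := by decide
    exact key c h2
  · intro σ _ h
    rcases map_idem hc σ with h1 | h1
    · exfalso
      apply h
      change Multiplicative.ofAdd (σ (idem ν c) - idem ν c) = 1
      rw [h1, sub_self]; rfl
    · exact h1

end Split

/-! ## the field case -/

section Field

theorem th_sq : th ν * th ν = th ν + con ν := by
  rw [sq_q]
  apply q_ext
  · rw [re_add]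
    change (0 : F4) * 0 + ν * (1 * 1) = 0 + ν
    ring
  · rfl

theorem th_four (hν : ν * ν + ν = 1) : (th ν * th ν) * (th ν * th ν) = th ν + 1 := by
  rw [th_sq]
  have h : ν * ν = ν + 1 := by
    revert ν
    decide
  calc (th ν + con ν) * (th ν + con ν) = th ν * th ν + con ν * con ν + 2 * (th ν * con ν) := by ring
    _ = th ν + con ν + con (ν * ν) := by rw [th_sq, two_eq_zero, con_mul]; ring
    _ = th ν + (con ν + con ν) + 1 := by rw [h, con_add, con_one]; ring
    _ = th ν + 1 := by rw [CharTwo.add_self_eq_zero, add_zero]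

/-- roots of `X⁴ + X + 1` -/
theorem root (hν : ν * ν + ν = 1) {a : Q ν} (ha : (a * a) * (a * a) = a + 1) :
    ∃ m : F4, a = th ν + con m := by
  rw [sq_q a, sq_q] at ha
  obtain ⟨x, y⟩ := a
  have h1 := congrArg QuadraticAlgebra.re ha
  have h2 := congrArg QuadraticAlgebra.im ha
  rw [re_add] at h1
  rw [im_add] at h2
  change (x * x + ν * (y * y)) * (x * x + ν * (y * y)) + ν * (y * y * (y * y)) = x + 1 at h1
  change y * y * (y * y) = y + 0 at h2
  have h3 : y = 1 := by
    clear ha h2
    revert ν x y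
    decide
  subst h3
  refine ⟨x, ?_⟩
  apply q_ext
  · change x = 0 + x
    ring
  · rfl

theorem map_th (hν : ν * ν + ν = 1) (σ : RingAut (Q ν)) : ∃ m : F4, σ (th ν) = th ν + con m := by
  apply root hν
  rw [← map_mul, ← map_mul, th_four hν, map_add, map_one]

/-- the action on the constants -/
theorem map_con (hν : ν * ν + ν = 1) (σ : RingAut (Q ν)) {m : F4}
    (hm : σ (th ν) = th ν + con m) (x : F4) :
    σ (con x) = con (if m * m = m then x else x * x) := by
  have h1 : (con ν : Q ν) = th ν * th ν - th ν := by rw [th_sq]; ring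
  have h2 : σ (con ν) = con (ν + (m * m + m)) := by
    rw [h1, map_sub, map_mul, hm]
    calc (th ν + con m) * (th ν + con m) - (th ν + con m)
        = th ν * th ν - th ν + con m * con m + con m + 2 * (th ν * con m - con m) := by ring
      _ = con (ν + (m * m + m)) := by
        rw [← h1, two_eq_zero, con_add, con_add, con_mul]; ring
  have hx : ∀ ν x : F4, ν * ν + ν = 1 → x = 0 ∨ x = 1 ∨ x = ν ∨ x = ν + 1 := by decide
  have key3 : ∀ ν : F4, ν * ν + ν = 1 → ν * ν + 1 = (ν + 1) * (ν + 1) := by decide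
  have key : ∀ ν m : F4, ν * ν + ν = 1 →
      ν + (m * m + m) = (if m * m = m then ν else ν * ν) := by decide
  rcases hx ν x hν with rfl | rfl | rfl | rfl
  · rw [con_zero, map_zero]
    split_ifs
    · rfl
    · rfl
  · rw [con_one, map_one]
    split_ifs
    · rfl
    · rfl
  · rw [h2, key _ m hν]
  · rw [con_add, con_one, map_add, map_one, h2, ← con_one, ← con_add, key _ m hν]
    congr 1
    split_ifs
    · rfl
    · exact key3 ν hν

theorem ext_th (hν : ν * ν + ν = 1) {σ τ : RingAut (Q ν)} (h : σ (th ν) = τ (th ν)) : σ = τ := by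
  obtain ⟨m, hm⟩ := map_th hν σ
  have hm' : τ (th ν) = th ν + con m := by rw [← h, hm]
  apply RingEquiv.ext
  intro a
  rw [eq_con_add a, map_add, map_mul, map_add, map_mul, map_con hν σ hm, map_con hν σ hm,
    map_con hν τ hm', map_con hν τ hm', h]

theorem comm_aut (hν : ν * ν + ν = 1) (σ τ : RingAut (Q ν)) : σ * τ = τ * σ := by
  obtain ⟨m, hm⟩ := map_th hν σ
  obtain ⟨n, hn⟩ := map_th hν τ
  apply ext_th hν
  rw [RingAut.mul_apply, RingAut.mul_apply, hm, hn, map_add, map_add, hm, hn,
    map_con hν σ hm, map_con hν τ hn, add_assoc, add_assoc, ← con_add, ← con_add]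
  congr 2
  have key : ∀ m n : F4, (m + if m * m = m then n else n * n) =
      (n + if n * n = n then m else m * m) := by decide
  exact key m n

/-- the commutative group `RingAut (𝔽₁₆)` -/
abbrev commGroupAut (hν : ν * ν + ν = 1) : CommGroup (RingAut (Q ν)) :=
  { (inferInstance : Group (RingAut (Q ν))) with mul_comm := comm_aut hν }

theorem exists_chi_field (hν : ν * ν + ν = 1) :
    ∃ (A : Type) (_ : CommGroup A) (χ : RingAut (Q ν) →* A) (θ : Q ν), χ (tau ν) ≠ 1 ∧
      ∀ σ : RingAut (Q ν), σ * σ = 1 → χ σ ≠ 1 → σ θ = θ + 1 := by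
  refine ⟨RingAut (Q ν), commGroupAut hν, MonoidHom.id _, th ν, ?_, ?_⟩
  · intro h
    have h1 : tau ν (th ν) = th ν := by
      change tau ν = 1 at h
      rw [h]; rfl
    rw [tau_th] at h1
    exact one_ne_zero' (add_eq_left.1 h1)
  · intro σ h2 h1
    obtain ⟨m, hm⟩ := map_th hν σ
    have h3 : σ (σ (th ν)) = th ν := by
      rw [← RingAut.mul_apply, h2]; rfl
    rw [hm, map_add, hm, map_con hν σ hm, add_assoc, ← con_add] at h3
    have h4 : (con (m + if m * m = m then m else m * m) : Q ν) = con 0 := by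
      rw [con_zero]
      exact add_eq_left.1 h3
    have h5 := con_inj h4
    have key : ∀ m : F4, (m + if m * m = m then m else m * m) = 0 → m = 0 ∨ m = 1 := by decide
    rcases key m h5 with rfl | rfl
    · exfalso
      apply h1
      change σ = 1
      apply ext_th hν
      rw [hm, con_zero, add_zero]; rfl
    · rw [hm, con_one]

end Field

/-- **3c** -/
theorem exists_chi (ν : F4) :
    ∃ (A : Type) (_ : CommGroup A) (χ : RingAut (Q ν) →* A) (θ : Q ν), χ (tau ν) ≠ 1 ∧
      ∀ σ : RingAut (Q ν), σ * σ = 1 → χ σ ≠ 1 → σ θ = θ + 1 := by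
  have h : (∃ c : F4, c * c + c = ν) ∨ ν * ν + ν = 1 := by
    revert ν
    decide
  rcases h with ⟨c, hc⟩ | h
  · exact exists_chi_split hc
  · exact exists_chi_field h

end Cfsg.Agent.StdL3.HeisRing
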