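import Cfsg.Agent.StdL3.Heis

/-!
# `Heis B` for a finite commutative ring `B` of characteristic 2

Blueprint `S1748-outer.md`, section 3 (a), (d), (e).
-/

set_option autoImplicit false

namespace Cfsg.Agent.StdL3.HeisTwo

open Cfsg.Agent.StdL3.Heis

variable {B : Type*} [CommRing B]

/-! ## orders -/

/-- coordinates as an equivalence of sets -/
def coord (B : Type*) : Heis B ≃ (B × B) × B where
  toFun u := ((u.a, u.b), u.c)
  invFun p := ⟨p.1.1, p.1.2, p.2⟩
  left_inv _ := rfl
  right_inv _ := rfl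

instance instFinite (B : Type*) [Finite B] : Finite (Heis B) := Finite.of_equiv _ (coord B).symm

theorem card_heis (B : Type*) : Nat.card (Heis B) = Nat.card B ^ 3 := by
  rw [Nat.card_congr (coord B), Nat.card_prod, Nat.card_prod]; ring

/-- `J ≃ B` -/
def jEquiv (B : Type*) [CommRing B] : J B ≃ B where
  toFun u := u.1.c
  invFun c := ⟨z c, z_mem_J c⟩
  left_inv u := by
    apply Subtype.ext
    obtain ⟨h1, h2⟩ := u.2
    ext
    · exact h1.symm
    · exact h2.symm
    · rfl
  right_inv _ := rfl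

theorem card_J (B : Type*) [CommRing B] : Nat.card (J B) = Nat.card B := Nat.card_congr (jEquiv B)

/-! ## squares -/

theorem sq_eq [CharP B 2] (u : Heis B) : u * u = z (u.a * u.b) := by
  ext
  · simp [CharTwo.add_self_eq_zero]
  · simp [CharTwo.add_self_eq_zero]
  · simp [CharTwo.add_self_eq_zero]

theorem sq_eq_one_iff [CharP B 2] (u : Heis B) : u * u = 1 ↔ u.a * u.b = 0 := by
  rw [sq_eq]
  constructor
  · intro h
    exact z_inj (h.trans z_zero.symm)
  · intro h
    rw [h]; rfl

theorem sq_mem_J [CharP B 2] (u : Heis B) : u * u ∈ J B := by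
  rw [sq_eq]; exact z_mem_J _

theorem z_sq [CharP B 2] (c : B) : z c * z c = 1 := by
  rw [z_mul, CharTwo.add_self_eq_zero]; rfl

/-! ## 3a : centralisers of unimodular involutions -/

/-- `u` is unimodular: `aB + bB = B`, equivalently `[u, Heis B] = J`. -/
def Uni (u : Heis B) : Prop := ∃ r s : B, r * u.a + s * u.b = 1

theorem Uni.map {u : Heis B} (hu : Uni u) (α : MulAut (Heis B)) : Uni (α u) :=
  exists_unimodular α u hu

/-- all of `J` consists of commutators with `u`. -/
theorem Uni.comm {u : Heis B} (hu : Uni u) (c : B) : ∃ v : Heis B, u * v * u⁻¹ * v⁻¹ = z c := by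
  obtain ⟨r, s, hrs⟩ := hu
  refine ⟨⟨-(c * s), c * r, 0⟩, ?_⟩
  rw [comm_eq]
  ext
  · rfl
  · rfl
  · simp only [z_c]; linear_combination c * hrs

theorem Uni.exists_smul {u v : Heis B} (hu : Uni u) (h : u * v = v * u) :
    ∃ l : B, v.a = l * u.a ∧ v.b = l * u.b := by
  obtain ⟨r, s, hrs⟩ := hu
  exact ⟨_, eq_smul_of_commute hrs h⟩

theorem Uni.sq_of_comm [CharP B 2] {u v : Heis B} (hu : Uni u) (h2 : u * u = 1)
    (h : u * v = v * u) : v * v = 1 := by
  obtain ⟨l, h3, h4⟩ := hu.exists_smul h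
  rw [sq_eq_one_iff] at h2 ⊢
  rw [h3, h4]
  linear_combination l * l * h2

theorem Uni.comm_of_comm {u v w : Heis B} (hu : Uni u)
    (hv : u * v = v * u) (hw : u * w = w * u) : v * w = w * v := by
  obtain ⟨l, h3, h4⟩ := hu.exists_smul hv
  obtain ⟨m, h5, h6⟩ := hu.exists_smul hw
  rw [commute_iff, h3, h4, h5, h6]
  ring

theorem Uni.card_centralizer {u : Heis B} (hu : Uni u) :
    Nat.card (Subgroup.centralizer ({u} : Set (Heis B))) = Nat.card B ^ 2 := by
  obtain ⟨r, s, hrs⟩ := hu
  have e : (Subgroup.centralizer ({u} : Set (Heis B))) ≃ B × B :=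
    { toFun := fun v => (r * v.1.a + s * v.1.b, v.1.c)
      invFun := fun p => ⟨⟨p.1 * u.a, p.1 * u.b, p.2⟩, by
        rw [Subgroup.mem_centralizer_singleton_iff, commute_iff]; simp; ring⟩
      left_inv := by
        rintro ⟨v, hv⟩
        rw [Subgroup.mem_centralizer_singleton_iff] at hv
        obtain ⟨h3, h4⟩ := eq_smul_of_commute hrs hv.symm
        apply Subtype.ext
        ext
        · exact h3.symm
        · exact h4.symm
        · rfl
      right_inv := by
        rintro ⟨l, c⟩
        simp only [Prod.mk.injEq, and_true]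
        linear_combination l * hrs }
  rw [Nat.card_congr e, Nat.card_prod, sq]

/-! ## 3d : an automorphism `α` of order 2 with `σ_α θ = θ + 1` -/

section Three

/-- fixed points of `α` on `J = B` -/
def fixJ (α : MulAut (Heis B)) : AddSubgroup B where
  carrier := {c | gam α c = c}
  add_mem' := by
    intro c c' h h'
    change gam α (c + c') = c + c'
    rw [gam_add, h, h']
  zero_mem' := gam_zero α
  neg_mem' := by
    intro c h
    change gam α (-c) = -c
    rw [gam_neg, h]

theorem mem_fixJ {α : MulAut (Heis B)} {c : B} : c ∈ fixJ α ↔ gam α c = c := Iff.rfl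

theorem mem_fixJ_iff {α : MulAut (Heis B)} {c : B} : c ∈ fixJ α ↔ α (z c) = z c := by
  rw [mem_fixJ, map_z]
  exact ⟨fun h => by rw [h], fun h => z_inj h⟩

variable {α : MulAut (Heis B)} {θ : B}

theorem eq_zero_of_fix (hθ : sig α θ = θ + 1) {x : B} (hx : x ∈ fixJ α) (hx' : θ * x ∈ fixJ α) :
    x = 0 := by
  rw [mem_fixJ] at hx hx'
  rw [gam_sig, hθ, hx] at hx'
  linear_combination hx'

theorem fix_inj (hθ : sig α θ = θ + 1) :
    Function.Injective (fun p : fixJ α × fixJ α => (p.1 : B) + θ * p.2) := by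
  rintro ⟨x, y⟩ ⟨x', y'⟩ h
  simp only at h
  have h1 : θ * ((y : B) - y') = x' - x := by linear_combination h
  have h2 : ((y : B) - y') = 0 := by
    apply eq_zero_of_fix hθ ((fixJ α).sub_mem y.2 y'.2)
    rw [h1]
    exact (fixJ α).sub_mem x'.2 x.2
  have h3 : (x' : B) - x = 0 := by rw [← h1, h2, mul_zero]
  rw [Prod.mk.injEq]
  exact ⟨Subtype.ext (sub_eq_zero.1 h3).symm, Subtype.ext (sub_eq_zero.1 h2)⟩

variable [Finite B]

theorem card_fix_sq_le (hθ : sig α θ = θ + 1) : Nat.card (fixJ α) ^ 2 ≤ Nat.card B := by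
  have := Nat.card_le_card_of_injective _ (fix_inj hθ)
  rwa [Nat.card_prod, ← sq] at this

theorem card_le_fix_sq [CharP B 2] (hα : α * α = 1) : Nat.card B ≤ Nat.card (fixJ α) ^ 2 := by
  -- the map c ↦ c + γ c
  let f : B →+ B :=
    { toFun := fun c => c + gam α c
      map_zero' := by rw [gam_zero, add_zero]
      map_add' := fun c c' => by rw [gam_add]; ring }
  have hker : f.ker ≤ fixJ α := by
    intro c hc
    rw [AddMonoidHom.mem_ker] at hc
    rw [mem_fixJ]
    have : c + gam α c = 0 := hc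
    exact (CharTwo.add_eq_zero.1 this).symm
  have hran : f.range ≤ fixJ α := by
    rintro _ ⟨c, rfl⟩
    rw [mem_fixJ]
    change gam α (c + gam α c) = c + gam α c
    rw [gam_add, ← gam_mul_apply, hα, gam_one, add_comm]
  have h1 : Nat.card B = Nat.card f.range * Nat.card f.ker := by
    have h2 := AddSubgroup.card_mul_index f.ker
    rw [AddSubgroup.index_ker] at h2
    rw [← h2, mul_comm]
  rw [h1, sq]
  exact Nat.mul_le_mul (Nat.card_le_card_of_injective _ (AddSubgroup.inclusion_injective hran))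
    (Nat.card_le_card_of_injective _ (AddSubgroup.inclusion_injective hker))

theorem card_fix_sq [CharP B 2] (hα : α * α = 1) (hθ : sig α θ = θ + 1) :
    Nat.card (fixJ α) ^ 2 = Nat.card B :=
  le_antisymm (card_fix_sq_le hθ) (card_le_fix_sq hα)

theorem card_fix_eq_four [CharP B 2] (h16 : Nat.card B = 16) (hα : α * α = 1)
    (hθ : sig α θ = θ + 1) : Nat.card (fixJ α) = 4 := by
  have h := card_fix_sq hα hθ
  rw [h16] at h
  nlinarith [h, sq_nonneg ((Nat.card (fixJ α) : ℤ) - 4)]

/-- `J = Fix + θ Fix` -/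
theorem exists_fix_add [CharP B 2] (hα : α * α = 1) (hθ : sig α θ = θ + 1) (c : B) :
    ∃ x ∈ fixJ α, ∃ y ∈ fixJ α, c = x + θ * y := by
  have hsurj : Function.Surjective (fun p : fixJ α × fixJ α => (p.1 : B) + θ * p.2) := by
    have hb := (Nat.bijective_iff_injective_and_card
      (fun p : fixJ α × fixJ α => (p.1 : B) + θ * p.2)).2
      ⟨fix_inj hθ, by rw [Nat.card_prod, ← sq]; exact card_fix_sq hα hθ⟩
    exact hb.2
  obtain ⟨⟨x, y⟩, h⟩ := hsurj c
  exact ⟨x, x.2, y, y.2, h.symm⟩

/-- If all fixed points of `α` on `J` are commutators with `u`, then `u` is unimodular. -/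
theorem uni_of_fix [CharP B 2] (hα : α * α = 1) (hθ : sig α θ = θ + 1) {u : Heis B}
    (hu : ∀ c, α (z c) = z c → ∃ v : Heis B, u * v * u⁻¹ * v⁻¹ = z c) : Uni u := by
  obtain ⟨x, hx, y, hy, h⟩ := exists_fix_add hα hθ 1
  obtain ⟨v, hv⟩ := hu x (mem_fixJ_iff.1 hx)
  obtain ⟨w, hw⟩ := hu y (mem_fixJ_iff.1 hy)
  rw [comm_eq] at hv hw
  have hv' := congrArg Heis.c hv
  have hw' := congrArg Heis.c hw
  simp only [z_c] at hv' hw'
  exact ⟨v.b + θ * w.b, -(v.a) - θ * w.a, by rw [h]; linear_combination hv' + θ * hw'⟩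

/-! ### the order of `C(α)` -/

/-- fixed points of `α` -/
def fixAll (α : MulAut (Heis B)) : Subgroup (Heis B) where
  carrier := {u | α u = u}
  mul_mem' := by
    intro u v hu hv
    change α (u * v) = u * v
    rw [map_mul, hu, hv]
  one_mem' := map_one α
  inv_mem' := by
    intro u hu
    change α u⁻¹ = u⁻¹
    rw [map_inv, hu]

omit [Finite B] in
theorem mem_fixAll {u : Heis B} : u ∈ fixAll α ↔ α u = u := Iff.rfl

/-- the map `u ↦ α(u) u⁻¹` modulo `J` -/
def delta (α : MulAut (Heis B)) : Heis B →* Multiplicative (B × B) where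
  toFun u := Multiplicative.ofAdd ((α u).a - u.a, (α u).b - u.b)
  map_one' := by simp
  map_mul' u v := by
    apply Multiplicative.toAdd.injective
    ext
    · simp; ring
    · simp; ring

/-- the projection `Heis B → B × B` -/
def proj (B : Type*) [CommRing B] : Heis B →* Multiplicative (B × B) where
  toFun u := Multiplicative.ofAdd (u.a, u.b)
  map_one' := rfl
  map_mul' _ _ := rfl

omit [Finite B] in
theorem ker_proj : (proj B).ker = J B := by
  ext u
  rw [MonoidHom.mem_ker, mem_J]
  change Multiplicative.ofAdd (u.a, u.b) = 1 ↔ _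
  rw [ofAdd_eq_one, Prod.mk_eq_zero]

omit [Finite B] in
theorem J_le_ker : J B ≤ (delta α).ker := by
  intro u hu
  rw [MonoidHom.mem_ker]
  obtain ⟨h1, h2⟩ := hu
  obtain ⟨h3, h4⟩ := map_J α (show u ∈ J B from ⟨h1, h2⟩)
  change Multiplicative.ofAdd ((α u).a - u.a, (α u).b - u.b) = 1
  rw [h1, h2, h3, h4]; simp

omit [Finite B] in
theorem mem_ker_delta {u : Heis B} : u ∈ (delta α).ker ↔ (α u).a = u.a ∧ (α u).b = u.b := by
  rw [MonoidHom.mem_ker]
  change Multiplicative.ofAdd ((α u).a - u.a, (α u).b - u.b) = 1 ↔ _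
  rw [ofAdd_eq_one, Prod.mk_eq_zero, sub_eq_zero, sub_eq_zero]

theorem card_range_le [CharP B 2] (hα : α * α = 1) :
    Nat.card (delta α).range * Nat.card B ≤ Nat.card (delta α).ker := by
  have h1 : Nat.card ((proj B).comp (delta α).ker.subtype).range * Nat.card (J B) =
      Nat.card (delta α).ker := by
    have h2 := Subgroup.card_mul_index ((proj B).comp (delta α).ker.subtype).ker
    rw [Subgroup.index_ker] at h2
    rw [← h2, mul_comm]
    congr 1
    refine Nat.card_congr (Equiv.ofBijective (fun x : J B => ⟨⟨x.1, J_le_ker x.2⟩, ?_⟩) ?_)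
    · rw [MonoidHom.mem_ker]
      change (proj B) x.1 = 1
      rw [← MonoidHom.mem_ker, ker_proj]; exact x.2
    · constructor
      · intro x y h
        apply Subtype.ext
        exact congrArg (fun w => w.1.1) h
      · rintro ⟨⟨x, hx⟩, hx'⟩
        rw [MonoidHom.mem_ker] at hx'
        change (proj B) x = 1 at hx'
        rw [← MonoidHom.mem_ker, ker_proj] at hx'
        exact ⟨⟨x, hx'⟩, rfl⟩
  rw [← h1, card_J]
  apply Nat.mul_le_mul_right
  apply Nat.card_le_card_of_injective _ (Subgroup.inclusion_injective _)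
  rintro _ ⟨u, rfl⟩
  have hαα : ∀ w, α (α w) = w := by
    intro w
    rw [← MulAut.mul_apply, hα]; rfl
  refine ⟨⟨α u * u⁻¹, ?_⟩, ?_⟩
  · rw [mem_ker_delta, map_mul, map_inv, hαα]
    constructor
    · simp; rw [← sub_eq_add_neg, CharTwo.sub_eq_add, add_comm, ← sub_eq_add_neg, CharTwo.sub_eq_add]
    · simp; rw [← sub_eq_add_neg, CharTwo.sub_eq_add, add_comm, ← sub_eq_add_neg, CharTwo.sub_eq_add]
  · change Multiplicative.ofAdd (((α u * u⁻¹).a, (α u * u⁻¹).b)) = _
    change _ = Multiplicative.ofAdd ((α u).a - u.a, (α u).b - u.b)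
    simp [sub_eq_add_neg]

theorem card_ker_ge [CharP B 2] (hα : α * α = 1) :
    Nat.card B ^ 2 ≤ Nat.card (delta α).ker := by
  have h1 := card_range_le hα
  have h2 : Nat.card (delta α).ker * Nat.card (delta α).range = Nat.card B ^ 3 := by
    have := Subgroup.card_mul_index (delta α).ker
    rw [Subgroup.index_ker] at this
    rw [this, card_heis]
  have h0 : 0 < Nat.card B := Nat.card_pos
  have h3 : 0 < Nat.card (delta α).ker := Nat.card_pos
  by_contra hcon
  push Not at hcon
  have h4 : Nat.card (delta α).ker * (Nat.card (delta α).range * Nat.card B) ≤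
      Nat.card (delta α).ker * Nat.card (delta α).ker := Nat.mul_le_mul_left _ h1
  rw [← mul_assoc, h2] at h4
  have h5 : Nat.card (delta α).ker * Nat.card (delta α).ker < Nat.card B ^ 2 * Nat.card B ^ 2 :=
    Nat.mul_lt_mul'' hcon hcon
  have h6 : Nat.card B ^ 3 * Nat.card B = Nat.card B ^ 2 * Nat.card B ^ 2 := by ring
  omega

/-- the map `u ↦ α(u) u⁻¹` from `W = {u | α(u) u⁻¹ ∈ J}` to `Fix` -/
theorem card_ker_le [CharP B 2] (hα : α * α = 1) :
    Nat.card (delta α).ker ≤ Nat.card (fixAll α) * Nat.card (fixJ α) := by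
  have hαα : ∀ w, α (α w) = w := by
    intro w
    rw [← MulAut.mul_apply, hα]; rfl
  have hz : ∀ u ∈ (delta α).ker, α u = z ((α u).c - u.c) * u := by
    intro u hu
    obtain ⟨h1, h2⟩ := mem_ker_delta.1 hu
    ext
    · simp [h1]
    · simp [h2]
    · simp
  let f : (delta α).ker →* Multiplicative (fixJ α) :=
    { toFun := fun u => Multiplicative.ofAdd ⟨(α u.1).c - u.1.c, by
        rw [mem_fixJ_iff]
        have h1 := hz u.1 u.2
        have h2 := congrArg α h1
        rw [hαα, map_mul] at h2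
        have h3 : α (z ((α u.1).c - u.1.c)) * (z ((α u.1).c - u.1.c) * u.1) = u.1 := by
          rw [← h1]; exact h2.symm
        rw [← mul_assoc, mul_eq_right] at h3
        rw [eq_inv_of_mul_eq_one_left h3, inv_eq_of_mul_eq_one_left (z_sq _)]⟩
      map_one' := by
        apply Multiplicative.toAdd.injective
        apply Subtype.ext
        simp
      map_mul' := by
        intro u v
        apply Multiplicative.toAdd.injective
        apply Subtype.ext
        obtain ⟨h1, h2⟩ := mem_ker_delta.1 u.2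
        obtain ⟨h3, h4⟩ := mem_ker_delta.1 v.2
        simp [h1, h4]
        ring }
  have h1 := Subgroup.card_mul_index f.ker
  rw [Subgroup.index_ker] at h1
  rw [← h1]
  apply Nat.mul_le_mul
  · refine Nat.card_le_card_of_injective (fun x : f.ker => (⟨x.1.1, ?_⟩ : fixAll α)) ?_
    · have hx := x.2
      rw [MonoidHom.mem_ker] at hx
      have hx2 : (α x.1.1).c - x.1.1.c = 0 := congrArg Subtype.val (ofAdd_eq_one.1 hx)
      rw [mem_fixAll, hz _ x.1.2, hx2, z_zero, one_mul]
    · intro x y h
      apply Subtype.ext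
      apply Subtype.ext
      exact congrArg (fun w : fixAll α => w.1) h
  · have : Nat.card (Multiplicative (fixJ α)) = Nat.card (fixJ α) := rfl
    rw [← this]
    exact Nat.card_le_card_of_injective _ (Subtype.val_injective)

/-- **3d** `|C_{Heis B}(α)| ≥ 64`. -/
theorem card_fixAll_ge [CharP B 2] (h16 : Nat.card B = 16) (hα : α * α = 1)
    (hθ : sig α θ = θ + 1) : 64 ≤ Nat.card (fixAll α) := by
  have h1 := card_ker_ge hα
  have h2 := card_ker_le hα
  rw [card_fix_eq_four h16 hα hθ] at h2
  rw [h16] at h1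
  omega

end Three

/-! ## 3e : every involution lies in an elementary abelian subgroup of order `|B|²` -/

/-- `B` is (von Neumann) regular. -/
def Reg (B : Type*) [CommRing B] : Prop := ∀ a : B, ∃ e r : B, e * e = e ∧ e * a = a ∧ e = r * a

theorem exists_elementary [Finite B] [CharP B 2] (hB : Reg B) {u : Heis B} (hu : u * u = 1) :
    ∃ E : Subgroup (Heis B), u ∈ E ∧ (∀ v ∈ E, v * v = 1) ∧ (∀ v ∈ E, ∀ w ∈ E, v * w = w * v) ∧
      Nat.card E = Nat.card B ^ 2 := by
  rw [sq_eq_one_iff] at hu
  obtain ⟨e, r, he, hea, hr⟩ := hB u.a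
  have heb : e * u.b = 0 := by rw [hr]; linear_combination r * hu
  let E : Subgroup (Heis B) :=
    { carrier := {v | e * v.a = v.a ∧ e * v.b = 0}
      mul_mem' := by
        rintro v w ⟨h1, h2⟩ ⟨h3, h4⟩
        exact ⟨by simp [mul_add, h1, h3], by simp [mul_add, h2, h4]⟩
      one_mem' := ⟨by simp, by simp⟩
      inv_mem' := by
        rintro v ⟨h1, h2⟩
        exact ⟨by simp [h1], by simp [h2]⟩ }
  have hE : ∀ v, v ∈ E ↔ e * v.a = v.a ∧ e * v.b = 0 := fun v => Iff.rfl
  refine ⟨E, (hE u).2 ⟨hea, heb⟩, ?_, ?_, ?_⟩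
  · intro v hv
    obtain ⟨h1, h2⟩ := (hE v).1 hv
    rw [sq_eq_one_iff]
    linear_combination v.a * h2 - v.b * h1
  · intro v hv w hw
    obtain ⟨h1, h2⟩ := (hE v).1 hv
    obtain ⟨h3, h4⟩ := (hE w).1 hw
    rw [commute_iff]
    linear_combination v.a * h4 - w.b * h1 + v.b * h3 - w.a * h2
  · have e1 : E ≃ B × B :=
      { toFun := fun v => (v.1.a + v.1.b, v.1.c)
        invFun := fun p => ⟨⟨e * p.1, (1 - e) * p.1, p.2⟩, by
          rw [hE]
          constructor
          · linear_combination p.1 * he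
          · linear_combination (-p.1) * he⟩
        left_inv := by
          rintro ⟨v, hv⟩
          obtain ⟨h1, h2⟩ := (hE v).1 hv
          apply Subtype.ext
          ext
          · linear_combination h1 + h2
          · linear_combination -h1 - h2
          · rfl
        right_inv := by
          rintro ⟨l, c⟩
          simp only [Prod.mk.injEq, and_true]
          ring }
    rw [Nat.card_congr e1, Nat.card_prod, sq]

end Cfsg.Agent.StdL3.HeisTwo
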