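import Mathlib

set_option autoImplicit false

/-!
# Lifting 2-subgroups over a central subgroup of odd order
-/

namespace Cfsg.Agent.StdL3.OneCentral

variable {C : Type*} [Group C] {N : Subgroup C}

theorem eq_one_of_pow {H : Subgroup C} (hodd : Odd (Nat.card H)) {x : C} (hx : x ∈ H) {k : ℕ}
    (h : x ^ (2 ^ k) = 1) : x = 1 := by
  have h1 : orderOf x ∣ 2 ^ k := orderOf_dvd_of_pow_eq_one h
  have h2 : orderOf x ∣ Nat.card H := by
    have := orderOf_dvd_natCard (⟨x, hx⟩ : H)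
    rwa [Subgroup.orderOf_mk] at this
  have hc : Nat.Coprime (2 ^ k) (Nat.card H) := (Nat.coprime_two_left.mpr hodd).pow_left k
  have h3 : orderOf x ∣ 1 := by
    have := Nat.dvd_gcd h1 h2
    rwa [hc.gcd_eq_one] at this
  exact orderOf_eq_one_iff.mp (Nat.dvd_one.mp h3)

/-- A 2-subgroup of `C ⧸ N`, `N` central of odd order, lifts to the set of 2-elements above it. -/
theorem exists_lift [Finite C] [N.Normal] (hN : N ≤ Subgroup.center C) (hodd : Odd (Nat.card N))
    (U : Subgroup (C ⧸ N)) (k : ℕ) (hU : Nat.card U = 2 ^ k) :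
    ∃ S : Subgroup C, Nat.card S = 2 ^ k ∧
      (∀ g, g ∈ S ↔ (QuotientGroup.mk g : C ⧸ N) ∈ U ∧ g ^ (2 ^ k) = 1) ∧
      (∀ u ∈ U, ∃ s ∈ S, (QuotientGroup.mk s : C ⧸ N) = u) ∧ (∀ s ∈ S, s ∈ N → s = 1) := by
  classical
  set P : Subgroup C := U.comap (QuotientGroup.mk' N) with hP
  have hcard : Nat.card P = Nat.card N * Nat.card U := by
    have h1 : P.index = U.index :=
      Subgroup.index_comap_of_surjective U (QuotientGroup.mk'_surjective N)
    have h2 := Subgroup.card_mul_index P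
    have h3 := Subgroup.card_mul_index U
    have h4 := Subgroup.card_eq_card_quotient_mul_card_subgroup N
    rw [h1] at h2
    have h5 : 0 < U.index := Nat.pos_of_ne_zero Subgroup.FiniteIndex.index_ne_zero
    apply Nat.eq_of_mul_eq_mul_right h5
    rw [h2, h4, ← h3]; ring
  obtain ⟨K, hK⟩ := Sylow.exists_subgroup_card_pow_prime (G := P) 2 (n := k) (by
    rw [hcard, hU]; exact Dvd.intro_left _ rfl)
  set S : Subgroup C := K.map P.subtype with hS
  have hScard : Nat.card S = 2 ^ k := by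
    rw [hS, ← hK]
    exact (Nat.card_congr (Subgroup.equivMapOfInjective K P.subtype P.subtype_injective).toEquiv).symm
  have hSP : ∀ s ∈ S, (QuotientGroup.mk s : C ⧸ N) ∈ U := by
    rintro _ ⟨s, -, rfl⟩
    exact s.2
  have hSpow : ∀ s ∈ S, s ^ (2 ^ k) = 1 := by
    intro s hs
    have := pow_card_eq_one' (x := (⟨s, hs⟩ : S))
    rw [hScard] at this
    exact congrArg Subtype.val this
  have hSN : ∀ s ∈ S, s ∈ N → s = 1 := fun s hs hsN => eq_one_of_pow hodd hsN (hSpow s hs)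
  have hsurj : ∀ u ∈ U, ∃ s ∈ S, (QuotientGroup.mk s : C ⧸ N) = u := by
    have hinj : Function.Injective (fun s : S => (⟨(QuotientGroup.mk (s : C) : C ⧸ N),
        hSP s s.2⟩ : U)) := by
      intro s s' e
      have e1 : (QuotientGroup.mk (s : C) : C ⧸ N) = QuotientGroup.mk (s' : C) :=
        congrArg Subtype.val e
      have e2 : (s : C)⁻¹ * s' ∈ N := QuotientGroup.eq.mp e1
      have e3 := hSN _ (S.mul_mem (S.inv_mem s.2) s'.2) e2
      exact Subtype.ext (inv_mul_eq_one.mp e3)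
    have hbij : Function.Bijective (fun s : S => (⟨(QuotientGroup.mk (s : C) : C ⧸ N),
        hSP s s.2⟩ : U)) := by
      rw [Nat.bijective_iff_injective_and_card]
      exact ⟨hinj, by rw [hScard, hU]⟩
    intro u hu
    obtain ⟨s, hs⟩ := hbij.2 ⟨u, hu⟩
    exact ⟨s, s.2, congrArg Subtype.val hs⟩
  refine ⟨S, hScard, fun g => ⟨fun hg => ⟨hSP g hg, hSpow g hg⟩, ?_⟩, hsurj, hSN⟩
  rintro ⟨h1, h2⟩
  obtain ⟨s, hs, e⟩ := hsurj _ h1
  have e1 : s⁻¹ * g ∈ N := QuotientGroup.eq.mp e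
  have hcen := Subgroup.mem_center_iff.mp (hN e1)
  have e2 : (s⁻¹ * g) ^ (2 ^ k) = 1 := by
    have hcomm : Commute s (s⁻¹ * g) := hcen s
    have h3 : (s * (s⁻¹ * g)) ^ (2 ^ k) = s ^ (2 ^ k) * (s⁻¹ * g) ^ (2 ^ k) := hcomm.mul_pow _
    rw [hSpow s hs, one_mul] at h3
    rw [← h3, mul_inv_cancel_left]; exact h2
  have e3 := eq_one_of_pow hodd e1 e2
  rw [← inv_mul_eq_one.mp e3]
  exact hs

/-- a 2-element commuting modulo `N` commutes. -/
theorem commute_of_quot [N.Normal] (hN : N ≤ Subgroup.center C) (hodd : Odd (Nat.card N)) {x g : C}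
    {k : ℕ} (hg : g ^ (2 ^ k) = 1)
    (h : (QuotientGroup.mk x : C ⧸ N) * QuotientGroup.mk g = QuotientGroup.mk g * QuotientGroup.mk x) :
    x * g = g * x := by
  have h1 : (g * x)⁻¹ * (x * g) ∈ N := by
    rw [← QuotientGroup.eq, QuotientGroup.mk_mul, QuotientGroup.mk_mul]; exact h.symm
  set m := (g * x)⁻¹ * (x * g) with hm
  have hcen := Subgroup.mem_center_iff.mp (hN h1)
  have h2 : x * g = g * x * m := by rw [hm]; group
  have h3' : x * g * x⁻¹ = g * m := by
    rw [h2]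
    calc g * x * m * x⁻¹ = g * (x * m) * x⁻¹ := by group
      _ = g * (m * x) * x⁻¹ := by rw [hcen x]
      _ = g * m := by group
  have h4 : (x * g * x⁻¹) ^ (2 ^ k) = 1 := by
    rw [conj_pow, hg]; group
  have h5 : m ^ (2 ^ k) = 1 := by
    rw [h3'] at h4
    have hcomm : Commute g m := hcen g
    rw [hcomm.mul_pow, hg, one_mul] at h4
    exact h4
  have h6 := eq_one_of_pow hodd h1 h5
  rw [h2, h6, mul_one]

end Cfsg.Agent.StdL3.OneCentral
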