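import Mathlib

set_option autoImplicit false

/-!
# Growth of `<t> × L₃(4)`, pair lemma

`E = A B` an elementary abelian subgroup (`A`, `B` two root subgroups), `S` a root subgroup centralising `A`,
with `[B, S] = A`, `Ya`, `Yb` abelian groups centralising `E` with `[Ya, t] = A`, `[Yb, t] = B`.
-/

namespace Cfsg.Agent.StdL3.OnePair

variable {X : Type*} [Group X]

/-- Half of the hypotheses of the pair lemma. -/
structure Half (t : X) (E A B S Ya Yb : Subgroup X) : Prop where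
  tt : t * t = 1
  /-- `E` elementary abelian -/
  Ecomm : ∀ e ∈ E, ∀ f ∈ E, e * f = f * e
  Esq : ∀ e ∈ E, e * e = 1
  AE : A ≤ E
  BE : B ≤ E
  Eprod : ∀ e ∈ E, ∃ a ∈ A, ∃ b ∈ B, e = a * b
  disj : ∀ x ∈ A, x ∈ B → x = 1
  tE : ∀ e ∈ E, t * e = e * t
  tS : ∀ s ∈ S, t * s = s * t
  AS : ∀ a ∈ A, ∀ s ∈ S, a * s = s * a
  /-- `[B, s] ≤ A` -/
  BS : ∀ b ∈ B, ∀ s ∈ S, ∃ a ∈ A, s⁻¹ * b * s = b * a
  /-- `[b, S] = A` for `b ≠ 1` -/
  BSsurj : ∀ b ∈ B, b ≠ 1 → ∀ a ∈ A, ∃ s ∈ S, s⁻¹ * b * s = b * a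
  /-- `C_B(s) = 1` for `s ≠ 1` -/
  BSinj : ∀ b ∈ B, ∀ s ∈ S, s ≠ 1 → s⁻¹ * b * s = b → b = 1
  Ssq : ∀ s ∈ S, s * s = 1
  /-- `A` has at least three elements -/
  Abig : ∀ v ∈ A, ∃ a ∈ A, a ≠ 1 ∧ a ≠ v
  /-- `S` has at least three elements -/
  Sbig : ∃ s ∈ S, ∃ s' ∈ S, s ≠ 1 ∧ s' ≠ 1 ∧ s * s' ≠ 1
  /-- `C(t) ∩ C(E) = <t> E` -/
  cent : ∀ x : X, x * t = t * x → (∀ e ∈ E, x * e = e * x) → x ∈ E ∨ x * t ∈ E
  YaE : ∀ y ∈ Ya, ∀ e ∈ E, y * e = e * y
  YaS : ∀ y ∈ Ya, ∀ s ∈ S, y * s = s * y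
  Yat : ∀ y ∈ Ya, ∃ a ∈ A, t * y = y * (t * a)
  Yasurj : ∀ a ∈ A, ∃ y ∈ Ya, t * y = y * (t * a)
  YbE : ∀ y ∈ Yb, ∀ e ∈ E, y * e = e * y
  Ybt : ∀ y ∈ Yb, ∃ b ∈ B, t * y = y * (t * b)
  Yacomm : ∀ y ∈ Ya, ∀ z ∈ Ya, y * z = z * y
  AYa : A ≤ Ya
  /-- `C_{Ya}(t) ≤ A` -/
  Yafix : ∀ y ∈ Ya, t * y = y * t → y ∈ A

namespace Half

variable {t : X} {E A B S Ya Yb : Subgroup X}

theorem AB (h : Half t E A B S Ya Yb) {a b : X} (ha : a ∈ A) (hb : b ∈ B) : a * b = b * a :=
  h.Ecomm a (h.AE ha) b (h.BE hb)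

theorem inv_eq (h : Half t E A B S Ya Yb) {e : X} (he : e ∈ E) : e⁻¹ = e :=
  inv_eq_of_mul_eq_one_right (h.Esq e he)

theorem t_inv (h : Half t E A B S Ya Yb) : t⁻¹ = t :=
  inv_eq_of_mul_eq_one_right h.tt

/-- The subgroup of `C_X(E)` of elements moving `t` inside `t E`. -/
def Q (h : Half t E A B S Ya Yb) : Subgroup X where
  carrier := {x | (∀ e ∈ E, x * e = e * x) ∧ ∃ e ∈ E, t * x = x * (t * e)}
  one_mem' := by
    refine ⟨fun e _ => by simp, 1, E.one_mem, by simp⟩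
  mul_mem' := by
    rintro x y ⟨hx, e, he, hxe⟩ ⟨hy, f, hf, hyf⟩
    refine ⟨fun g hg => ?_, e * f, E.mul_mem he hf, ?_⟩
    · rw [mul_assoc, hy g hg, ← mul_assoc, hx g hg, mul_assoc]
    · calc t * (x * y) = (t * x) * y := by group
        _ = x * (t * (e * y)) := by rw [hxe]; group
        _ = x * (t * (y * e)) := by rw [hy e he]
        _ = x * ((t * y) * e) := by group
        _ = x * (y * (t * f) * e) := by rw [hyf]
        _ = x * y * (t * (f * e)) := by group
        _ = x * y * (t * (e * f)) := by rw [h.Ecomm f hf e he]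
  inv_mem' := by
    rintro x ⟨hx, e, he, hxe⟩
    refine ⟨fun g hg => ?_, e, he, ?_⟩
    · have := hx g hg
      calc x⁻¹ * g = x⁻¹ * (g * x) * x⁻¹ := by group
        _ = x⁻¹ * (x * g) * x⁻¹ := by rw [this]
        _ = g * x⁻¹ := by group
    · -- t x = x t e  =>  x⁻¹ t = t e x⁻¹ = t x⁻¹ e
      have h1 : x⁻¹ * t = t * e * x⁻¹ := by
        calc x⁻¹ * t = x⁻¹ * (t * x) * x⁻¹ := by group
          _ = x⁻¹ * (x * (t * e)) * x⁻¹ := by rw [hxe]
          _ = t * e * x⁻¹ := by group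
      have h2 : e * x⁻¹ = x⁻¹ * e := by
        calc e * x⁻¹ = x⁻¹ * (x * e) * x⁻¹ := by group
          _ = x⁻¹ * (e * x) * x⁻¹ := by rw [hx e he]
          _ = x⁻¹ * e := by group
      have h3 : x⁻¹ * (t * e) = t * x⁻¹ * (e * e) := by
        calc x⁻¹ * (t * e) = x⁻¹ * t * e := by group
          _ = t * e * x⁻¹ * e := by rw [h1]
          _ = t * (e * x⁻¹) * e := by group
          _ = t * (x⁻¹ * e) * e := by rw [h2]
          _ = t * x⁻¹ * (e * e) := by group
      rw [h3, h.Esq e he, mul_one]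

theorem mem_Q (h : Half t E A B S Ya Yb) {x : X} :
    x ∈ h.Q ↔ (∀ e ∈ E, x * e = e * x) ∧ ∃ e ∈ E, t * x = x * (t * e) := Iff.rfl

theorem Ya_le (h : Half t E A B S Ya Yb) : Ya ≤ h.Q := fun y hy =>
  ⟨h.YaE y hy, by obtain ⟨a, ha, e⟩ := h.Yat y hy; exact ⟨a, h.AE ha, e⟩⟩

theorem Yb_le (h : Half t E A B S Ya Yb) : Yb ≤ h.Q := fun y hy =>
  ⟨h.YbE y hy, by obtain ⟨a, ha, e⟩ := h.Ybt y hy; exact ⟨a, h.BE ha, e⟩⟩

/-- squares of elements of `Q` lie in `E`. -/
theorem sq_mem (h : Half t E A B S Ya Yb) {x : X} (hx : x ∈ h.Q) : x * x ∈ E := by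
  obtain ⟨hxE, e, he, hxe⟩ := hx
  by_cases he1 : e = 1
  · subst he1
    rw [mul_one] at hxe
    rcases h.cent x hxe.symm hxE with h1 | h1
    · rw [h.Esq x h1]; exact E.one_mem
    · have h2 := h.Esq _ h1
      have h3 : x * x = 1 := by
        calc x * x = x * (t * t) * x := by rw [h.tt]; group
          _ = x * t * (t * x) := by group
          _ = x * t * (x * t) := by rw [hxe]
          _ = 1 := h2
      rw [h3]; exact E.one_mem
  · have h1 : t * (x * x) = x * x * t := by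
      calc t * (x * x) = (t * x) * x := by group
        _ = x * (t * (e * x)) := by rw [hxe]; group
        _ = x * (t * (x * e)) := by rw [hxE e he]
        _ = x * ((t * x) * e) := by group
        _ = x * x * t * (e * e) := by rw [hxe]; group
        _ = x * x * t := by rw [h.Esq e he, mul_one]
    have h2 : ∀ f ∈ E, x * x * f = f * (x * x) := fun f hf => by
      rw [mul_assoc, hxE f hf, ← mul_assoc, hxE f hf, mul_assoc]
    rcases h.cent (x * x) h1.symm h2 with h3 | h3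
    · exact h3
    · exfalso
      -- x² t ∈ E commutes with x
      have h4 := hxE _ h3
      -- x (x x t) = x x t x = x x x t e
      have h5 : x * x * t * x = x * (x * x * t) * e := by
        calc x * x * t * x = x * x * (t * x) := by group
          _ = x * (x * x * t) * e := by rw [hxe]; group
      rw [← h4] at h5
      apply he1
      have : x * (x * x * t) * 1 = x * (x * x * t) * e := by rw [mul_one]; exact h5
      exact (mul_left_cancel this).symm

/-- commutators of elements of `Q` lie in `E`. -/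
theorem comm_mem (h : Half t E A B S Ya Yb) {x y : X} (hx : x ∈ h.Q) (hy : y ∈ h.Q) :
    ∃ e ∈ E, y * x = x * y * e := by
  have h1 := h.sq_mem (h.Q.mul_mem hx hy)
  have h2 := h.sq_mem hx
  have h3 := h.sq_mem hy
  -- x y x y = e1, x x = e2, y y = e3; y x = x⁻¹ e1 y⁻¹ = x e2⁻¹ e1 e3⁻¹ y
  set e1 := x * y * (x * y) with he1
  set e2 := x * x with he2
  set e3 := y * y with he3
  refine ⟨e2⁻¹ * e1 * e3⁻¹, E.mul_mem (E.mul_mem (E.inv_mem h2) h1) (E.inv_mem h3), ?_⟩
  have hc := hy.1 (e2⁻¹ * e1) (E.mul_mem (E.inv_mem h2) h1)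
  have hc3 := hy.1 (e3⁻¹) (E.inv_mem h3)
  calc y * x = x * e2⁻¹ * e1 * e3⁻¹ * y := by rw [he1, he2, he3]; group
    _ = x * (e2⁻¹ * e1) * (e3⁻¹ * y) := by group
    _ = x * (e2⁻¹ * e1) * (y * e3⁻¹) := by rw [hc3]
    _ = x * ((e2⁻¹ * e1) * y) * e3⁻¹ := by group
    _ = x * (y * (e2⁻¹ * e1)) * e3⁻¹ := by rw [hc]
    _ = x * y * (e2⁻¹ * e1 * e3⁻¹) := by group

/-- two elements of `Q` moving `t` to the same element are congruent modulo `<t> E`. -/
theorem eq_of_same (h : Half t E A B S Ya Yb) {x y e : X} (hx : x ∈ h.Q) (hy : y ∈ h.Q)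
    (he : e ∈ E) (h1 : t * x = x * (t * e)) (h2 : t * y = y * (t * e)) :
    ∃ f ∈ E, y = x * f ∨ y = x * t * f := by
  have hq : x⁻¹ * y ∈ h.Q := h.Q.mul_mem (h.Q.inv_mem hx) hy
  have hcomm : x⁻¹ * y * t = t * (x⁻¹ * y) := by
    have h3 : x⁻¹ * t = t * e * x⁻¹ := by
      calc x⁻¹ * t = x⁻¹ * (t * x) * x⁻¹ := by group
        _ = x⁻¹ * (x * (t * e)) * x⁻¹ := by rw [h1]
        _ = t * e * x⁻¹ := by group
    have h4 : y * (t * e) * e = t * y * e := by rw [h2]
    have h5 : y * t = t * y * e := by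
      rw [← h4]
      calc y * t = y * t * 1 := by group
        _ = y * t * (e * e) := by rw [h.Esq e he]
        _ = y * (t * e) * e := by group
    calc x⁻¹ * y * t = x⁻¹ * (y * t) := by group
      _ = x⁻¹ * t * (y * e) := by rw [h5]; group
      _ = t * e * x⁻¹ * (y * e) := by rw [h3]
      _ = t * e * x⁻¹ * (e * y) := by rw [hy.1 e he]
      _ = t * e * (x⁻¹ * e) * y := by group
      _ = t * e * (e * x⁻¹) * y := by rw [(h.Q.inv_mem hx).1 e he]
      _ = t * (e * e) * x⁻¹ * y := by group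
      _ = t * (x⁻¹ * y) := by rw [h.Esq e he]; group
  rcases h.cent _ hcomm hq.1 with h3 | h3
  · exact ⟨x⁻¹ * y, h3, Or.inl (by group)⟩
  · refine ⟨x⁻¹ * y * t, h3, Or.inr ?_⟩
    calc y = x * (x⁻¹ * y) := by group
      _ = x * (t * t * (x⁻¹ * y)) := by rw [h.tt]; group
      _ = x * t * (t * (x⁻¹ * y)) := by group
      _ = x * t * (x⁻¹ * y * t) := by rw [hcomm]

/-- `S` normalises `E`. -/
theorem conj_E (h : Half t E A B S Ya Yb) {s e : X} (hs : s ∈ S) (he : e ∈ E) :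
    s⁻¹ * e * s ∈ E := by
  obtain ⟨a, ha, b, hb, rfl⟩ := h.Eprod e he
  obtain ⟨a', ha', h1⟩ := h.BS b hb s hs
  have : s⁻¹ * (a * b) * s = a * (b * a') := by
    calc s⁻¹ * (a * b) * s = s⁻¹ * (a * s) * (s⁻¹ * b * s) := by group
      _ = s⁻¹ * (s * a) * (s⁻¹ * b * s) := by rw [h.AS a ha s hs]
      _ = a * (b * a') := by rw [h1]; group
  rw [this]
  exact E.mul_mem (h.AE ha) (E.mul_mem (h.BE hb) (h.AE ha'))

/-- `S` normalises `Q`. -/
theorem conj_Q (h : Half t E A B S Ya Yb) {s x : X} (hs : s ∈ S) (hx : x ∈ h.Q) :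
    s⁻¹ * x * s ∈ h.Q := by
  obtain ⟨hxE, e, he, hxe⟩ := hx
  refine ⟨fun f hf => ?_, s⁻¹ * e * s, h.conj_E hs he, ?_⟩
  · have h1 : s * f * s⁻¹ ∈ E := by
      have := h.conj_E (S.inv_mem hs) hf
      simpa using this
    have h2 := hxE _ h1
    calc s⁻¹ * x * s * f = s⁻¹ * (x * (s * f * s⁻¹)) * s := by group
      _ = s⁻¹ * ((s * f * s⁻¹) * x) * s := by rw [h2]
      _ = f * (s⁻¹ * x * s) := by group
  · have hts := h.tS s hs
    have hts' : t * s⁻¹ = s⁻¹ * t := by
      calc t * s⁻¹ = s⁻¹ * (s * t) * s⁻¹ := by group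
        _ = s⁻¹ * (t * s) * s⁻¹ := by rw [hts]
        _ = s⁻¹ * t := by group
    calc t * (s⁻¹ * x * s) = (t * s⁻¹) * x * s := by group
      _ = s⁻¹ * (t * x) * s := by rw [hts']; group
      _ = s⁻¹ * (x * (t * e)) * s := by rw [hxe]
      _ = s⁻¹ * x * (t * s) * (s⁻¹ * e * s) := by group
      _ = s⁻¹ * x * s * (t * (s⁻¹ * e * s)) := by rw [hts]; group

/-- the shape of `s⁻¹ z s`, up to `t`. -/
theorem conj_aux (h : Half t E A B S Ya Yb) {z s b u : X} (hz : z ∈ Yb) (hs : s ∈ S) (hb : b ∈ B)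
    (hzb : t * z = z * (t * b)) (hu : u ∈ A) (hbu : s⁻¹ * b * s = b * u) :
    ∃ y ∈ Ya, t * y = y * (t * u) ∧ ∃ f ∈ E, s⁻¹ * z * s = z * y * f ∨ s⁻¹ * z * s = z * y * t * f := by
  obtain ⟨y, hy, hyu⟩ := h.Yasurj u hu
  refine ⟨y, hy, hyu, ?_⟩
  have hzQ := h.Yb_le hz
  have hyQ := h.Ya_le hy
  have h1 : t * (z * y) = z * y * (t * (b * u)) := by
    calc t * (z * y) = (t * z) * y := by group
      _ = z * (t * (b * y)) := by rw [hzb]; group
      _ = z * (t * (y * b)) := by rw [h.YaE y hy b (h.BE hb)]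
      _ = z * ((t * y) * b) := by group
      _ = z * (y * (t * u) * b) := by rw [hyu]
      _ = z * y * (t * (u * b)) := by group
      _ = z * y * (t * (b * u)) := by rw [h.AB hu hb]
  have hts := h.tS s hs
  have hts' : t * s⁻¹ = s⁻¹ * t := by
    calc t * s⁻¹ = s⁻¹ * (s * t) * s⁻¹ := by group
      _ = s⁻¹ * (t * s) * s⁻¹ := by rw [hts]
      _ = s⁻¹ * t := by group
  have h2 : t * (s⁻¹ * z * s) = s⁻¹ * z * s * (t * (b * u)) := by
    calc t * (s⁻¹ * z * s) = (t * s⁻¹) * z * s := by group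
      _ = s⁻¹ * (t * z) * s := by rw [hts']; group
      _ = s⁻¹ * (z * (t * b)) * s := by rw [hzb]
      _ = s⁻¹ * z * (t * s) * (s⁻¹ * b * s) := by group
      _ = s⁻¹ * z * s * (t * (b * u)) := by rw [hts, hbu]; group
  obtain ⟨f, hf, h3⟩ := h.eq_of_same (h.Q.mul_mem hzQ hyQ) (h.conj_Q hs hzQ)
    (E.mul_mem (h.BE hb) (h.AE hu)) h1 h2
  exact ⟨f, hf, h3⟩

/-- `[Ya, Yb] ≤ A`. -/
theorem beta (h : Half t E A B S Ya Yb) {y z : X} (hy : y ∈ Ya) (hz : z ∈ Yb) :
    ∃ a ∈ A, z * y = y * z * a := by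
  have hzQ := h.Yb_le hz
  have hyQ := h.Ya_le hy
  obtain ⟨e, he, hze⟩ := h.comm_mem hyQ hzQ
  obtain ⟨a, ha, b, hb, rfl⟩ := h.Eprod e he
  by_cases hb1 : b = 1
  · subst hb1; rw [mul_one] at hze; exact ⟨a, ha, hze⟩
  exfalso
  obtain ⟨v, hv, hyv⟩ := h.Yat y hy
  obtain ⟨a0, ha0, ha01, ha0v⟩ := h.Abig v hv
  obtain ⟨s, hs, hbs⟩ := h.BSsurj b hb hb1 a0 ha0
  obtain ⟨c, hc, hzc⟩ := h.Ybt z hz
  obtain ⟨u, hu, hcu⟩ := h.BS c hc s hs
  obtain ⟨y', hy', hyu, f, hf, hcases⟩ := h.conj_aux hz hs hc hzc hu hcu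
  -- conjugate the relation z y = y z (a b) by s
  have hys : s⁻¹ * y * s = y := by
    rw [mul_assoc, h.YaS y hy s hs]; group
  have hes : s⁻¹ * (a * b) * s = a * b * a0 := by
    calc s⁻¹ * (a * b) * s = s⁻¹ * (a * s) * (s⁻¹ * b * s) := by group
      _ = s⁻¹ * (s * a) * (s⁻¹ * b * s) := by rw [h.AS a ha s hs]
      _ = a * b * a0 := by rw [hbs]; group
  set z' := s⁻¹ * z * s with hz'
  have hconj : z' * y = y * z' * (a * b * a0) := by
    calc z' * y = z' * (s⁻¹ * y * s) := by rw [hys]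
      _ = s⁻¹ * (z * y) * s := by rw [hz']; group
      _ = s⁻¹ * (y * z * (a * b)) * s := by rw [hze]
      _ = (s⁻¹ * y * s) * (s⁻¹ * z * s) * (s⁻¹ * (a * b) * s) := by group
      _ = y * z' * (a * b * a0) := by rw [hys, hes]
  have hfE := hf
  rcases hcases with h1 | h1
  · -- z' = z y' f
    have h2 : z' * y = y * z' * (a * b) := by
      calc z' * y = z * y' * (f * y) := by rw [h1]; group
        _ = z * y' * (y * f) := by rw [h.YaE y hy f hf]
        _ = z * (y' * y) * f := by group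
        _ = z * (y * y') * f := by rw [h.Yacomm y' hy' y hy]
        _ = (z * y) * y' * f := by group
        _ = y * z * ((a * b) * y') * f := by rw [hze]; group
        _ = y * z * (y' * (a * b)) * f := by rw [h.YaE y' hy' _ he]
        _ = y * z * y' * ((a * b) * f) := by group
        _ = y * z * y' * (f * (a * b)) := by rw [h.Ecomm _ he f hf]
        _ = y * (z * y' * f) * (a * b) := by group
        _ = y * z' * (a * b) := by rw [h1]
    rw [h2] at hconj
    have h3 : a * b = a * b * a0 := mul_left_cancel hconj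
    exact ha01 (by simpa using h3)
  · -- z' = z y' t f
    have h2 : z' * y = y * z' * (a * b * v) := by
      calc z' * y = z * y' * t * (f * y) := by rw [h1]; group
        _ = z * y' * t * (y * f) := by rw [h.YaE y hy f hf]
        _ = z * y' * (t * y) * f := by group
        _ = z * (y' * y) * (t * v) * f := by rw [hyv]; group
        _ = z * (y * y') * (t * v) * f := by rw [h.Yacomm y' hy' y hy]
        _ = (z * y) * y' * (t * v) * f := by group
        _ = y * z * ((a * b) * y') * (t * v) * f := by rw [hze]; group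
        _ = y * z * (y' * (a * b)) * (t * v) * f := by rw [h.YaE y' hy' _ he]
        _ = y * z * y' * ((a * b) * t) * (v * f) := by group
        _ = y * z * y' * (t * (a * b)) * (f * v) := by
            rw [h.tE _ he, h.Ecomm v (h.AE hv) f hf]
        _ = y * z * y' * t * ((a * b) * f) * v := by group
        _ = y * z * y' * t * (f * (a * b)) * v := by rw [h.Ecomm _ he f hf]
        _ = y * (z * y' * t * f) * (a * b * v) := by group
        _ = y * z' * (a * b * v) := by rw [h1]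
    rw [h2] at hconj
    have h3 : a * b * v = a * b * a0 := mul_left_cancel hconj
    exact ha0v (mul_left_cancel h3).symm

/-- `z^s ∈ z y_u E`. -/
theorem conj_form (h : Half t E A B S Ya Yb) {z s b u : X} (hz : z ∈ Yb) (hs : s ∈ S) (hb : b ∈ B)
    (hzb : t * z = z * (t * b)) (hu : u ∈ A) (hbu : s⁻¹ * b * s = b * u) :
    ∃ y ∈ Ya, t * y = y * (t * u) ∧ ∃ f ∈ E, s⁻¹ * z * s = z * y * f := by
  obtain ⟨y', hy', hyu, f, hf, hcases⟩ := h.conj_aux hz hs hb hzb hu hbu
  refine ⟨y', hy', hyu, f, hf, ?_⟩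
  rcases hcases with h1 | h1
  · exact h1
  exfalso
  obtain ⟨v, hv, hv1, -⟩ := h.Abig 1 A.one_mem
  obtain ⟨y, hy, hyv⟩ := h.Yasurj v hv
  obtain ⟨a, ha, hzy⟩ := h.beta hy hz
  have hys : s⁻¹ * y * s = y := by
    rw [mul_assoc, h.YaS y hy s hs]; group
  have has : s⁻¹ * a * s = a := by
    rw [mul_assoc, h.AS a ha s hs]; group
  set z' := s⁻¹ * z * s with hz'
  have hconj : z' * y = y * z' * a := by
    calc z' * y = z' * (s⁻¹ * y * s) := by rw [hys]
      _ = s⁻¹ * (z * y) * s := by rw [hz']; group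
      _ = s⁻¹ * (y * z * a) * s := by rw [hzy]
      _ = (s⁻¹ * y * s) * (s⁻¹ * z * s) * (s⁻¹ * a * s) := by group
      _ = y * z' * a := by rw [hys, has]
  have haE := h.AE ha
  have h2 : z' * y = y * z' * (a * v) := by
    calc z' * y = z * y' * t * (f * y) := by rw [h1]; group
      _ = z * y' * t * (y * f) := by rw [h.YaE y hy f hf]
      _ = z * y' * (t * y) * f := by group
      _ = z * (y' * y) * (t * v) * f := by rw [hyv]; group
      _ = z * (y * y') * (t * v) * f := by rw [h.Yacomm y' hy' y hy]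
      _ = (z * y) * y' * (t * v) * f := by group
      _ = y * z * (a * y') * (t * v) * f := by rw [hzy]; group
      _ = y * z * (y' * a) * (t * v) * f := by rw [h.YaE y' hy' _ haE]
      _ = y * z * y' * (a * t) * (v * f) := by group
      _ = y * z * y' * (t * a) * (f * v) := by
          rw [h.tE _ haE, h.Ecomm v (h.AE hv) f hf]
      _ = y * z * y' * t * (a * f) * v := by group
      _ = y * z * y' * t * (f * a) * v := by rw [h.Ecomm _ haE f hf]
      _ = y * (z * y' * t * f) * (a * v) := by group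
      _ = y * z' * (a * v) := by rw [h1]
  rw [h2] at hconj
  have h3 : a * v = a := mul_left_cancel hconj
  exact hv1 (by simpa using h3)

variable {R : Subgroup X}

/-- `[Ya, Yb] = 1`. -/
theorem comm (h : Half t E A B S Ya Yb) (h' : Half t E B A R Yb Ya) {y z : X} (hy : y ∈ Ya)
    (hz : z ∈ Yb) : y * z = z * y := by
  obtain ⟨a, ha, h1⟩ := h.beta hy hz
  obtain ⟨b, hb, h2⟩ := h'.beta hz hy
  -- z y = y z a, y z = z y b
  have h3 : a = 1 := by
    apply h.disj a ha
    have : a * b = 1 := by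
      rw [h1] at h2
      have h4 : y * z * 1 = y * z * (a * b) := by rw [mul_one, ← mul_assoc]; exact h2
      exact (mul_left_cancel h4).symm
    rw [eq_inv_of_mul_eq_one_left this]
    exact B.inv_mem hb
  rw [h1, h3, mul_one]

/-- `Yb` is elementary abelian. -/
theorem sq_one (h : Half t E A B S Ya Yb) (h' : Half t E B A R Yb Ya) {z : X} (hz : z ∈ Yb) :
    z * z = 1 := by
  have hcomm : ∀ y ∈ Ya, z * y = y * z := fun y hy => (h.comm h' hy hz).symm
  have hzE := h.YbE z hz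
  obtain ⟨b, hb, hzb⟩ := h.Ybt z hz
  -- z² ∈ B
  have hz2t : t * (z * z) = z * z * t := by
    calc t * (z * z) = (t * z) * z := by group
      _ = z * (t * (b * z)) := by rw [hzb]; group
      _ = z * (t * (z * b)) := by rw [hzE b (h.BE hb)]
      _ = z * ((t * z) * b) := by group
      _ = z * z * t * (b * b) := by rw [hzb]; group
      _ = z * z * t := by rw [h.Esq b (h.BE hb), mul_one]
  have hz2B : z * z ∈ B := h'.Yafix _ (Yb.mul_mem hz hz) hz2t
  have hz2E := h.BE hz2B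
  have hz4 : z * z * (z * z) = 1 := h.Esq _ hz2E
  -- every nontrivial s inverts z modulo Ya
  have key : ∀ s ∈ S, s ≠ 1 → ∃ y ∈ Ya, s⁻¹ * z * s = z⁻¹ * y := by
    intro s hs hs1
    obtain ⟨u, hu, hbu⟩ := h.BS b hb s hs
    obtain ⟨y, hy, hyu, e, he, hzs⟩ := h.conj_form hz hs hb hzb hu hbu
    have hys : s⁻¹ * y * s = y := by
      rw [mul_assoc, h.YaS y hy s hs]; group
    have hye : y * e = e * y := h.YaE y hy e he
    have hzy := hcomm y hy
    have hze := hzE e he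
    set e' := s⁻¹ * e * s with he'
    have he'E : e' ∈ E := h.conj_E hs he
    have hye' : y * e' = e' * y := h.YaE y hy e' he'E
    -- s² = 1
    have h1 : z = z * y * e * y * e' := by
      have hss : s⁻¹ = s := inv_eq_of_mul_eq_one_right (h.Ssq s hs)
      calc z = (s * s)⁻¹ * z * (s * s) := by rw [h.Ssq s hs]; group
        _ = s⁻¹ * (s⁻¹ * z * s) * s := by group
        _ = s⁻¹ * (z * y * e) * s := by rw [hzs]
        _ = (s⁻¹ * z * s) * (s⁻¹ * y * s) * (s⁻¹ * e * s) := by group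
        _ = z * y * e * y * e' := by rw [hzs, hys]
    have h2 : y * y * (e * e') = 1 := by
      have h3 : z * (y * y * (e * e')) = z * 1 := by
        calc z * (y * y * (e * e')) = z * y * (y * e) * e' := by group
          _ = z * y * (e * y) * e' := by rw [hye]
          _ = z * y * e * y * e' := by group
          _ = z * 1 := by rw [← h1, mul_one]
      exact mul_left_cancel h3
    -- (z²)^s = z² y²
    have h3 : s⁻¹ * (z * z) * s = z * z * (y * y) := by
      calc s⁻¹ * (z * z) * s = (s⁻¹ * z * s) * (s⁻¹ * z * s) := by group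
        _ = z * y * e * (z * y * e) := by rw [hzs]
        _ = z * y * (e * z) * (y * e) := by group
        _ = z * y * (z * e) * (e * y) := by rw [hze, hye]
        _ = z * (y * z) * (e * e) * y := by group
        _ = z * (z * y) * y := by rw [h.Esq e he, hzy]; group
        _ = z * z * (y * y) := by group
    have hy2E : y * y ∈ E := h.sq_mem (h.Ya_le hy)
    have hy4 : y * y * (y * y) = 1 := h.Esq _ hy2E
    have he'eq : e' = e * (y * y) := by
      have h4 : e * e' = y * y := by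
        have h5 : y * y * (e * e') = y * y * (y * y) := by rw [h2, hy4]
        exact mul_left_cancel h5
      calc e' = (e * e) * e' := by rw [h.Esq e he, one_mul]
        _ = e * (e * e') := by group
        _ = e * (y * y) := by rw [h4]
    -- z² e is fixed by s
    have h4 : s⁻¹ * (z * z * e) * s = z * z * e := by
      calc s⁻¹ * (z * z * e) * s = (s⁻¹ * (z * z) * s) * e' := by rw [he']; group
        _ = z * z * (y * y) * (e * (y * y)) := by rw [h3, he'eq]
        _ = z * z * ((y * y) * e) * (y * y) := by group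
        _ = z * z * (e * (y * y)) * (y * y) := by rw [h.Ecomm _ hy2E e he]
        _ = z * z * e * (y * y * (y * y)) := by group
        _ = z * z * e := by rw [hy4, mul_one]
    obtain ⟨a1, ha1, b1, hb1, h5⟩ := h.Eprod (z * z * e) (E.mul_mem hz2E he)
    have h6 : s⁻¹ * b1 * s = b1 := by
      have h7 : s⁻¹ * (a1 * b1) * s = a1 * (s⁻¹ * b1 * s) := by
        calc s⁻¹ * (a1 * b1) * s = s⁻¹ * (a1 * s) * (s⁻¹ * b1 * s) := by group
          _ = s⁻¹ * (s * a1) * (s⁻¹ * b1 * s) := by rw [h.AS a1 ha1 s hs]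
          _ = a1 * (s⁻¹ * b1 * s) := by group
      rw [h5] at h4
      rw [h7] at h4
      exact mul_left_cancel h4
    have h8 : b1 = 1 := h.BSinj b1 hb1 s hs hs1 h6
    rw [h8, mul_one] at h5
    -- e = z² a1
    have h9 : e = z * z * a1 := by
      calc e = (z * z * (z * z)) * e := by rw [hz4, one_mul]
        _ = z * z * (z * z * e) := by group
        _ = z * z * a1 := by rw [h5]
    refine ⟨y * a1, Ya.mul_mem hy (h.AYa ha1), ?_⟩
    have hinv : z⁻¹ = z * (z * z) := by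
      apply inv_eq_of_mul_eq_one_right
      calc z * (z * (z * z)) = z * z * (z * z) := by group
        _ = 1 := hz4
    calc s⁻¹ * z * s = z * y * (z * z * a1) := by rw [hzs, ← h9]
      _ = z * (y * z) * z * a1 := by group
      _ = z * (z * y) * z * a1 := by rw [hzy]
      _ = z * z * (y * z) * a1 := by group
      _ = z * z * (z * y) * a1 := by rw [hzy]
      _ = z⁻¹ * (y * a1) := by rw [hinv]; group
  obtain ⟨s, hs, s', hs', hs1, hs1', hss'⟩ := h.Sbig
  obtain ⟨y1, hy1, h1⟩ := key s hs hs1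
  obtain ⟨y2, hy2, h2⟩ := key s' hs' hs1'
  obtain ⟨y3, hy3, h3⟩ := key (s * s') (S.mul_mem hs hs') hss'
  have hy1s : s'⁻¹ * y1 * s' = y1 := by
    rw [mul_assoc, h.YaS y1 hy1 s' hs']; group
  have h4 : z⁻¹ * y3 = y2⁻¹ * z * y1 := by
    calc z⁻¹ * y3 = (s * s')⁻¹ * z * (s * s') := h3.symm
      _ = s'⁻¹ * (s⁻¹ * z * s) * s' := by group
      _ = s'⁻¹ * (z⁻¹ * y1) * s' := by rw [h1]
      _ = (s'⁻¹ * z * s')⁻¹ * (s'⁻¹ * y1 * s') := by group
      _ = (z⁻¹ * y2)⁻¹ * y1 := by rw [h2, hy1s]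
      _ = y2⁻¹ * z * y1 := by group
  have h5 : z * z ∈ Ya := by
    have h6 : z * z = y3 * y1⁻¹ * y2 := by
      have h7 : z * (y2⁻¹ * z * y1) = y3 := by rw [← h4]; group
      have h8 := hcomm y2⁻¹ (Ya.inv_mem hy2)
      have h9 : y3 = y2⁻¹ * (z * z) * y1 := by
        rw [← h7]
        calc z * (y2⁻¹ * z * y1) = (z * y2⁻¹) * z * y1 := by group
          _ = y2⁻¹ * (z * z) * y1 := by rw [h8]; group
      have h10 : z * z * y2 = y2 * (z * z) := by
        rw [mul_assoc, hcomm y2 hy2, ← mul_assoc, hcomm y2 hy2, mul_assoc]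
      calc z * z = y2 * (y2⁻¹ * (z * z) * y1) * y1⁻¹ := by group
        _ = y2 * y3 * y1⁻¹ := by rw [h9]
        _ = y3 * y1⁻¹ * y2 := by
          rw [mul_assoc, h.Yacomm y2 hy2 _ (Ya.mul_mem hy3 (Ya.inv_mem hy1))]
    rw [h6]
    exact Ya.mul_mem (Ya.mul_mem hy3 (Ya.inv_mem hy1)) hy2
  exact h.disj _ (h.Yafix _ h5 hz2t) hz2B

/-- `[Yb, S] ≤ Ya`, with control of the action on `t`. -/
theorem conj_mem (h : Half t E A B S Ya Yb) (h' : Half t E B A R Yb Ya) {z s b u : X}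
    (hz : z ∈ Yb) (hs : s ∈ S) (hb : b ∈ B) (hzb : t * z = z * (t * b)) (hu : u ∈ A)
    (hbu : s⁻¹ * b * s = b * u) :
    ∃ y ∈ Ya, t * y = y * (t * u) ∧ s⁻¹ * z * s = z * y := by
  obtain ⟨y, hy, hyu, e, he, hzs⟩ := h.conj_form hz hs hb hzb hu hbu
  by_cases hs1 : s = 1
  · subst hs1
    have h1 : y * e = 1 := by
      have : z * (y * e) = z * 1 := by rw [mul_one, ← mul_assoc, ← hzs]; group
      exact mul_left_cancel this
    have hu1 : u = 1 := by
      have : b * u = b * 1 := by rw [← hbu]; group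
      exact mul_left_cancel this
    refine ⟨1, Ya.one_mem, by simp [hu1], ?_⟩
    simp
  have hys : s⁻¹ * y * s = y := by
    rw [mul_assoc, h.YaS y hy s hs]; group
  have hye : y * e = e * y := h.YaE y hy e he
  have hyy : y * y = 1 := h'.sq_one h hy
  -- e is fixed by s
  have h1 : z = z * y * e * y * (s⁻¹ * e * s) := by
    calc z = (s * s)⁻¹ * z * (s * s) := by rw [h.Ssq s hs]; group
      _ = s⁻¹ * (s⁻¹ * z * s) * s := by group
      _ = s⁻¹ * (z * y * e) * s := by rw [hzs]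
      _ = (s⁻¹ * z * s) * (s⁻¹ * y * s) * (s⁻¹ * e * s) := by group
      _ = z * y * e * y * (s⁻¹ * e * s) := by rw [hzs, hys]
  have h2 : e * (s⁻¹ * e * s) = 1 := by
    have h3 : z * (e * (s⁻¹ * e * s)) = z * 1 := by
      calc z * (e * (s⁻¹ * e * s)) = z * ((y * y) * (e * (s⁻¹ * e * s))) := by rw [hyy, one_mul]
        _ = z * y * (y * e) * (s⁻¹ * e * s) := by group
        _ = z * y * (e * y) * (s⁻¹ * e * s) := by rw [hye]
        _ = z * y * e * y * (s⁻¹ * e * s) := by group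
        _ = z * 1 := by rw [← h1, mul_one]
    exact mul_left_cancel h3
  have h3 : s⁻¹ * e * s = e := by
    rw [← inv_eq_of_mul_eq_one_right h2, h.inv_eq he]
  obtain ⟨a1, ha1, b1, hb1, h5⟩ := h.Eprod e he
  have h6 : s⁻¹ * b1 * s = b1 := by
    have h7 : s⁻¹ * (a1 * b1) * s = a1 * (s⁻¹ * b1 * s) := by
      calc s⁻¹ * (a1 * b1) * s = s⁻¹ * (a1 * s) * (s⁻¹ * b1 * s) := by group
        _ = s⁻¹ * (s * a1) * (s⁻¹ * b1 * s) := by rw [h.AS a1 ha1 s hs]
        _ = a1 * (s⁻¹ * b1 * s) := by group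
    rw [h5, h7] at h3
    exact mul_left_cancel h3
  have h8 : b1 = 1 := h.BSinj b1 hb1 s hs hs1 h6
  rw [h8, mul_one] at h5
  subst h5
  refine ⟨y * e, Ya.mul_mem hy (h.AYa ha1), ?_, by rw [hzs]; group⟩
  calc t * (y * e) = (t * y) * e := by group
    _ = y * (t * (u * e)) := by rw [hyu]; group
    _ = y * (t * (e * u)) := by rw [h.Ecomm u (h.AE hu) e (h.AE ha1)]
    _ = y * ((t * e) * u) := by group
    _ = y * ((e * t) * u) := by rw [h.tE e (h.AE ha1)]
    _ = y * e * (t * u) := by group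

end Half

end Cfsg.Agent.StdL3.OnePair
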