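import Mathlib

set_option autoImplicit false

/-!
# Growth of `<t> × L₃(4)`: the group `U = Y₁ Y₂ Y₃`

`X₁, X₂, X₃` the three positive root subgroups, `Y₁, Y₂, Y₃` elementary abelian groups with
`[Yᵢ, t] = C_{Yᵢ}(t) = Xᵢ`.  We prove `[Y₁, Y₂] ≤ Y₃`, and that `U = Y₁ Y₂ Y₃` is a group, `t ∉ U`,
every involution of `t U` is `U`-conjugate to `t`.
-/

namespace Cfsg.Agent.StdL3.OneThree

variable {X : Type*} [Group X]

/-- The configuration of three root groups. -/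
structure Three (t : X) (X1 X2 X3 Y1 Y2 Y3 : Subgroup X) : Prop where
  tt : t * t = 1
  sq1 : ∀ y ∈ Y1, y * y = 1
  sq2 : ∀ y ∈ Y2, y * y = 1
  sq3 : ∀ y ∈ Y3, y * y = 1
  le1 : X1 ≤ Y1
  le2 : X2 ≤ Y2
  le3 : X3 ≤ Y3
  t1 : ∀ x ∈ X1, t * x = x * t
  t2 : ∀ x ∈ X2, t * x = x * t
  t3 : ∀ x ∈ X3, t * x = x * t
  Yt1 : ∀ y ∈ Y1, ∃ x ∈ X1, t * y = y * (t * x)
  Yt2 : ∀ y ∈ Y2, ∃ x ∈ X2, t * y = y * (t * x)
  Yt3 : ∀ y ∈ Y3, ∃ x ∈ X3, t * y = y * (t * x)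
  surj1 : ∀ x ∈ X1, ∃ y ∈ Y1, t * y = y * (t * x)
  surj2 : ∀ x ∈ X2, ∃ y ∈ Y2, t * y = y * (t * x)
  surj3 : ∀ x ∈ X3, ∃ y ∈ Y3, t * y = y * (t * x)
  fix1 : ∀ y ∈ Y1, t * y = y * t → y ∈ X1
  fix2 : ∀ y ∈ Y2, t * y = y * t → y ∈ X2
  fix3 : ∀ y ∈ Y3, t * y = y * t → y ∈ X3
  c13 : ∀ y ∈ Y1, ∀ z ∈ Y3, y * z = z * y
  c23 : ∀ y ∈ Y2, ∀ z ∈ Y3, y * z = z * y
  Y1X2 : ∀ y ∈ Y1, ∀ x ∈ X2, ∃ z ∈ Y3, x⁻¹ * y * x = y * z
  Y2X1 : ∀ y ∈ Y2, ∀ x ∈ X1, ∃ z ∈ Y3, x⁻¹ * y * x = y * z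
  uniq : ∀ x ∈ X1, ∀ y ∈ X2, x * y ∈ X3 → x = 1 ∧ y = 1
  big3 : ∃ x ∈ X3, x ≠ 1
  cent1 : ∀ x : X, x * t = t * x → (∀ e ∈ X1, x * e = e * x) → (∀ e ∈ X3, x * e = e * x) →
    ∃ a ∈ X1, ∃ b ∈ X3, x = a * b ∨ x * t = a * b
  cent2 : ∀ x : X, x * t = t * x → (∀ e ∈ X2, x * e = e * x) → (∀ e ∈ X3, x * e = e * x) →
    ∃ a ∈ X2, ∃ b ∈ X3, x = a * b ∨ x * t = a * b

theorem inv_of_sq {x : X} (h : x * x = 1) : x⁻¹ = x := inv_eq_of_mul_eq_one_right h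

theorem comm_of_sq {H : Subgroup X} (h : ∀ y ∈ H, y * y = 1) {x y : X} (hx : x ∈ H) (hy : y ∈ H) :
    x * y = y * x := by
  have h1 := h _ (H.mul_mem hx hy)
  have h2 := h _ hx
  have h3 := h _ hy
  calc x * y = (x * y)⁻¹ := (inv_of_sq h1).symm
    _ = y⁻¹ * x⁻¹ := by group
    _ = y * x := by rw [inv_of_sq h2, inv_of_sq h3]

namespace Three

variable {t : X} {X1 X2 X3 Y1 Y2 Y3 : Subgroup X}

theorem swap (h : Three t X1 X2 X3 Y1 Y2 Y3) : Three t X2 X1 X3 Y2 Y1 Y3 where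
  tt := h.tt
  sq1 := h.sq2
  sq2 := h.sq1
  sq3 := h.sq3
  le1 := h.le2
  le2 := h.le1
  le3 := h.le3
  t1 := h.t2
  t2 := h.t1
  t3 := h.t3
  Yt1 := h.Yt2
  Yt2 := h.Yt1
  Yt3 := h.Yt3
  surj1 := h.surj2
  surj2 := h.surj1
  surj3 := h.surj3
  fix1 := h.fix2
  fix2 := h.fix1
  fix3 := h.fix3
  c13 := h.c23
  c23 := h.c13
  Y1X2 := h.Y2X1
  Y2X1 := h.Y1X2
  uniq := by
    intro x hx y hy hxy
    have h1 : y * x ∈ X3 := by
      have h2 : (x * y)⁻¹ ∈ X3 := X3.inv_mem hxy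
      have h3 : (x * y)⁻¹ = y * x := by
        rw [mul_inv_rev, inv_of_sq (h.sq1 y (h.le1 hy)), inv_of_sq (h.sq2 x (h.le2 hx))]
      rwa [h3] at h2
    exact (h.uniq y hy x hx h1).symm
  big3 := h.big3
  cent1 := h.cent2
  cent2 := h.cent1

/-- conjugation of `t` by `y' ∈ Y₂` and `y ∈ Y₁`. -/
theorem conj_t {y x : X} (hyx : t * y = y * (t * x)) : y⁻¹ * t * y = t * x := by
  rw [mul_assoc, hyx]; group

theorem half (h : Three t X1 X2 X3 Y1 Y2 Y3) {y y' : X} (hy : y ∈ Y1) (hy' : y' ∈ Y2) :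
    ∃ x ∈ X1, ∃ z ∈ Y3, y'⁻¹ * y * y' = y * x * z := by
  obtain ⟨v, hv, hyv⟩ := h.Yt1 y hy
  obtain ⟨w, hw, hyw⟩ := h.Yt2 y' hy'
  have hvY := h.le1 hv
  have hwY := h.le2 hw
  have iy : y⁻¹ = y := inv_of_sq (h.sq1 y hy)
  have iy' : y'⁻¹ = y' := inv_of_sq (h.sq2 y' hy')
  have ct := conj_t hyv
  have ct' := conj_t hyw
  have ct'' : y' * t * y'⁻¹ = t * w := by
    rw [iy'] at ct' ⊢; exact ct'
  -- y⁻¹ w y = w z1
  obtain ⟨z0, hz0, e0⟩ := h.Y1X2 y hy w hw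
  have hz1 : ∃ z ∈ Y3, y⁻¹ * w * y = w * z := by
    refine ⟨z0⁻¹, Y3.inv_mem hz0, ?_⟩
    have e1 : y * w = w * (y * z0) := by
      rw [← e0]; group
    have e2 : y⁻¹ * w * y * z0 = w := by
      calc y⁻¹ * w * y * z0 = y⁻¹ * (w * (y * z0)) := by group
        _ = y⁻¹ * (y * w) := by rw [e1]
        _ = w := by group
    calc y⁻¹ * w * y = y⁻¹ * w * y * z0 * z0⁻¹ := by group
      _ = w * z0⁻¹ := by rw [e2]
  obtain ⟨z1, hz1, e1⟩ := hz1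
  obtain ⟨z0', hz0', e0'⟩ := h.Y2X1 y' hy' v hv
  have hz2 : ∃ z ∈ Y3, y'⁻¹ * v * y' = v * z := by
    refine ⟨z0'⁻¹, Y3.inv_mem hz0', ?_⟩
    have e1 : y' * v = v * (y' * z0') := by
      rw [← e0']; group
    have e2 : y'⁻¹ * v * y' * z0' = v := by
      calc y'⁻¹ * v * y' * z0' = y'⁻¹ * (v * (y' * z0')) := by group
        _ = y'⁻¹ * (y' * v) := by rw [e1]
        _ = v := by group
    calc y'⁻¹ * v * y' = y'⁻¹ * v * y' * z0' * z0'⁻¹ := by group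
      _ = v * z0'⁻¹ := by rw [e2]
  obtain ⟨z2, hz2, e2⟩ := hz2
  obtain ⟨z3, hz3, e3⟩ := h.Y1X2 v hvY w hw
  have iw : w⁻¹ = w := inv_of_sq (h.sq2 w hwY)
  set c := y'⁻¹ * y * y' with hc
  -- c⁻¹ t c
  have hct : c⁻¹ * t * c = t * v * (z3 * z2 * z1) := by
    have f1 : y'⁻¹ * z1 * y' = z1 := by rw [mul_assoc, ← h.c23 y' hy' z1 hz1]; group
    have f2 : y'⁻¹ * w * y' = w := by
      rw [mul_assoc, comm_of_sq h.sq2 hwY hy']; group
    have f3 : z2 * w = w * z2 := (h.c23 w hwY z2 hz2).symm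
    calc c⁻¹ * t * c = y'⁻¹ * y⁻¹ * (y' * t * y'⁻¹) * y * y' := by rw [hc]; group
      _ = y'⁻¹ * y⁻¹ * (t * w) * y * y' := by rw [ct'']
      _ = y'⁻¹ * ((y⁻¹ * t * y) * (y⁻¹ * w * y)) * y' := by group
      _ = y'⁻¹ * ((t * v) * (w * z1)) * y' := by rw [ct, e1]
      _ = (y'⁻¹ * t * y') * (y'⁻¹ * v * y') * (y'⁻¹ * w * y') * (y'⁻¹ * z1 * y') := by group
      _ = t * w * (v * z2) * w * z1 := by rw [ct', e2, f1, f2]
      _ = t * w * v * (z2 * w) * z1 := by group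
      _ = t * w * v * (w * z2) * z1 := by rw [f3]
      _ = t * (w⁻¹ * v * w) * (z2 * z1) := by rw [iw]; group
      _ = t * (v * z3) * (z2 * z1) := by rw [e3]
      _ = t * v * (z3 * z2 * z1) := by group
  set g := z3 * z2 * z1 with hg
  have hgY : g ∈ Y3 := Y3.mul_mem (Y3.mul_mem hz3 hz2) hz1
  -- g ∈ X3
  obtain ⟨u, hu, hgu⟩ := h.Yt3 g hgY
  have huY := h.le3 hu
  have hu1 : u = 1 := by
    have k1 : (t * v * g) * (t * v * g) = 1 := by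
      rw [← hct]
      calc c⁻¹ * t * c * (c⁻¹ * t * c) = c⁻¹ * (t * t) * c := by group
        _ = 1 := by rw [h.tt]; group
    have k2 : g * t = t * g * u := by
      have k3 : t * g * u = g * t := by
        calc t * g * u = (g * (t * u)) * u := by rw [hgu]
          _ = g * t * (u * u) := by group
          _ = g * t := by rw [h.sq3 u huY, mul_one]
      exact k3.symm
    have k3 : g * v = v * g := (h.c13 v hvY g hgY).symm
    have k4 : u * v = v * u := (h.c13 v hvY u huY).symm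
    have k5 : u * g = g * u := comm_of_sq h.sq3 huY hgY
    have k6 : (t * v * g) * (t * v * g) = u := by
      calc (t * v * g) * (t * v * g) = t * v * (g * t) * v * g := by group
        _ = t * v * (t * g * u) * v * g := by rw [k2]
        _ = t * (v * t) * g * (u * v) * g := by group
        _ = t * (t * v) * g * (v * u) * g := by rw [h.t1 v hv, k4]
        _ = (t * t) * v * (g * v) * (u * g) := by group
        _ = v * (v * g) * (g * u) := by rw [h.tt, k3, k5, one_mul]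
        _ = (v * v) * (g * g) * u := by group
        _ = u := by rw [h.sq1 v hvY, h.sq3 g hgY]; group
    rw [← k6]; exact k1
  rw [hu1, mul_one] at hgu
  have hgX := h.fix3 g hgY hgu
  obtain ⟨yg, hyg, hygt⟩ := h.surj3 g hgX
  have cyg := conj_t hygt
  -- f = y yg
  have iyg : y * yg = yg * y := h.c13 y hy yg hyg
  have hft : (y * yg)⁻¹ * t * (y * yg) = t * v * g := by
    have k1 : yg⁻¹ * v * yg = v := by rw [mul_assoc, h.c13 v hvY yg hyg]; group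
    calc (y * yg)⁻¹ * t * (y * yg) = yg⁻¹ * (y⁻¹ * t * y) * yg := by group
      _ = yg⁻¹ * (t * v) * yg := by rw [ct]
      _ = (yg⁻¹ * t * yg) * (yg⁻¹ * v * yg) := by group
      _ = t * (g * v) := by rw [cyg, k1]; group
      _ = t * (v * g) := by rw [h.c13 v hvY g hgY]
      _ = t * v * g := by group
  set d := c * (y * yg)⁻¹ with hd
  have hdt : d * t = t * d := by
    have k1 : c⁻¹ * t * c = (y * yg)⁻¹ * t * (y * yg) := by rw [hct, hft]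
    have k2 : t = d * t * d⁻¹ := by
      calc t = c * (c⁻¹ * t * c) * c⁻¹ := by group
        _ = c * ((y * yg)⁻¹ * t * (y * yg)) * c⁻¹ := by rw [k1]
        _ = d * t * d⁻¹ := by rw [hd]; group
    calc d * t = d * t * d⁻¹ * d := by group
      _ = t * d := by rw [← k2]
  have hy'3 : ∀ z ∈ Y3, y'⁻¹ * z * y' = z := fun z hz => by
    rw [mul_assoc, ← h.c23 y' hy' z hz]; group
  have hd3 : ∀ z ∈ Y3, d * z = z * d := by
    intro z hz
    have k1 : y' * z = z * y' := h.c23 y' hy' z hz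
    have k2 : y * z = z * y := h.c13 y hy z hz
    have k3 : yg * z = z * yg := comm_of_sq h.sq3 hyg hz
    have c1 : Commute z y' := k1.symm
    have c2 : Commute z y := k2.symm
    have c3 : Commute z yg := k3.symm
    have : Commute z d := by
      rw [hd, hc]
      exact (((c1.inv_right).mul_right c2).mul_right c1).mul_right ((c2.mul_right c3).inv_right)
    exact this.symm
  have hd1 : ∀ e ∈ X1, d * e = e * d := by
    intro e he
    have heY := h.le1 he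
    -- y' e y'⁻¹ = e z
    obtain ⟨z, hz, k1⟩ := h.Y2X1 y' hy' e he
    -- e⁻¹ y' e = y' z  => y' e = e y' z
    have k2 : y' * e = e * (y' * z) := by rw [← k1]; group
    have k3 : y' * e * y'⁻¹ = e * z := by
      rw [k2, h.c23 y' hy' z hz]; group
    have k4 : y * (e * z) = e * z * y := by
      calc y * (e * z) = (y * e) * z := by group
        _ = (e * y) * z := by rw [comm_of_sq h.sq1 hy heY]
        _ = e * (y * z) := by group
        _ = e * (z * y) := by rw [h.c13 y hy z hz]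
        _ = e * z * y := by group
    have k5 : Commute c e := by
      show c * e = e * c
      calc c * e = y'⁻¹ * y * (y' * e * y'⁻¹) * y' := by rw [hc]; group
        _ = y'⁻¹ * (y * (e * z)) * y' := by rw [k3]; group
        _ = y'⁻¹ * (e * z * y) * y' := by rw [k4]
        _ = y'⁻¹ * (y' * e * y'⁻¹) * y * y' := by rw [k3]; group
        _ = e * c := by rw [hc]; group
    have k6 : Commute y e := comm_of_sq h.sq1 hy heY
    have k7 : Commute yg e := (h.c13 e heY yg hyg).symm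
    exact (k5.mul_left ((k6.mul_left k7).inv_left))
  obtain ⟨a, ha, b, hb, hcase⟩ := h.cent1 d hdt hd1 (fun e he => hd3 e (h.le3 he))
  have hda : d = a * b := by
    rcases hcase with k | k
    · exact k
    · exfalso
      obtain ⟨x, hx, hx1⟩ := h.big3
      obtain ⟨yx, hyx, hyxt⟩ := h.surj3 x hx
      have haY := h.le1 ha
      have hbY := h.le3 hb
      have k1 : d = a * b * t := by
        calc d = d * t * t := by rw [mul_assoc, h.tt, mul_one]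
          _ = a * b * t := by rw [k]
      have k2 := hd3 yx hyx
      have k3 : yx * (a * b) = a * b * yx := by
        calc yx * (a * b) = (yx * a) * b := by group
          _ = (a * yx) * b := by rw [h.c13 a haY yx hyx]
          _ = a * (yx * b) := by group
          _ = a * (b * yx) := by rw [comm_of_sq h.sq3 hyx hbY]
          _ = a * b * yx := by group
      have k4 : d * yx = yx * d * x := by
        calc d * yx = a * b * (t * yx) := by rw [k1]; group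
          _ = a * b * yx * t * x := by rw [hyxt]; group
          _ = yx * (a * b) * t * x := by rw [k3]
          _ = yx * d * x := by rw [k1]; group
      rw [k2] at k4
      exact hx1 (by
        have k5 : yx * d * 1 = yx * d * x := by rw [mul_one]; exact k4
        exact (mul_left_cancel k5).symm)
  refine ⟨a, ha, b * yg, Y3.mul_mem (h.le3 hb) hyg, ?_⟩
  have haY := h.le1 ha
  have hbY := h.le3 hb
  have k1 : c = d * (y * yg) := by rw [hd]; group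
  calc c = a * b * (y * yg) := by rw [k1, hda]
    _ = a * (b * y) * yg := by group
    _ = a * (y * b) * yg := by rw [h.c13 y hy b hbY]
    _ = (a * y) * b * yg := by group
    _ = (y * a) * b * yg := by rw [comm_of_sq h.sq1 haY hy]
    _ = y * a * (b * yg) := by group

/-- `[Y₁, Y₂] ≤ Y₃`. -/
theorem comm12 (h : Three t X1 X2 X3 Y1 Y2 Y3) {y y' : X} (hy : y ∈ Y1) (hy' : y' ∈ Y2) :
    ∃ z ∈ Y3, y' * y = y * y' * z := by
  obtain ⟨x1, hx1, z1, hz1, e1⟩ := h.half hy hy'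
  obtain ⟨x2, hx2, z2, hz2, e2⟩ := h.swap.half hy' hy
  -- e1 : y'⁻¹ y y' = y x1 z1; e2 : y⁻¹ y' y = y' x2 z2
  have c1 := h.c13 x1 (h.le1 hx1)
  have c2 := h.c23 x2 (h.le2 hx2)
  have k1 : y⁻¹ * y'⁻¹ * y * y' = x1 * z1 := by
    calc y⁻¹ * y'⁻¹ * y * y' = y⁻¹ * (y'⁻¹ * y * y') := by group
      _ = x1 * z1 := by rw [e1]; group
  have k2 : y⁻¹ * y'⁻¹ * y * y' = z2⁻¹ * x2⁻¹ := by
    calc y⁻¹ * y'⁻¹ * y * y' = (y⁻¹ * y' * y)⁻¹ * y' := by group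
      _ = (y' * x2 * z2)⁻¹ * y' := by rw [e2]
      _ = z2⁻¹ * x2⁻¹ := by group
  have k3 : x1 * z1 = z2⁻¹ * x2⁻¹ := k1.symm.trans k2
  have k4 : x1 * x2 = z2⁻¹ * z1⁻¹ := by
    have h4 := c1 z1⁻¹ (Y3.inv_mem hz1)
    have h5 := c2 z1⁻¹ (Y3.inv_mem hz1)
    calc x1 * x2 = (x1 * z1) * (z1⁻¹ * x2) := by group
      _ = (z2⁻¹ * x2⁻¹) * (x2 * z1⁻¹) := by rw [k3, h5]
      _ = z2⁻¹ * z1⁻¹ := by group
  have k5 : x1 * x2 ∈ Y3 := by
    rw [k4]; exact Y3.mul_mem (Y3.inv_mem hz2) (Y3.inv_mem hz1)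
  have k6 : t * (x1 * x2) = x1 * x2 * t := by
    rw [← mul_assoc, h.t1 x1 hx1, mul_assoc, h.t2 x2 hx2, mul_assoc]
  obtain ⟨k7, -⟩ := h.uniq x1 hx1 x2 hx2 (h.fix3 _ k5 k6)
  rw [k7, one_mul] at k1
  refine ⟨z1⁻¹, Y3.inv_mem hz1, ?_⟩
  -- y y' = y' y z1
  have k8 : y * y' = y' * y * z1 := by rw [← k1]; group
  calc y' * y = y' * y * z1 * z1⁻¹ := by group
    _ = y * y' * z1⁻¹ := by rw [k8]

/-- The group `U = Y₁ Y₂ Y₃`. -/
def U (h : Three t X1 X2 X3 Y1 Y2 Y3) : Subgroup X where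
  carrier := {x | ∃ y1 ∈ Y1, ∃ y2 ∈ Y2, ∃ y3 ∈ Y3, x = y1 * y2 * y3}
  one_mem' := ⟨1, Y1.one_mem, 1, Y2.one_mem, 1, Y3.one_mem, by group⟩
  mul_mem' := by
    rintro x y ⟨a1, ha1, a2, ha2, a3, ha3, rfl⟩ ⟨b1, hb1, b2, hb2, b3, hb3, rfl⟩
    obtain ⟨z, hz, e⟩ := h.comm12 hb1 ha2
    refine ⟨a1 * b1, Y1.mul_mem ha1 hb1, a2 * b2, Y2.mul_mem ha2 hb2, z * a3 * b3,
      Y3.mul_mem (Y3.mul_mem hz ha3) hb3, ?_⟩
    have e1 := h.c13 b1 hb1 a3 ha3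
    have e2 := h.c23 b2 hb2 (z * a3) (Y3.mul_mem hz ha3)
    calc a1 * a2 * a3 * (b1 * b2 * b3) = a1 * a2 * (a3 * b1) * b2 * b3 := by group
      _ = a1 * a2 * (b1 * a3) * b2 * b3 := by rw [e1]
      _ = a1 * (a2 * b1) * a3 * b2 * b3 := by group
      _ = a1 * (b1 * a2 * z) * a3 * b2 * b3 := by rw [e]
      _ = a1 * b1 * a2 * ((z * a3) * b2) * b3 := by group
      _ = a1 * b1 * a2 * (b2 * (z * a3)) * b3 := by rw [e2]
      _ = a1 * b1 * (a2 * b2) * (z * a3 * b3) := by group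
  inv_mem' := by
    rintro x ⟨a1, ha1, a2, ha2, a3, ha3, rfl⟩
    obtain ⟨z, hz, e⟩ := h.comm12 (Y1.inv_mem ha1) (Y2.inv_mem ha2)
    refine ⟨a1⁻¹, Y1.inv_mem ha1, a2⁻¹, Y2.inv_mem ha2, z * a3⁻¹,
      Y3.mul_mem hz (Y3.inv_mem ha3), ?_⟩
    have e1 := h.c13 a1⁻¹ (Y1.inv_mem ha1) a3⁻¹ (Y3.inv_mem ha3)
    have e2 := h.c23 a2⁻¹ (Y2.inv_mem ha2) a3⁻¹ (Y3.inv_mem ha3)
    have e3 := h.c23 a2⁻¹ (Y2.inv_mem ha2) z hz
    have e4 := comm_of_sq h.sq3 (Y3.inv_mem ha3) hz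
    calc (a1 * a2 * a3)⁻¹ = a3⁻¹ * (a2⁻¹ * a1⁻¹) := by group
      _ = (a3⁻¹ * a1⁻¹) * a2⁻¹ * z := by rw [e]; group
      _ = a1⁻¹ * (a3⁻¹ * a2⁻¹) * z := by rw [← e1]; group
      _ = a1⁻¹ * a2⁻¹ * (a3⁻¹ * z) := by rw [← e2]; group
      _ = a1⁻¹ * a2⁻¹ * (z * a3⁻¹) := by rw [e4]

theorem mem_U (h : Three t X1 X2 X3 Y1 Y2 Y3) {x : X} :
    x ∈ h.U ↔ ∃ y1 ∈ Y1, ∃ y2 ∈ Y2, ∃ y3 ∈ Y3, x = y1 * y2 * y3 := Iff.rfl

theorem Y1_le (h : Three t X1 X2 X3 Y1 Y2 Y3) : Y1 ≤ h.U := fun y hy =>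
  ⟨y, hy, 1, Y2.one_mem, 1, Y3.one_mem, by group⟩

theorem Y2_le (h : Three t X1 X2 X3 Y1 Y2 Y3) : Y2 ≤ h.U := fun y hy =>
  ⟨1, Y1.one_mem, y, hy, 1, Y3.one_mem, by group⟩

theorem Y3_le (h : Three t X1 X2 X3 Y1 Y2 Y3) : Y3 ≤ h.U := fun y hy =>
  ⟨1, Y1.one_mem, 1, Y2.one_mem, y, hy, by group⟩

/-- `t` normalises `U`. -/
theorem t_conj (h : Three t X1 X2 X3 Y1 Y2 Y3) {x : X} (hx : x ∈ h.U) : t * x * t ∈ h.U := by
  have conj : ∀ y v : X, t * y = y * (t * v) → (t * v = v * t) → t * y * t = y * v := by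
    intro y v h1 h2
    rw [h1, h2]
    calc y * (v * t) * t = y * v * (t * t) := by group
      _ = y * v := by rw [h.tt, mul_one]
  obtain ⟨a1, ha1, a2, ha2, a3, ha3, rfl⟩ := hx
  obtain ⟨v1, hv1, e1⟩ := h.Yt1 a1 ha1
  obtain ⟨v2, hv2, e2⟩ := h.Yt2 a2 ha2
  obtain ⟨v3, hv3, e3⟩ := h.Yt3 a3 ha3
  have : t * (a1 * a2 * a3) * t = (t * a1 * t) * (t * a2 * t) * (t * a3 * t) := by
    calc t * (a1 * a2 * a3) * t = t * a1 * 1 * a2 * 1 * a3 * t := by group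
      _ = t * a1 * (t * t) * a2 * (t * t) * a3 * t := by rw [h.tt]
      _ = (t * a1 * t) * (t * a2 * t) * (t * a3 * t) := by group
  rw [this, conj a1 v1 e1 (h.t1 v1 hv1), conj a2 v2 e2 (h.t2 v2 hv2), conj a3 v3 e3 (h.t3 v3 hv3)]
  exact h.U.mul_mem (h.U.mul_mem (h.Y1_le (Y1.mul_mem ha1 (h.le1 hv1)))
    (h.Y2_le (Y2.mul_mem ha2 (h.le2 hv2)))) (h.Y3_le (Y3.mul_mem ha3 (h.le3 hv3)))

/-- `t ∉ U`. -/
theorem t_notMem (h : Three t X1 X2 X3 Y1 Y2 Y3) (hbig : ∃ x ∈ X1, x ≠ 1) : t ∉ h.U := by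
  intro ht
  obtain ⟨x, hx, hx1⟩ := hbig
  obtain ⟨y, hy, hyx⟩ := h.surj1 x hx
  obtain ⟨a1, ha1, a2, ha2, a3, ha3, e⟩ := ht
  obtain ⟨z, hz, e1⟩ := h.comm12 hy ha2
  -- t y = y t z
  have h1 : t * y = y * t * z := by
    have e2 := h.c13 y hy a3 ha3
    have e3 := comm_of_sq h.sq1 ha1 hy
    calc t * y = a1 * a2 * (a3 * y) := by rw [e]; group
      _ = a1 * (a2 * y) * a3 := by rw [← e2]; group
      _ = a1 * (y * a2 * z) * a3 := by rw [e1]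
      _ = (a1 * y) * a2 * (z * a3) := by group
      _ = (y * a1) * a2 * (a3 * z) := by rw [e3, comm_of_sq h.sq3 hz ha3]
      _ = y * t * z := by rw [e]; group
  have h2 : x = z := by
    rw [hyx] at h1
    have h3 : y * t * x = y * t * z := by rw [← h1]; group
    exact mul_left_cancel h3
  have h4 : x ∈ X3 := h.fix3 x (h2 ▸ hz) (h.t1 x hx)
  have h5 := (h.uniq x hx 1 X2.one_mem (by rwa [mul_one])).1
  exact hx1 h5

/-- every involution of `t U` is `U`-conjugate to `t`. -/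
theorem conj_of_invol (h : Three t X1 X2 X3 Y1 Y2 Y3) {u : X} (hu : u ∈ h.U)
    (hs : (t * u) * (t * u) = 1) : ∃ w ∈ h.U, t * u = w⁻¹ * t * w := by
  obtain ⟨y1, hy1, y2, hy2, y3, hy3, rfl⟩ := hu
  obtain ⟨v1, hv1, e1⟩ := h.Yt1 y1 hy1
  obtain ⟨v2, hv2, e2⟩ := h.Yt2 y2 hy2
  obtain ⟨v3, hv3, e3⟩ := h.Yt3 y3 hy3
  have hv1Y := h.le1 hv1
  have hv2Y := h.le2 hv2
  have hv3Y := h.le3 hv3
  have conj : ∀ y v : X, t * y = y * (t * v) → (t * v = v * t) → t * y * t = y * v := by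
    intro y v h1 h2
    rw [h1, h2]
    calc y * (v * t) * t = y * v * (t * t) := by group
      _ = y * v := by rw [h.tt, mul_one]
  have k1 := conj y1 v1 e1 (h.t1 v1 hv1)
  have k2 := conj y2 v2 e2 (h.t2 v2 hv2)
  have k3 := conj y3 v3 e3 (h.t3 v3 hv3)
  have k4 : (y1 * v1) * (y2 * v2) * (y3 * v3) * (y1 * y2 * y3) = 1 := by
    rw [← k1, ← k2, ← k3]
    calc (t * y1 * t) * (t * y2 * t) * (t * y3 * t) * (y1 * y2 * y3)
        = t * y1 * (t * t) * y2 * (t * t) * y3 * t * (y1 * y2 * y3) := by group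
      _ = t * (y1 * y2 * y3) * (t * (y1 * y2 * y3)) := by rw [h.tt]; group
      _ = 1 := hs
  -- modulo Y3 : v1 v2 ∈ Y3
  have hv12 : v1 * v2 ∈ Y3 := by
    -- move everything
    obtain ⟨z1, hz1, f1⟩ := h.comm12 hv1Y hy2      -- y2 v1 = v1 y2 z1
    obtain ⟨z2, hz2, f2⟩ := h.comm12 hy1 hy2       -- y2 y1 = y1 y2 z2
    obtain ⟨z3, hz3, f3⟩ := h.comm12 hy1 hv2Y      -- v2 y1 = y1 v2 z3
    have c3 : ∀ z ∈ Y3, ∀ w ∈ Y3, z * w = w * z := fun z hz w hw => comm_of_sq h.sq3 hz hw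
    have g1 : y1 * y1 = 1 := h.sq1 _ hy1
    have g2 : y2 * y2 = 1 := h.sq2 _ hy2
    have g3 : y1 * v1 = v1 * y1 := comm_of_sq h.sq1 hy1 hv1Y
    have g4 : v2 * y2 = y2 * v2 := comm_of_sq h.sq2 hv2Y hy2
    -- (y1 v1)(y2 v2) y1 y2
    have m3 : ∀ z ∈ Y3, z * y1 = y1 * z := fun z hz => (h.c13 y1 hy1 z hz).symm
    have m4 : ∀ z ∈ Y3, z * y2 = y2 * z := fun z hz => (h.c23 y2 hy2 z hz).symm
    have m5 : ∀ z ∈ Y3, z * v2 = v2 * z := fun z hz => (h.c23 v2 hv2Y z hz).symm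
    have n1 : y2 * v2 * y1 = y1 * y2 * v2 * (z2 * z3) := by
      calc y2 * v2 * y1 = y2 * (v2 * y1) := by group
        _ = (y2 * y1) * v2 * z3 := by rw [f3]; group
        _ = y1 * y2 * (z2 * v2) * z3 := by rw [f2]; group
        _ = y1 * y2 * v2 * (z2 * z3) := by rw [m5 z2 hz2]; group
    have n2 : (y1 * v1) * (y2 * v2) * (y1 * y2) = v1 * v2 * (z2 * z3) := by
      calc (y1 * v1) * (y2 * v2) * (y1 * y2) = (y1 * v1) * (y2 * v2 * y1) * y2 := by group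
        _ = (v1 * y1) * (y1 * y2 * v2 * (z2 * z3)) * y2 := by rw [n1, g3]
        _ = v1 * (y1 * y1) * y2 * v2 * ((z2 * z3) * y2) := by group
        _ = v1 * y2 * v2 * (y2 * (z2 * z3)) := by
            rw [g1, m4 _ (Y3.mul_mem hz2 hz3), mul_one]
        _ = v1 * y2 * (v2 * y2) * (z2 * z3) := by group
        _ = v1 * (y2 * y2) * v2 * (z2 * z3) := by rw [g4]; group
        _ = v1 * v2 * (z2 * z3) := by rw [g2, mul_one]
    have n3 : (y1 * v1) * (y2 * v2) * (y1 * y2) * (y3 * v3 * y3) = 1 := by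
      have p1 : (y3 * v3) * (y1 * y2) = (y1 * y2) * (y3 * v3) := by
        have q := Y3.mul_mem hy3 hv3Y
        calc (y3 * v3) * (y1 * y2) = ((y3 * v3) * y1) * y2 := by group
          _ = y1 * ((y3 * v3) * y2) := by rw [m3 _ q]; group
          _ = (y1 * y2) * (y3 * v3) := by rw [m4 _ q]; group
      calc (y1 * v1) * (y2 * v2) * (y1 * y2) * (y3 * v3 * y3)
          = (y1 * v1) * (y2 * v2) * ((y1 * y2) * (y3 * v3)) * y3 := by group
        _ = (y1 * v1) * (y2 * v2) * ((y3 * v3) * (y1 * y2)) * y3 := by rw [p1]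
        _ = (y1 * v1) * (y2 * v2) * (y3 * v3) * (y1 * y2 * y3) := by group
        _ = 1 := k4
    rw [n2] at n3
    have n4 : v1 * v2 = (y3 * v3 * y3)⁻¹ * (z2 * z3)⁻¹ := by
      calc v1 * v2 = (v1 * v2 * (z2 * z3) * (y3 * v3 * y3)) * (y3 * v3 * y3)⁻¹ * (z2 * z3)⁻¹ := by
            group
        _ = (y3 * v3 * y3)⁻¹ * (z2 * z3)⁻¹ := by rw [n3]; group
    rw [n4]
    exact Y3.mul_mem (Y3.inv_mem (Y3.mul_mem (Y3.mul_mem hy3 hv3Y) hy3))
      (Y3.inv_mem (Y3.mul_mem hz2 hz3))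
  have k6 : t * (v1 * v2) = v1 * v2 * t := by
    rw [← mul_assoc, h.t1 v1 hv1, mul_assoc, h.t2 v2 hv2, mul_assoc]
  obtain ⟨hv11, hv21⟩ := h.uniq v1 hv1 v2 hv2 (h.fix3 _ hv12 k6)
  subst hv11; subst hv21
  rw [mul_one] at e1 e2
  have hx1 := h.fix1 y1 hy1 e1
  have hx2 := h.fix2 y2 hy2 e2
  obtain ⟨w1, hw1, q1⟩ := h.surj1 y1 hx1
  obtain ⟨w2, hw2, q2⟩ := h.surj2 y2 hx2
  have r1 := conj_t q1
  have r2 := conj_t q2
  obtain ⟨z, hz, q3⟩ := h.comm12 hy1 hw2   -- w2 y1 = y1 w2 z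
  obtain ⟨z0, hz0, q4⟩ := h.comm12 hy1 hy2 -- y2 y1 = y1 y2 z0
  have r3 : w2⁻¹ * y1 * w2 = y1 * z⁻¹ := by
    have r4 : w2⁻¹ * (y1 * w2 * z) = y1 := by rw [← q3]; group
    have r5 : y1 * w2 * z = y1 * z * w2 := by
      rw [mul_assoc, h.c23 w2 hw2 z hz, ← mul_assoc]
    calc w2⁻¹ * y1 * w2 = w2⁻¹ * (y1 * w2 * z) * z⁻¹ := by group
      _ = y1 * z⁻¹ := by rw [r4]
  have r4 : (w1 * w2)⁻¹ * t * (w1 * w2) = t * y1 * y2 * (z0 * z⁻¹) := by
    calc (w1 * w2)⁻¹ * t * (w1 * w2) = w2⁻¹ * (w1⁻¹ * t * w1) * w2 := by group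
      _ = (w2⁻¹ * t * w2) * (w2⁻¹ * y1 * w2) := by rw [r1]; group
      _ = t * (y2 * y1) * z⁻¹ := by rw [r2, r3]; group
      _ = t * y1 * y2 * (z0 * z⁻¹) := by rw [q4]; group
  set g := (z0 * z⁻¹)⁻¹ * y3 with hg
  have hgY : g ∈ Y3 := Y3.mul_mem (Y3.inv_mem (Y3.mul_mem hz0 (Y3.inv_mem hz))) hy3
  have r5 : t * (y1 * y2 * y3) = (w1 * w2)⁻¹ * t * (w1 * w2) * g := by
    rw [r4, hg]; group
  have r6 : g * (w1 * w2) = (w1 * w2) * g := by
    calc g * (w1 * w2) = (g * w1) * w2 := by group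
      _ = w1 * (g * w2) := by rw [← h.c13 w1 hw1 g hgY]; group
      _ = (w1 * w2) * g := by rw [← h.c23 w2 hw2 g hgY]; group
  have r7 : t * (y1 * y2 * y3) = (w1 * w2)⁻¹ * (t * g) * (w1 * w2) := by
    calc t * (y1 * y2 * y3) = (w1 * w2)⁻¹ * t * ((w1 * w2) * g) := by rw [r5]; group
      _ = (w1 * w2)⁻¹ * t * (g * (w1 * w2)) := by rw [r6]
      _ = (w1 * w2)⁻¹ * (t * g) * (w1 * w2) := by group
  have r8 : t * g * (t * g) = 1 := by
    have r9 : (w1 * w2)⁻¹ * (t * g * (t * g)) * (w1 * w2) = 1 := by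
      calc (w1 * w2)⁻¹ * (t * g * (t * g)) * (w1 * w2)
          = ((w1 * w2)⁻¹ * (t * g) * (w1 * w2)) * ((w1 * w2)⁻¹ * (t * g) * (w1 * w2)) := by group
        _ = 1 := by rw [← r7]; exact hs
    calc t * g * (t * g) = (w1 * w2) * ((w1 * w2)⁻¹ * (t * g * (t * g)) * (w1 * w2)) * (w1 * w2)⁻¹ := by
          group
      _ = 1 := by rw [r9]; group
  obtain ⟨v, hv, s1⟩ := h.Yt3 g hgY
  have s2 : t * g * t = g * v := conj g v s1 (h.t3 v hv)
  have hvY := h.le3 hv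
  have s3 : v = 1 := by
    have : g * v * g = 1 := by
      calc g * v * g = t * g * t * g := by rw [s2]
        _ = t * g * (t * g) := by group
        _ = 1 := r8
    calc v = (g * g) * v := by rw [h.sq3 g hgY, one_mul]
      _ = g * (g * v) := by group
      _ = g * (v * g) := by rw [comm_of_sq h.sq3 hgY hvY]
      _ = g * v * g := by group
      _ = 1 := this
  rw [s3, mul_one] at s1
  obtain ⟨w3, hw3, s4⟩ := h.surj3 g (h.fix3 g hgY s1)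
  have s5 := conj_t s4
  refine ⟨w3 * (w1 * w2), h.U.mul_mem (h.Y3_le hw3) (h.U.mul_mem (h.Y1_le hw1) (h.Y2_le hw2)), ?_⟩
  calc t * (y1 * y2 * y3) = (w1 * w2)⁻¹ * (w3⁻¹ * t * w3) * (w1 * w2) := by rw [r7, s5]
    _ = (w3 * (w1 * w2))⁻¹ * t * (w3 * (w1 * w2)) := by group

end Three

end Cfsg.Agent.StdL3.OneThree
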