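import Cfsg.Agent.StdL3.OneY
import Cfsg.Agent.StdL3.OnePair
import Cfsg.Agent.StdL3.OneThree

set_option autoImplicit false
set_option linter.constructorNameAsVariable false
set_option linter.unusedVariables false

/-!
# Growth of `<t> × L₃(4)`: assembling the root groups
-/

namespace Cfsg.Agent.StdL3.OneGrow

open Cfsg.Agent.LThreeFour
open Cfsg.Agent.SporadicA.FieldFour
open Cfsg.Agent.ONType.Psl (kap)
open Cfsg.Agent.StdL3.OneRoot
open Cfsg.Agent.StdL3.OneY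
open Cfsg.Agent.StdL3.OnePair
open Cfsg.Agent.StdL3.OneThree

variable {X : Type*} [Group X] {L : Subgroup X}

/-- root elements in `X` -/
def r (A : Dat L) (i j : Fin 3) (u : F4) : X := (A.x i j u : X)

variable (A : Dat L)

theorem r_mem (i j : Fin 3) (u : F4) : r A i j u ∈ L := (A.x i j u).2

theorem r_add {i j : Fin 3} (h : i ≠ j) (u v : F4) : r A i j u * r A i j v = r A i j (u + v) := by
  rw [r, r, r, ← A.x_add i j h]; rfl

theorem r_zero {i j : Fin 3} (h : i ≠ j) : r A i j 0 = 1 := by rw [r, A.x_zero i j h]; rfl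

theorem r_sq {i j : Fin 3} (h : i ≠ j) (u : F4) : r A i j u * r A i j u = 1 := by
  rw [r_add A h, F4.add_self, r_zero A h]

theorem r_inv {i j : Fin 3} (h : i ≠ j) (u : F4) : (r A i j u)⁻¹ = r A i j u :=
  inv_eq_of_mul_eq_one_right (r_sq A h u)

theorem r_row {i j k : Fin 3} (h1 : i ≠ j) (h2 : i ≠ k) (u v : F4) :
    r A i j u * r A i k v = r A i k v * r A i j u :=
  congrArg Subtype.val (A.x_row i j k h1 h2 u v)

theorem r_col {i j k : Fin 3} (h1 : i ≠ j) (h2 : k ≠ j) (u v : F4) :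
    r A i j u * r A k j v = r A k j v * r A i j u :=
  congrArg Subtype.val (A.x_col i j k h1 h2 u v)

/-- `x_ik(u) x_kj(v) = x_kj(v) x_ik(u) x_ij(uv)`. -/
theorem r_sum {i j k : Fin 3} (h1 : i ≠ j) (h2 : i ≠ k) (h3 : j ≠ k) (u v : F4) :
    r A i k u * r A k j v = r A k j v * r A i k u * r A i j (u * v) :=
  congrArg Subtype.val (A.x_sum i j k h1 h2 h3 u v)

theorem r_E01 (u : F4) : r A 0 1 u = E A ⟨u, 0, 0⟩ := by rw [r, E, A.el_x01]
theorem r_E12 (u : F4) : r A 1 2 u = E A ⟨0, u, 0⟩ := by rw [r, E, A.el_x12]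
theorem r_E02 (u : F4) : r A 0 2 u = E A ⟨0, 0, u⟩ := by rw [r, E, A.el_x02]

/-- Weyl elements -/
def wey (A : Dat L) (i j : Fin 3) : L := A.x i j 1 * A.x j i 1 * A.x i j 1

theorem wey_r {i j k l : Fin 3} (h1 : i ≠ j) (h2 : k ≠ l) (u : F4) :
    ((wey A i j : L) : X)⁻¹ * r A k l u * (wey A i j : L) =
      r A (Equiv.swap i j k) (Equiv.swap i j l) u :=
  congrArg Subtype.val (A.x_wey i j k l h1 h2 u)

/-- root subgroups -/
def rs (A : Dat L) {i j : Fin 3} (h : i ≠ j) : Subgroup X where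
  carrier := {x | ∃ u, x = r A i j u}
  one_mem' := ⟨0, (r_zero A h).symm⟩
  mul_mem' := by
    rintro _ _ ⟨u, rfl⟩ ⟨v, rfl⟩
    exact ⟨u + v, r_add A h u v⟩
  inv_mem' := by
    rintro _ ⟨u, rfl⟩
    exact ⟨u, r_inv A h u⟩

theorem mem_rs {i j : Fin 3} (h : i ≠ j) {x : X} : x ∈ rs A h ↔ ∃ u, x = r A i j u := Iff.rfl

/-- product of two commuting root subgroups -/
def es (A : Dat L) {i j k l : Fin 3} (h1 : i ≠ j) (h2 : k ≠ l)
    (hc : ∀ u v, r A i j u * r A k l v = r A k l v * r A i j u) : Subgroup X where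
  carrier := {x | ∃ u v, x = r A i j u * r A k l v}
  one_mem' := ⟨0, 0, by rw [r_zero A h1, r_zero A h2, mul_one]⟩
  mul_mem' := by
    rintro _ _ ⟨u, v, rfl⟩ ⟨u', v', rfl⟩
    refine ⟨u + u', v + v', ?_⟩
    rw [← r_add A h1, ← r_add A h2]
    calc r A i j u * r A k l v * (r A i j u' * r A k l v')
        = r A i j u * (r A k l v * r A i j u') * r A k l v' := by group
      _ = r A i j u * (r A i j u' * r A k l v) * r A k l v' := by rw [hc]
      _ = _ := by group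
  inv_mem' := by
    rintro _ ⟨u, v, rfl⟩
    refine ⟨u, v, ?_⟩
    rw [mul_inv_rev, r_inv A h1, r_inv A h2, hc]

/-- **Root group data** for the root `ij`. -/
structure RG (A : Dat L) (t : X) (i j k : Fin 3) (Y : Subgroup X) : Prop where
  c1 : ∀ y ∈ Y, ∀ u, y * r A i j u = r A i j u * y
  c2 : ∀ y ∈ Y, ∀ u, y * r A i k u = r A i k u * y
  c3 : ∀ y ∈ Y, ∀ u, y * r A k j u = r A k j u * y
  mv : ∀ y ∈ Y, ∃ u, t * y = y * (t * r A i j u)
  surj : ∀ u, ∃ y ∈ Y, t * y = y * (t * r A i j u)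
  comm : ∀ y ∈ Y, ∀ y' ∈ Y, y * y' = y' * y
  le : ∀ u, r A i j u ∈ Y
  fix : ∀ y ∈ Y, t * y = y * t → ∃ u, y = r A i j u

variable {A}

/-- the root group for the root `02`. -/
theorem rg_init {t : X} (H : Inp A t) : RG A t 0 2 1 H.Y0 where
  c1 y hy u := by rw [r_E02]; exact (H.Y0_le hy).1 _
  c2 y hy u := by rw [r_E01]; exact (H.Y0_le hy).1 _
  c3 y hy u := by rw [r_E12]; exact (H.Y0_le hy).1 _
  mv y hy := by
    obtain ⟨c, hc⟩ := H.mv hy
    exact ⟨c, by rw [r_E02]; exact hc⟩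
  surj u := by
    obtain ⟨y, hy, h⟩ := H.surj u
    exact ⟨y, hy, by rw [r_E02]; exact h⟩
  comm y hy y' hy' := H.comm0 hy hy'
  le u := by rw [r_E02]; exact H.z_mem0 u
  fix y hy h := by
    obtain ⟨c, hc⟩ := H.fix hy h
    exact ⟨c, by rw [r_E02]; exact hc⟩

/-- conjugate subgroup `g⁻¹ Y g` -/
def cs (g : X) (Y : Subgroup X) : Subgroup X where
  carrier := {x | g * x * g⁻¹ ∈ Y}
  one_mem' := by simp
  mul_mem' := by
    intro a b ha hb
    have := Y.mul_mem ha hb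
    have e : g * (a * b) * g⁻¹ = g * a * g⁻¹ * (g * b * g⁻¹) := by group
    show g * (a * b) * g⁻¹ ∈ Y
    rw [e]; exact this
  inv_mem' := by
    intro a ha
    have := Y.inv_mem ha
    have e : g * a⁻¹ * g⁻¹ = (g * a * g⁻¹)⁻¹ := by group
    show g * a⁻¹ * g⁻¹ ∈ Y
    rw [e]; exact this

theorem mem_cs {g x : X} {Y : Subgroup X} : x ∈ cs g Y ↔ g * x * g⁻¹ ∈ Y := Iff.rfl

theorem wey_r' {i j k l : Fin 3} (h1 : i ≠ j) (h2 : k ≠ l) (u : F4) :
    ((wey A i j : L) : X) * r A (Equiv.swap i j k) (Equiv.swap i j l) u * ((wey A i j : L) : X)⁻¹ =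
      r A k l u := by
  rw [← wey_r A h1 h2]; group

/-- transport of root group data under a Weyl element. -/
theorem RG.conj {t : X} {i j k : Fin 3} {Y : Subgroup X} (h : RG A t i j k Y)
    (ht : ∀ l ∈ L, t * l = l * t) {a b : Fin 3} (hab : a ≠ b) (hij : i ≠ j) (hik : i ≠ k)
    (hkj : k ≠ j) :
    RG A t (Equiv.swap a b i) (Equiv.swap a b j) (Equiv.swap a b k)
      (cs ((wey A a b : L) : X) Y) := by
  have htw := ht _ (wey A a b).2
  set w : X := ((wey A a b : L) : X) with hw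
  have htw' : t * w⁻¹ = w⁻¹ * t := by
    calc t * w⁻¹ = w⁻¹ * (w * t) * w⁻¹ := by group
      _ = w⁻¹ * (t * w) * w⁻¹ := by rw [htw]
      _ = w⁻¹ * t := by group
  have key : ∀ (y : X) (k l : Fin 3) (hkl : k ≠ l) (u : F4),
      (w * y * w⁻¹) * r A k l u = r A k l u * (w * y * w⁻¹) →
      y * r A (Equiv.swap a b k) (Equiv.swap a b l) u =
        r A (Equiv.swap a b k) (Equiv.swap a b l) u * y := by
    intro y k l hkl u e
    rw [← wey_r A hab hkl u]
    calc y * (w⁻¹ * r A k l u * w) = w⁻¹ * ((w * y * w⁻¹) * r A k l u) * w := by group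
      _ = w⁻¹ * (r A k l u * (w * y * w⁻¹)) * w := by rw [e]
      _ = w⁻¹ * r A k l u * w * y := by group
  have key2 : ∀ (y : X) (u : F4), t * (w * y * w⁻¹) = (w * y * w⁻¹) * (t * r A i j u) →
      t * y = y * (t * r A (Equiv.swap a b i) (Equiv.swap a b j) u) := by
    intro y u e
    rw [← wey_r A hab hij u]
    calc t * y = (t * w⁻¹) * (w * y * w⁻¹) * w := by group
      _ = w⁻¹ * (t * (w * y * w⁻¹)) * w := by rw [htw']; group
      _ = w⁻¹ * ((w * y * w⁻¹) * (t * r A i j u)) * w := by rw [e]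
      _ = y * (w⁻¹ * t) * r A i j u * w := by group
      _ = y * (t * w⁻¹) * r A i j u * w := by rw [htw']
      _ = y * (t * (w⁻¹ * r A i j u * w)) := by group
  refine ⟨?_, ?_, ?_, ?_, ?_, ?_, ?_, ?_⟩
  · intro y hy u
    exact key y i j hij u (h.c1 _ hy u)
  · intro y hy u
    exact key y i k hik u (h.c2 _ hy u)
  · intro y hy u
    exact key y k j hkj u (h.c3 _ hy u)
  · intro y hy
    obtain ⟨u, e⟩ := h.mv _ hy
    exact ⟨u, key2 y u e⟩
  · intro u
    obtain ⟨y, hy, e⟩ := h.surj u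
    refine ⟨w⁻¹ * y * w, ?_, ?_⟩
    · rw [mem_cs]
      have : w * (w⁻¹ * y * w) * w⁻¹ = y := by group
      rw [this]; exact hy
    · apply key2
      have : w * (w⁻¹ * y * w) * w⁻¹ = y := by group
      rw [this]; exact e
  · intro y hy y' hy'
    have e := h.comm _ hy _ hy'
    calc y * y' = w⁻¹ * ((w * y * w⁻¹) * (w * y' * w⁻¹)) * w := by group
      _ = w⁻¹ * ((w * y' * w⁻¹) * (w * y * w⁻¹)) * w := by rw [e]
      _ = y' * y := by group
  · intro u
    rw [mem_cs, wey_r' hab hij]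
    exact h.le u
  · intro y hy e
    have e' : t * (w * y * w⁻¹) = (w * y * w⁻¹) * t := by
      calc t * (w * y * w⁻¹) = (t * w) * y * w⁻¹ := by group
        _ = w * (t * y) * w⁻¹ := by rw [htw]; group
        _ = w * y * (t * w⁻¹) := by rw [e]; group
        _ = (w * y * w⁻¹) * t := by rw [htw']; group
    obtain ⟨u, hu⟩ := h.fix _ hy e'
    exact ⟨u, by rw [← wey_r A hab hij u, ← hw, ← hu]; group⟩

/-- row/column half data. -/
theorem half_row {t : X} {i j k : Fin 3} (hij : i ≠ j) (hik : i ≠ k) (hkj : k ≠ j)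
    {Ya Yb : Subgroup X} (ha : RG A t i j k Ya) (hb : RG A t i k j Yb)
    (tt : t * t = 1) (ht : ∀ l ∈ L, t * l = l * t)
    (Em : Subgroup X) (hEm : ∀ x, x ∈ Em ↔ ∃ u v, x = r A i j u * r A i k v)
    (hdis : ∀ u v, r A i j u = r A i k v → u = 0)
    (hinj : ∀ u, r A i j u = 1 → u = 0) (hinj2 : ∀ u, r A i k u = 1 → u = 0)
    (hinj3 : ∀ u, r A k j u = 1 → u = 0)
    (cent : ∀ x : X, x * t = t * x → (∀ u, x * r A i j u = r A i j u * x) →
      (∀ u, x * r A i k u = r A i k u * x) →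
      ∃ u v, x = r A i j u * r A i k v ∨ x * t = r A i j u * r A i k v) :
    Half t Em (rs A hij) (rs A hik) (rs A hkj) Ya Yb := by
  have hcomm : ∀ u v, r A i j u * r A i k v = r A i k v * r A i j u := r_row A hij hik
  refine
    { tt := tt
      Ecomm := ?_, Esq := ?_, AE := ?_, BE := ?_, Eprod := ?_, disj := ?_, tE := ?_, tS := ?_
      AS := ?_, BS := ?_, BSsurj := ?_, BSinj := ?_, Ssq := ?_, Abig := ?_, Sbig := ?_, cent := ?_
      YaE := ?_, YaS := ?_, Yat := ?_, Yasurj := ?_, YbE := ?_, Ybt := ?_, Yacomm := ha.comm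
      AYa := ?_, Yafix := ?_ }
  · intro e he f hf
    obtain ⟨u, v, rfl⟩ := (hEm e).mp he
    obtain ⟨u', v', rfl⟩ := (hEm f).mp hf
    have c1 : Commute (r A i j u) (r A i k v') := hcomm u v'
    have c2 : Commute (r A i k v) (r A i j u') := (hcomm u' v).symm
    have c3 : Commute (r A i j u) (r A i j u') := by
      show _ = _; rw [r_add A hij, r_add A hij, add_comm]
    have c4 : Commute (r A i k v) (r A i k v') := by
      show _ = _; rw [r_add A hik, r_add A hik, add_comm]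
    exact ((c3.mul_right c1).mul_left (c2.mul_right c4))
  · intro e he
    obtain ⟨u, v, rfl⟩ := (hEm e).mp he
    calc r A i j u * r A i k v * (r A i j u * r A i k v)
        = r A i j u * (r A i k v * r A i j u) * r A i k v := by group
      _ = (r A i j u * r A i j u) * (r A i k v * r A i k v) := by rw [← hcomm]; group
      _ = 1 := by rw [r_sq A hij, r_sq A hik, mul_one]
  · rintro _ ⟨u, rfl⟩
    exact (hEm _).mpr ⟨u, 0, by rw [r_zero A hik, mul_one]⟩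
  · rintro _ ⟨v, rfl⟩
    exact (hEm _).mpr ⟨0, v, by rw [r_zero A hij, one_mul]⟩
  · intro e he
    obtain ⟨u, v, rfl⟩ := (hEm e).mp he
    exact ⟨_, ⟨u, rfl⟩, _, ⟨v, rfl⟩, rfl⟩
  · rintro x ⟨u, rfl⟩ ⟨v, e⟩
    rw [hdis u v e, r_zero A hij]
  · intro e he
    obtain ⟨u, v, rfl⟩ := (hEm e).mp he
    exact ht _ (L.mul_mem (r_mem A _ _ _) (r_mem A _ _ _))
  · rintro _ ⟨v, rfl⟩
    exact ht _ (r_mem A _ _ _)
  · rintro _ ⟨u, rfl⟩ _ ⟨v, rfl⟩
    exact r_col A hij hkj u v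
  · rintro _ ⟨u, rfl⟩ _ ⟨v, rfl⟩
    refine ⟨_, ⟨u * v, rfl⟩, ?_⟩
    rw [mul_assoc, r_sum A hij hik hkj.symm]; group
  · rintro _ ⟨u, rfl⟩ hu1 _ ⟨v, rfl⟩
    have hu : u ≠ 0 := fun h => hu1 (by rw [h, r_zero A hik])
    obtain ⟨m, hm⟩ : ∃ m, u * m = v :=
      (by decide : ∀ u v : F4, u ≠ 0 → ∃ m, u * m = v) u v hu
    refine ⟨_, ⟨m, rfl⟩, ?_⟩
    rw [mul_assoc, r_sum A hij hik hkj.symm, hm]; group
  · rintro _ ⟨u, rfl⟩ _ ⟨v, rfl⟩ hv1 e
    have hv : v ≠ 0 := fun h => hv1 (by rw [h, r_zero A hkj])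
    rw [mul_assoc, r_sum A hij hik hkj.symm] at e
    have e2 : r A i j (u * v) = 1 := by
      have e3 : r A i k u * r A i j (u * v) = r A i k u * 1 := by
        rw [mul_one]
        calc r A i k u * r A i j (u * v)
            = (r A k j v)⁻¹ * (r A k j v * r A i k u * r A i j (u * v)) := by group
          _ = r A i k u := e
      exact mul_left_cancel e3
    have hu : u = 0 := (by decide : ∀ u v : F4, v ≠ 0 → u * v = 0 → u = 0) u v hv (hinj _ e2)
    rw [hu, r_zero A hik]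
  · rintro _ ⟨u, rfl⟩
    exact r_sq A hkj u
  · rintro _ ⟨u, rfl⟩
    obtain ⟨m, hm0, hmu⟩ : ∃ m : F4, m ≠ 0 ∧ m ≠ u :=
      (by decide : ∀ u : F4, ∃ m : F4, m ≠ 0 ∧ m ≠ u) u
    refine ⟨_, ⟨m, rfl⟩, fun e => hm0 (hinj m e), fun e => hmu ?_⟩
    have e2 : r A i j (m + u) = 1 := by rw [← r_add A hij, e, r_sq A hij]
    exact (by decide : ∀ a b : F4, a + b = 0 → a = b) m u (hinj _ e2)
  · refine ⟨_, ⟨1, rfl⟩, _, ⟨F4.w, rfl⟩, fun e => ?_, fun e => ?_, fun e => ?_⟩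
    · have := hinj3 _ e; revert this; decide
    · have := hinj3 _ e; revert this; decide
    · rw [r_add A hkj] at e
      have := hinj3 _ e; revert this; decide
  · intro x hx hxe
    obtain ⟨u, v, h | h⟩ := cent x hx
      (fun u => hxe _ ((hEm _).mpr ⟨u, 0, by rw [r_zero A hik, mul_one]⟩))
      (fun v => hxe _ ((hEm _).mpr ⟨0, v, by rw [r_zero A hij, one_mul]⟩))
    · exact Or.inl ((hEm _).mpr ⟨u, v, h⟩)
    · exact Or.inr ((hEm _).mpr ⟨u, v, h⟩)
  · intro y hy e he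
    obtain ⟨u, v, rfl⟩ := (hEm e).mp he
    exact (Commute.mul_right (ha.c1 y hy u) (ha.c2 y hy v))
  · rintro y hy _ ⟨v, rfl⟩
    exact ha.c3 y hy v
  · intro y hy
    obtain ⟨u, e⟩ := ha.mv y hy
    exact ⟨_, ⟨u, rfl⟩, e⟩
  · rintro _ ⟨u, rfl⟩
    exact ha.surj u
  · intro y hy e he
    obtain ⟨u, v, rfl⟩ := (hEm e).mp he
    exact (Commute.mul_right (hb.c2 y hy u) (hb.c1 y hy v))
  · intro y hy
    obtain ⟨u, e⟩ := hb.mv y hy
    exact ⟨_, ⟨u, rfl⟩, e⟩
  · rintro _ ⟨u, rfl⟩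
    exact ha.le u
  · intro y hy e
    exact ha.fix y hy e

/-- column half data. -/
theorem half_col {t : X} {i j k : Fin 3} (hij : i ≠ j) (hik : i ≠ k) (hkj : k ≠ j)
    {Ya Yb : Subgroup X} (ha : RG A t i j k Ya) (hb : RG A t k j i Yb)
    (tt : t * t = 1) (ht : ∀ l ∈ L, t * l = l * t)
    (Em : Subgroup X) (hEm : ∀ x, x ∈ Em ↔ ∃ u v, x = r A i j u * r A k j v)
    (hdis : ∀ u v, r A i j u = r A k j v → u = 0)
    (hinj : ∀ u, r A i j u = 1 → u = 0) (hinj2 : ∀ u, r A k j u = 1 → u = 0)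
    (hinj3 : ∀ u, r A i k u = 1 → u = 0)
    (cent : ∀ x : X, x * t = t * x → (∀ u, x * r A i j u = r A i j u * x) →
      (∀ u, x * r A k j u = r A k j u * x) →
      ∃ u v, x = r A i j u * r A k j v ∨ x * t = r A i j u * r A k j v) :
    Half t Em (rs A hij) (rs A hkj) (rs A hik) Ya Yb := by
  have hcomm : ∀ u v, r A i j u * r A k j v = r A k j v * r A i j u := r_col A hij hkj
  -- x_ik(v)⁻¹ x_kj(u) x_ik(v) = x_kj(u) x_ij(uv)
  have hact : ∀ u v, (r A i k v)⁻¹ * r A k j u * r A i k v = r A k j u * r A i j (v * u) := by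
    intro u v
    have e := r_sum A hij hik hkj.symm v u
    -- x_ik(v) x_kj(u) = x_kj(u) x_ik(v) x_ij(vu)
    have e1 : r A i k v * r A k j u * r A i j (v * u) = r A k j u * r A i k v := by
      rw [e, mul_assoc, r_sq A hij, mul_one]
    calc (r A i k v)⁻¹ * r A k j u * r A i k v = (r A i k v)⁻¹ * (r A k j u * r A i k v) := by group
      _ = r A k j u * r A i j (v * u) := by rw [← e1]; group
  refine
    { tt := tt
      Ecomm := ?_, Esq := ?_, AE := ?_, BE := ?_, Eprod := ?_, disj := ?_, tE := ?_, tS := ?_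
      AS := ?_, BS := ?_, BSsurj := ?_, BSinj := ?_, Ssq := ?_, Abig := ?_, Sbig := ?_, cent := ?_
      YaE := ?_, YaS := ?_, Yat := ?_, Yasurj := ?_, YbE := ?_, Ybt := ?_, Yacomm := ha.comm
      AYa := ?_, Yafix := ?_ }
  · intro e he f hf
    obtain ⟨u, v, rfl⟩ := (hEm e).mp he
    obtain ⟨u', v', rfl⟩ := (hEm f).mp hf
    have c1 : Commute (r A i j u) (r A k j v') := hcomm u v'
    have c2 : Commute (r A k j v) (r A i j u') := (hcomm u' v).symm
    have c3 : Commute (r A i j u) (r A i j u') := by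
      show _ = _; rw [r_add A hij, r_add A hij, add_comm]
    have c4 : Commute (r A k j v) (r A k j v') := by
      show _ = _; rw [r_add A hkj, r_add A hkj, add_comm]
    exact ((c3.mul_right c1).mul_left (c2.mul_right c4))
  · intro e he
    obtain ⟨u, v, rfl⟩ := (hEm e).mp he
    calc r A i j u * r A k j v * (r A i j u * r A k j v)
        = r A i j u * (r A k j v * r A i j u) * r A k j v := by group
      _ = (r A i j u * r A i j u) * (r A k j v * r A k j v) := by rw [← hcomm]; group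
      _ = 1 := by rw [r_sq A hij, r_sq A hkj, mul_one]
  · rintro _ ⟨u, rfl⟩
    exact (hEm _).mpr ⟨u, 0, by rw [r_zero A hkj, mul_one]⟩
  · rintro _ ⟨v, rfl⟩
    exact (hEm _).mpr ⟨0, v, by rw [r_zero A hij, one_mul]⟩
  · intro e he
    obtain ⟨u, v, rfl⟩ := (hEm e).mp he
    exact ⟨_, ⟨u, rfl⟩, _, ⟨v, rfl⟩, rfl⟩
  · rintro x ⟨u, rfl⟩ ⟨v, e⟩
    rw [hdis u v e, r_zero A hij]
  · intro e he
    obtain ⟨u, v, rfl⟩ := (hEm e).mp he
    exact ht _ (L.mul_mem (r_mem A _ _ _) (r_mem A _ _ _))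
  · rintro _ ⟨v, rfl⟩
    exact ht _ (r_mem A _ _ _)
  · rintro _ ⟨u, rfl⟩ _ ⟨v, rfl⟩
    exact r_row A hij hik u v
  · rintro _ ⟨u, rfl⟩ _ ⟨v, rfl⟩
    exact ⟨_, ⟨v * u, rfl⟩, hact u v⟩
  · rintro _ ⟨u, rfl⟩ hu1 _ ⟨v, rfl⟩
    have hu : u ≠ 0 := fun h => hu1 (by rw [h, r_zero A hkj])
    obtain ⟨m, hm⟩ : ∃ m, m * u = v :=
      (by decide : ∀ u v : F4, u ≠ 0 → ∃ m, m * u = v) u v hu
    exact ⟨_, ⟨m, rfl⟩, by rw [hact, hm]⟩
  · rintro _ ⟨u, rfl⟩ _ ⟨v, rfl⟩ hv1 e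
    have hv : v ≠ 0 := fun h => hv1 (by rw [h, r_zero A hik])
    rw [hact] at e
    have e2 : r A i j (v * u) = 1 := by
      have e3 : r A k j u * r A i j (v * u) = r A k j u * 1 := by rw [mul_one]; exact e
      exact mul_left_cancel e3
    have hu : u = 0 := (by decide : ∀ u v : F4, v ≠ 0 → v * u = 0 → u = 0) u v hv (hinj _ e2)
    rw [hu, r_zero A hkj]
  · rintro _ ⟨u, rfl⟩
    exact r_sq A hik u
  · rintro _ ⟨u, rfl⟩
    obtain ⟨m, hm0, hmu⟩ : ∃ m : F4, m ≠ 0 ∧ m ≠ u :=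
      (by decide : ∀ u : F4, ∃ m : F4, m ≠ 0 ∧ m ≠ u) u
    refine ⟨_, ⟨m, rfl⟩, fun e => hm0 (hinj m e), fun e => hmu ?_⟩
    have e2 : r A i j (m + u) = 1 := by rw [← r_add A hij, e, r_sq A hij]
    exact (by decide : ∀ a b : F4, a + b = 0 → a = b) m u (hinj _ e2)
  · refine ⟨_, ⟨1, rfl⟩, _, ⟨F4.w, rfl⟩, fun e => ?_, fun e => ?_, fun e => ?_⟩
    · have := hinj3 _ e; revert this; decide
    · have := hinj3 _ e; revert this; decide
    · rw [r_add A hik] at e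
      have := hinj3 _ e; revert this; decide
  · intro x hx hxe
    obtain ⟨u, v, h | h⟩ := cent x hx
      (fun u => hxe _ ((hEm _).mpr ⟨u, 0, by rw [r_zero A hkj, mul_one]⟩))
      (fun v => hxe _ ((hEm _).mpr ⟨0, v, by rw [r_zero A hij, one_mul]⟩))
    · exact Or.inl ((hEm _).mpr ⟨u, v, h⟩)
    · exact Or.inr ((hEm _).mpr ⟨u, v, h⟩)
  · intro y hy e he
    obtain ⟨u, v, rfl⟩ := (hEm e).mp he
    exact (Commute.mul_right (ha.c1 y hy u) (ha.c3 y hy v))
  · rintro y hy _ ⟨v, rfl⟩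
    exact ha.c2 y hy v
  · intro y hy
    obtain ⟨u, e⟩ := ha.mv y hy
    exact ⟨_, ⟨u, rfl⟩, e⟩
  · rintro _ ⟨u, rfl⟩
    exact ha.surj u
  · intro y hy e he
    obtain ⟨u, v, rfl⟩ := (hEm e).mp he
    exact (Commute.mul_right (hb.c3 y hy u) (hb.c1 y hy v))
  · intro y hy
    obtain ⟨u, e⟩ := hb.mv y hy
    exact ⟨_, ⟨u, rfl⟩, e⟩
  · rintro _ ⟨u, rfl⟩
    exact ha.le u
  · intro y hy e
    exact ha.fix y hy e

/-- All the input of the growth argument. -/
structure Setup (A : Dat L) (t : X) : Prop extends Inp A t where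
  centR : ∀ x : X, x * t = t * x → (∀ u, x * r A 0 2 u = r A 0 2 u * x) →
      (∀ u, x * r A 0 1 u = r A 0 1 u * x) →
      ∃ u v, x = r A 0 2 u * r A 0 1 v ∨ x * t = r A 0 2 u * r A 0 1 v
  centC : ∀ x : X, x * t = t * x → (∀ u, x * r A 0 2 u = r A 0 2 u * x) →
      (∀ u, x * r A 1 2 u = r A 1 2 u * x) →
      ∃ u v, x = r A 0 2 u * r A 1 2 v ∨ x * t = r A 0 2 u * r A 1 2 v

theorem E_eq (a b c : F4) : E A ⟨a, b, c⟩ = r A 0 1 a * r A 1 2 b * r A 0 2 c := rfl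

theorem E_zero {a b c : F4} (h : E A ⟨a, b, c⟩ = 1) : a = 0 ∧ b = 0 ∧ c = 0 := by
  rw [← E_one A] at h
  have h2 := E_inj A h
  exact ⟨congrArg Code.a h2, congrArg Code.b h2, congrArg Code.c h2⟩

theorem inj01 (u : F4) (h : r A 0 1 u = 1) : u = 0 := by
  rw [r_E01] at h; exact (E_zero h).1
theorem inj12 (u : F4) (h : r A 1 2 u = 1) : u = 0 := by
  rw [r_E12] at h; exact (E_zero h).2.1
theorem inj02 (u : F4) (h : r A 0 2 u = 1) : u = 0 := by
  rw [r_E02] at h; exact (E_zero h).2.2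

/-- all root maps are injective -/
theorem inj_swap {a b i j : Fin 3} (hab : a ≠ b) (hij : i ≠ j)
    (h0 : ∀ u, r A i j u = 1 → u = 0) (u : F4)
    (h : r A (Equiv.swap a b i) (Equiv.swap a b j) u = 1) : u = 0 := by
  apply h0
  rw [← wey_r' hab hij u, h]; group

theorem inj21 (u : F4) (h : r A 2 1 u = 1) : u = 0 :=
  inj_swap (a := 1) (b := 2) (by decide) (by decide) inj12 u h
theorem inj10 (u : F4) (h : r A 1 0 u = 1) : u = 0 :=
  inj_swap (a := 0) (b := 1) (by decide) (by decide) inj01 u h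

theorem dis1 (u v : F4) (h : r A 0 2 u = r A 0 1 v) : u = 0 := by
  rw [r_E02, r_E01] at h
  exact congrArg Code.c (E_inj A h)
theorem dis1' (u v : F4) (h : r A 0 1 u = r A 0 2 v) : u = 0 := by
  rw [r_E02, r_E01] at h
  exact congrArg Code.a (E_inj A h)
theorem dis2 (u v : F4) (h : r A 0 2 u = r A 1 2 v) : u = 0 := by
  rw [r_E02, r_E12] at h
  exact congrArg Code.c (E_inj A h)
theorem dis2' (u v : F4) (h : r A 1 2 u = r A 0 2 v) : u = 0 := by
  rw [r_E02, r_E12] at h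
  exact congrArg Code.b (E_inj A h)

namespace Setup

variable {t : X}

/-- `Y₁₃` -/
def Y3 (S : Setup A t) : Subgroup X := S.toInp.Y0
/-- `Y₁₂` -/
def Y1 (S : Setup A t) : Subgroup X := cs ((wey A 1 2 : L) : X) S.Y3
/-- `Y₂₃` -/
def Y2 (S : Setup A t) : Subgroup X := cs ((wey A 0 1 : L) : X) S.Y3

theorem rg3 (S : Setup A t) : RG A t 0 2 1 S.Y3 := rg_init S.toInp

theorem rg1 (S : Setup A t) : RG A t 0 1 2 S.Y1 :=
  RG.conj (a := 1) (b := 2) S.rg3 S.tL (by decide) (by decide) (by decide) (by decide)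

theorem rg2 (S : Setup A t) : RG A t 1 2 0 S.Y2 :=
  RG.conj (a := 0) (b := 1) S.rg3 S.tL (by decide) (by decide) (by decide) (by decide)

/-- the row group -/
def ER (A : Dat L) : Subgroup X := es A (i := 0) (j := 2) (k := 0) (l := 1) (by decide) (by decide)
  (r_row A (by decide) (by decide))
/-- the column group -/
def EC (A : Dat L) : Subgroup X := es A (i := 0) (j := 2) (k := 1) (l := 2) (by decide) (by decide)
  (r_col A (by decide) (by decide))

theorem half1 (S : Setup A t) : Half t (ER A) (rs A (i := 0) (j := 2) (by decide))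
    (rs A (i := 0) (j := 1) (by decide)) (rs A (i := 1) (j := 2) (by decide)) S.Y3 S.Y1 :=
  half_row (by decide) (by decide) (by decide) S.rg3 S.rg1 S.tt S.tL (ER A) (fun x => Iff.rfl)
    dis1 inj02 inj01 inj12 S.centR

theorem half1' (S : Setup A t) : Half t (ER A) (rs A (i := 0) (j := 1) (by decide))
    (rs A (i := 0) (j := 2) (by decide)) (rs A (i := 2) (j := 1) (by decide)) S.Y1 S.Y3 := by
  refine half_row (by decide) (by decide) (by decide) S.rg1 S.rg3 S.tt S.tL (ER A) (fun x => ?_)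
    dis1' inj01 inj02 inj21 ?_
  · constructor
    · rintro ⟨u, v, rfl⟩
      exact ⟨v, u, r_row A (by decide) (by decide) u v⟩
    · rintro ⟨u, v, rfl⟩
      exact ⟨v, u, r_row A (by decide) (by decide) u v⟩
  · intro x h1 h2 h3
    obtain ⟨u, v, h⟩ := S.centR x h1 h3 h2
    refine ⟨v, u, ?_⟩
    rw [r_row A (by decide) (by decide)] at h
    exact h

theorem half2 (S : Setup A t) : Half t (EC A) (rs A (i := 0) (j := 2) (by decide))
    (rs A (i := 1) (j := 2) (by decide)) (rs A (i := 0) (j := 1) (by decide)) S.Y3 S.Y2 :=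
  half_col (by decide) (by decide) (by decide) S.rg3 S.rg2 S.tt S.tL (EC A) (fun x => Iff.rfl)
    dis2 inj02 inj12 inj01 S.centC

theorem half2' (S : Setup A t) : Half t (EC A) (rs A (i := 1) (j := 2) (by decide))
    (rs A (i := 0) (j := 2) (by decide)) (rs A (i := 1) (j := 0) (by decide)) S.Y2 S.Y3 := by
  refine half_col (by decide) (by decide) (by decide) S.rg2 S.rg3 S.tt S.tL (EC A) (fun x => ?_)
    dis2' inj12 inj02 inj10 ?_
  · constructor
    · rintro ⟨u, v, rfl⟩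
      exact ⟨v, u, r_col A (by decide) (by decide) u v⟩
    · rintro ⟨u, v, rfl⟩
      exact ⟨v, u, r_col A (by decide) (by decide) u v⟩
  · intro x h1 h2 h3
    obtain ⟨u, v, h⟩ := S.centC x h1 h3 h2
    refine ⟨v, u, ?_⟩
    rw [r_col A (by decide) (by decide)] at h
    exact h

theorem three (S : Setup A t) : Three t (rs A (i := 0) (j := 1) (by decide))
    (rs A (i := 1) (j := 2) (by decide)) (rs A (i := 0) (j := 2) (by decide)) S.Y1 S.Y2 S.Y3 where
  tt := S.tt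
  sq1 y hy := S.half1.sq_one S.half1' hy
  sq2 y hy := S.half2.sq_one S.half2' hy
  sq3 y hy := S.half1'.sq_one S.half1 hy
  le1 := by rintro _ ⟨u, rfl⟩; exact S.rg1.le u
  le2 := by rintro _ ⟨u, rfl⟩; exact S.rg2.le u
  le3 := by rintro _ ⟨u, rfl⟩; exact S.rg3.le u
  t1 := by rintro _ ⟨u, rfl⟩; exact S.tL _ (r_mem A _ _ _)
  t2 := by rintro _ ⟨u, rfl⟩; exact S.tL _ (r_mem A _ _ _)
  t3 := by rintro _ ⟨u, rfl⟩; exact S.tL _ (r_mem A _ _ _)
  Yt1 y hy := by obtain ⟨u, e⟩ := S.rg1.mv y hy; exact ⟨_, ⟨u, rfl⟩, e⟩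
  Yt2 y hy := by obtain ⟨u, e⟩ := S.rg2.mv y hy; exact ⟨_, ⟨u, rfl⟩, e⟩
  Yt3 y hy := by obtain ⟨u, e⟩ := S.rg3.mv y hy; exact ⟨_, ⟨u, rfl⟩, e⟩
  surj1 := by rintro _ ⟨u, rfl⟩; exact S.rg1.surj u
  surj2 := by rintro _ ⟨u, rfl⟩; exact S.rg2.surj u
  surj3 := by rintro _ ⟨u, rfl⟩; exact S.rg3.surj u
  fix1 := S.rg1.fix
  fix2 := S.rg2.fix
  fix3 := S.rg3.fix
  c13 y hy z hz := (S.half1.comm S.half1' hz hy).symm
  c23 y hy z hz := (S.half2.comm S.half2' hz hy).symm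
  Y1X2 := by
    intro y hy x hx
    obtain ⟨b, hb, e⟩ := S.half1.Ybt y hy
    obtain ⟨u, hu, e2⟩ := S.half1.BS b hb x hx
    obtain ⟨z, hz, -, e3⟩ := S.half1.conj_mem S.half1' hy hx hb e hu e2
    exact ⟨z, hz, e3⟩
  Y2X1 := by
    intro y hy x hx
    obtain ⟨b, hb, e⟩ := S.half2.Ybt y hy
    obtain ⟨u, hu, e2⟩ := S.half2.BS b hb x hx
    obtain ⟨z, hz, -, e3⟩ := S.half2.conj_mem S.half2' hy hx hb e hu e2
    exact ⟨z, hz, e3⟩
  uniq := by
    rintro _ ⟨u, rfl⟩ _ ⟨v, rfl⟩ ⟨w, e⟩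
    have h1 : E A ⟨u, v, 0⟩ = E A ⟨0, 0, w⟩ := by
      rw [E_eq, E_eq, r_zero A (by decide), r_zero A (by decide), r_zero A (by decide), e]; simp
    have h2 := E_inj A h1
    have h3 : u = 0 := congrArg Code.a h2
    have h4 : v = 0 := congrArg Code.b h2
    exact ⟨by rw [h3, r_zero A (by decide)], by rw [h4, r_zero A (by decide)]⟩
  big3 := ⟨_, ⟨1, rfl⟩, fun h => by have := inj02 _ h; revert this; decide⟩
  cent1 := by
    intro x h1 h2 h3
    obtain ⟨u, v, h⟩ := S.centR x h1 (fun u => h3 _ ⟨u, rfl⟩) (fun u => h2 _ ⟨u, rfl⟩)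
    rw [r_row A (by decide) (by decide)] at h
    exact ⟨_, ⟨v, rfl⟩, _, ⟨u, rfl⟩, h⟩
  cent2 := by
    intro x h1 h2 h3
    obtain ⟨u, v, h⟩ := S.centC x h1 (fun u => h3 _ ⟨u, rfl⟩) (fun u => h2 _ ⟨u, rfl⟩)
    rw [r_col A (by decide) (by decide)] at h
    exact ⟨_, ⟨v, rfl⟩, _, ⟨u, rfl⟩, h⟩

/-- **The group `U`** (order `2^12`). -/
def U (S : Setup A t) : Subgroup X := S.three.U

theorem E_mem_U (S : Setup A t) (p : Code) : E A p ∈ S.U := by
  obtain ⟨a, b, c⟩ := p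
  rw [E_eq]
  exact ⟨_, S.rg1.le a, _, S.rg2.le b, _, S.rg3.le c, rfl⟩

theorem t_notMem_U (S : Setup A t) : t ∉ S.U :=
  S.three.t_notMem ⟨_, ⟨1, rfl⟩, fun h => by have := inj01 _ h; revert this; decide⟩

theorem t_conj_U (S : Setup A t) {x : X} (hx : x ∈ S.U) : t * x * t ∈ S.U := S.three.t_conj hx

theorem conj_of_invol (S : Setup A t) {u : X} (hu : u ∈ S.U) (hs : (t * u) * (t * u) = 1) :
    ∃ w ∈ S.U, t * u = w⁻¹ * t * w := S.three.conj_of_invol hu hs

end Setup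

end Cfsg.Agent.StdL3.OneGrow
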