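import Cfsg.Agent.StdL3.OneOut
import Cfsg.Agent.StdL3.HeisCoord

set_option autoImplicit false
set_option linter.constructorNameAsVariable false
set_option linter.unusedVariables false

/-!
# The grown group `U` is `Heis (Q ν)`: `Setup A t → Pack U t`
-/

namespace Cfsg.Agent.StdL3.OneGrow

open Cfsg.Agent.LThreeFour
open Cfsg.Agent.SporadicA.FieldFour
open Cfsg.Agent.ONType.Psl (kap)
open Cfsg.Agent.StdL3.OneRoot
open Cfsg.Agent.StdL3.OneY
open Cfsg.Agent.StdL3.OnePair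
open Cfsg.Agent.StdL3.OneThree
open Cfsg.Agent.StdL3.HeisCoord

variable {X : Type*} [Group X] {L : Subgroup X} {A : Dat L} {t : X}

namespace Setup

/-- conjugation by `h⁻¹` -/
def HC (A : Dat L) : X →* X := (MulAut.conj (hh A)⁻¹).toMonoidHom

theorem HC_apply (x : X) : HC A x = (hh A)⁻¹ * x * hh A := by
  change (hh A)⁻¹ * x * ((hh A)⁻¹)⁻¹ = _
  rw [inv_inv]

/-- conjugation by `t` -/
def TC (t : X) : X →* X := (MulAut.conj t).toMonoidHom

theorem TC_apply (x : X) : TC t x = t * x * t⁻¹ := rfl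

theorem TC_of (S : Setup A t) {y : X} {i j : Fin 3} {u : F4} (h : t * y = y * (t * r A i j u)) :
    TC t y = y * r A i j u := by
  have h1 := S.tL _ (r_mem A i j u)
  rw [TC_apply, h, h1]; group

theorem TC_fix (S : Setup A t) {y : X} : TC t y = y ↔ t * y = y * t := by
  rw [TC_apply]
  constructor
  · intro h
    calc t * y = t * y * t⁻¹ * t := by group
      _ = y * t := by rw [h]
  · intro h
    rw [h]; group

theorem t_hh (S : Setup A t) : t * hh A = hh A * t := S.tL _ (hh_mem A)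

theorem grown (S : Setup A t) :
    Grown (TC t) (HC A) S.Y1 S.Y2 S.Y3 S.U (r A 0 1) (r A 1 2) (r A 0 2) where
  card1 := S.card_Y1
  card2 := S.card_Y2
  card3 := S.card_Y3
  cardU := S.card_U
  sq1 := S.three.sq1
  sq2 := S.three.sq2
  sq3 := S.three.sq3
  le1 := S.three.Y1_le
  le2 := S.three.Y2_le
  le3 := S.three.Y3_le
  gen := by
    rintro u ⟨y1, h1, y2, h2, y3, h3, rfl⟩
    exact ⟨y1, h1, y2, h2, y3, h3, rfl⟩
  c13 := S.three.c13
  c23 := S.three.c23
  c12 := by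
    intro y hy y' hy'
    obtain ⟨z, hz, h⟩ := S.three.comm12 hy hy'
    refine ⟨z⁻¹, S.Y3.inv_mem hz, ?_⟩
    rw [h]; group
  TH := by
    intro y
    have h1 := S.t_hh
    have h2 : t * (hh A)⁻¹ = (hh A)⁻¹ * t := by
      calc t * (hh A)⁻¹ = (hh A)⁻¹ * (hh A * t) * (hh A)⁻¹ := by group
        _ = (hh A)⁻¹ * (t * hh A) * (hh A)⁻¹ := by rw [h1]
        _ = (hh A)⁻¹ * t := by group
    have h3 : hh A * t⁻¹ = t⁻¹ * hh A := by
      calc hh A * t⁻¹ = t⁻¹ * (t * hh A) * t⁻¹ := by group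
        _ = t⁻¹ * (hh A * t) * t⁻¹ := by rw [h1]
        _ = t⁻¹ * hh A := by group
    rw [HC_apply, HC_apply, TC_apply, TC_apply]
    calc t * ((hh A)⁻¹ * y * hh A) * t⁻¹ = (t * (hh A)⁻¹) * y * (hh A * t⁻¹) := by group
      _ = (hh A)⁻¹ * (t * y * t⁻¹) * hh A := by rw [h2, h3]; group
  HHH := by
    intro y
    rw [HC_apply, HC_apply, HC_apply]
    have h := hh_cube A
    have h' : (hh A)⁻¹ * (hh A)⁻¹ * (hh A)⁻¹ = 1 := by
      calc (hh A)⁻¹ * (hh A)⁻¹ * (hh A)⁻¹ = (hh A * hh A * hh A)⁻¹ := by group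
        _ = 1 := by rw [h, inv_one]
    calc (hh A)⁻¹ * ((hh A)⁻¹ * ((hh A)⁻¹ * y * hh A) * hh A) * hh A
        = ((hh A)⁻¹ * (hh A)⁻¹ * (hh A)⁻¹) * y * (hh A * hh A * hh A) := by group
      _ = y := by rw [h, h']; group
  T3 := by
    intro y hy
    obtain ⟨u, hu⟩ := S.rg3.mv y hy
    rw [S.TC_of hu]
    exact S.Y3.mul_mem hy (S.rg3.le u)
  H1 := by
    intro y hy
    rw [HC_apply]; exact S.h_Y1 hy
  H2 := by
    intro y hy
    rw [HC_apply]; exact S.h_Y2 hy
  H3 := by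
    intro y hy
    rw [HC_apply]; exact S.h_Y3 hy
  fix1 := by
    intro y hy h
    rw [HC_apply] at h
    exact S.rg1.h_fix S.tL (by decide) inj01 hy h
  fix2 := by
    intro y hy h
    rw [HC_apply] at h
    exact S.rg2.h_fix S.tL (by decide) inj12 hy h
  fix3 := by
    intro y hy h
    rw [HC_apply] at h
    exact S.rg3.h_fix S.tL (by decide) inj02 hy h
  m1 := S.rg1.le
  m2 := S.rg2.le
  m3 := S.rg3.le
  a1 := fun a b => (r_add A (by decide) a b).symm
  a2 := fun a b => (r_add A (by decide) a b).symm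
  a3 := fun a b => (r_add A (by decide) a b).symm
  i1 := inj01
  i2 := inj12
  i3 := inj02
  h1 := by
    intro a
    rw [HC_apply]
    exact congrArg Subtype.val (A.h_x 0 1 (by decide) a)
  h2 := by
    intro a
    rw [HC_apply]
    exact congrArg Subtype.val (A.h_x 1 2 (by decide) a)
  h3 := by
    intro a
    rw [HC_apply]
    exact congrArg Subtype.val (A.h_x 0 2 (by decide) a)
  comm := fun a b => r_sum A (by decide) (by decide) (by decide) a b
  t1 := fun a => S.TC_fix.2 (S.tL _ (r_mem A _ _ a))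
  t2 := fun a => S.TC_fix.2 (S.tL _ (r_mem A _ _ a))
  t3 := fun a => S.TC_fix.2 (S.tL _ (r_mem A _ _ a))
  lift1 := by
    obtain ⟨y, hy, h⟩ := S.rg1.surj 1
    exact ⟨y, hy, S.TC_of h⟩
  lift2 := by
    obtain ⟨y, hy, h⟩ := S.rg2.surj 1
    exact ⟨y, hy, S.TC_of h⟩
  tfix3 := by
    intro y hy h
    exact S.rg3.fix y hy (S.TC_fix.1 h)

/-- `Pack U t`. -/
theorem pack (S : Setup A t) (t' : MulAut S.U) (ht' : ∀ u : S.U, (t' u : X) = t * u * t⁻¹) :
    Cfsg.Agent.StdL3.Pack.Pack S.U t' :=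
  S.grown.pack t' (fun u => by rw [ht', TC_apply])

end Setup

end Cfsg.Agent.StdL3.OneGrow
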