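import Cfsg.Agent.StdL3.OneOut
import Cfsg.Agent.StdL3.OneCentral
import Cfsg.Agent.StdL3.HeisCoord
import Cfsg.Agent.LThreeFour.Exists

set_option autoImplicit false
set_option linter.constructorNameAsVariable false
set_option linter.unusedVariables false

/-!
# Growth of `<t> × L₃(4)` in `G`, in the presence of an odd core `O`
-/

namespace Cfsg.Agent.StdL3.OneLift

open Cfsg.Agent.LThreeFour
open Cfsg.Agent.SporadicA.FieldFour
open Cfsg.Agent.ONType.Psl (kap)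
open Cfsg.Agent.StdL3.OneRoot
open Cfsg.Agent.StdL3.OneY
open Cfsg.Agent.StdL3.OneGrow
open Cfsg.Agent.StdL3.OneCentral
open Cfsg.Agent.StdL3.HeisCoord

variable {G : Type*} [Group G] {L : Subgroup G}

/-- The input in `G`. -/
structure GInp (A : Dat L) (t n : G) (O : Subgroup G) : Prop where
  tt : t * t = 1
  tn : t ∉ L
  tL : ∀ l ∈ L, t * l = l * t
  Oodd : Odd (Nat.card O)
  Ot : ∀ o ∈ O, o * t = t * o
  OL : ∀ o ∈ O, ∀ l ∈ L, o * l = l * o
  cent : ∀ x : G, x * t = t * x → (∀ p, x * E A p = E A p * x) →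
    ∃ o ∈ O, ∃ c, x = o * z A c ∨ x = o * t * z A c
  centR : ∀ x : G, x * t = t * x → (∀ u, x * r A 0 2 u = r A 0 2 u * x) →
      (∀ u, x * r A 0 1 u = r A 0 1 u * x) →
      ∃ o ∈ O, ∃ u v, x = o * (r A 0 2 u * r A 0 1 v) ∨ x = o * t * (r A 0 2 u * r A 0 1 v)
  centC : ∀ x : G, x * t = t * x → (∀ u, x * r A 0 2 u = r A 0 2 u * x) →
      (∀ u, x * r A 1 2 u = r A 1 2 u * x) →
      ∃ o ∈ O, ∃ u v, x = o * (r A 0 2 u * r A 1 2 v) ∨ x = o * t * (r A 0 2 u * r A 1 2 v)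
  nT : ∀ p, ∃ q, n⁻¹ * E A p * n = E A q
  nO : ∀ o ∈ O, n⁻¹ * o * n ∈ O
  mv : ∃ τ, τ ≠ 0 ∧ n⁻¹ * t * n = t * z A τ

/-- conjugation `x ↦ g x g⁻¹` as a homomorphism -/
def cjh (g : G) : G →* G := (MulAut.conj g).toMonoidHom

theorem cjh_apply (g x : G) : cjh g x = g * x * g⁻¹ := rfl

/-- The output in `G`. -/
structure GOut (A : Dat L) (t : G) (O Y1 Y2 Y3 U : Subgroup G) : Prop where
  grown : Grown (cjh t) (cjh (hh A)⁻¹) Y1 Y2 Y3 U (r A 0 1) (r A 1 2) (r A 0 2)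
  cO : ∀ o ∈ O, ∀ u ∈ U, o * u = u * o
  mv1 : ∀ y ∈ Y1, ∃ u, t * y * t⁻¹ = y * r A 0 1 u
  mv2 : ∀ y ∈ Y2, ∃ u, t * y * t⁻¹ = y * r A 1 2 u
  mv3 : ∀ y ∈ Y3, ∃ u, t * y * t⁻¹ = y * r A 0 2 u
  fx1 : ∀ y ∈ Y1, t * y = y * t → ∃ u, y = r A 0 1 u
  fx2 : ∀ y ∈ Y2, t * y = y * t → ∃ u, y = r A 1 2 u
  fx3 : ∀ y ∈ Y3, t * y = y * t → ∃ u, y = r A 0 2 u

namespace GInp

variable {A : Dat L} {t n : G} {O : Subgroup G}

/-- `C_G(O)` -/
abbrev CC (O : Subgroup G) : Subgroup G := Subgroup.centralizer (O : Set G)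

/-- `Z(O)` as a subgroup of `C_G(O)` -/
abbrev NN (O : Subgroup G) : Subgroup (CC O) := O.subgroupOf (CC O)

theorem mem_CC {x : G} : x ∈ CC O ↔ ∀ o ∈ O, o * x = x * o := Subgroup.mem_centralizer_iff

theorem NN_center : NN O ≤ Subgroup.center (CC O) := by
  intro x hx
  rw [Subgroup.mem_center_iff]
  intro g
  apply Subtype.ext
  have h1 : (x : G) ∈ O := hx
  exact (mem_CC.mp g.2 _ h1).symm

instance : (NN O).Normal := ⟨fun x hx g => by
  have h1 := Subgroup.mem_center_iff.mp (NN_center hx) g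
  rw [h1, mul_assoc, mul_inv_cancel, mul_one]; exact hx⟩

theorem NN_odd [Finite G] (H : GInp A t n O) : Odd (Nat.card (NN O)) := by
  have h1 : Nat.card (NN O) ∣ Nat.card O := by
    have h2 : Nat.card (NN O) = Nat.card ((NN O).map (CC O).subtype) :=
      Nat.card_congr (Subgroup.equivMapOfInjective _ _ (CC O).subtype_injective).toEquiv
    rw [h2]
    apply Subgroup.card_dvd_of_le
    rintro _ ⟨x, hx, rfl⟩
    exact hx
  exact H.Oodd.of_dvd_nat h1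

theorem L_le (H : GInp A t n O) : L ≤ CC O := fun l hl => mem_CC.mpr fun o ho => H.OL o ho l hl

theorem t_mem (H : GInp A t n O) : t ∈ CC O := mem_CC.mpr fun o ho => H.Ot o ho

theorem L_inf_O (H : GInp A t n O) {l : G} (hl : l ∈ L) (ho : l ∈ O) : l = 1 := by
  have h1 : MulAut.conj (⟨l, hl⟩ : L) = 1 := by
    ext x
    have h2 := H.OL l ho x x.2
    show l * (x : G) * l⁻¹ = x
    rw [h2]; group
  have h2 := A.conj_eq_one h1
  exact congrArg Subtype.val h2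

/-- the embedding of `L` in `X = C_G(O)/Z(O)` -/
def psi (H : GInp A t n O) : L →* CC O ⧸ NN O :=
  (QuotientGroup.mk' (NN O)).comp (Subgroup.inclusion H.L_le)

theorem psi_inj (H : GInp A t n O) : Function.Injective H.psi := by
  rw [injective_iff_map_eq_one]
  intro l hl
  have h1 : (⟨(l : G), H.L_le l.2⟩ : CC O) ∈ NN O := (QuotientGroup.eq_one_iff _).mp hl
  have h2 : (l : G) ∈ O := h1
  exact Subtype.ext (H.L_inf_O l.2 h2)

/-- the coordinates of the image of `L` -/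
noncomputable def A' (H : GInp A t n O) : Dat H.psi.range := A.map (MonoidHom.ofInjective H.psi_inj)

/-- the class of an element of `C_G(O)` -/
def cl (O : Subgroup G) (x : G) (hx : x ∈ CC O) : CC O ⧸ NN O := QuotientGroup.mk ⟨x, hx⟩

theorem cl_mul {x y : G} (hx : x ∈ CC O) (hy : y ∈ CC O) :
    cl O x hx * cl O y hy = cl O (x * y) ((CC O).mul_mem hx hy) := rfl

theorem cl_inv {x : G} (hx : x ∈ CC O) :
    (cl O x hx)⁻¹ = cl O x⁻¹ ((CC O).inv_mem hx) := rfl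

theorem cl_congr {x y : G} (hx : x ∈ CC O) (hy : y ∈ CC O) (h : x = y) :
    cl O x hx = cl O y hy := by subst h; rfl

theorem cl_one : cl O 1 (CC O).one_mem = 1 := rfl

theorem cl_surj (x : CC O ⧸ NN O) : ∃ g, ∃ hg : g ∈ CC O, cl O g hg = x := by
  obtain ⟨⟨g, hg⟩, rfl⟩ := QuotientGroup.mk_surjective x
  exact ⟨g, hg, rfl⟩

theorem cl_eq {x y : G} (hx : x ∈ CC O) (hy : y ∈ CC O) (h : cl O x hx = cl O y hy) :
    x⁻¹ * y ∈ O := by
  have := QuotientGroup.eq.mp h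
  exact this

theorem r_mem' (H : GInp A t n O) (i j : Fin 3) (u : F4) : r A i j u ∈ CC O :=
  H.L_le (r_mem A i j u)

theorem E_mem' (H : GInp A t n O) (p : Code) : E A p ∈ CC O := H.L_le (E_mem A p)

theorem hh_mem' (H : GInp A t n O) : hh A ∈ CC O := H.L_le (hh_mem A)

theorem r_A' (H : GInp A t n O) (i j : Fin 3) (u : F4) :
    r H.A' i j u = cl O (r A i j u) (H.r_mem' i j u) := rfl

theorem hh_A' (H : GInp A t n O) : hh H.A' = cl O (hh A) H.hh_mem' := rfl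

theorem E_A' (H : GInp A t n O) (p : Code) : E H.A' p = cl O (E A p) (H.E_mem' p) := by
  have h1 : E H.A' p = r H.A' 0 1 p.a * r H.A' 1 2 p.b * r H.A' 0 2 p.c := rfl
  have h2 : E A p = r A 0 1 p.a * r A 1 2 p.b * r A 0 2 p.c := rfl
  rw [h1, r_A', r_A', r_A', cl_mul, cl_mul]
  rfl

theorem z_mem' (H : GInp A t n O) (c : F4) : z A c ∈ CC O := H.E_mem' _

theorem z_A' (H : GInp A t n O) (c : F4) : z H.A' c = cl O (z A c) (H.z_mem' c) := H.E_A' _

/-- `t` in `X` -/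
def t' (H : GInp A t n O) : CC O ⧸ NN O := cl O t H.t_mem

theorem E_pow (p : Code) : (E A p) ^ (2 ^ 2) = 1 := by
  have h1 : ∀ p : Code, cmul (cmul p p) (cmul p p) = cone := by
    intro ⟨a, b, c⟩
    have : ∀ a b c : F4, cmul (cmul ⟨a, b, c⟩ ⟨a, b, c⟩) (cmul ⟨a, b, c⟩ ⟨a, b, c⟩) = cone := by
      decide +kernel
    exact this a b c
  have h2 : E A p ^ (2 ^ 2) = E A p * E A p * (E A p * E A p) := by
    rw [show (2 : ℕ) ^ 2 = 2 * 2 by norm_num, pow_mul, pow_two, pow_two]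
  rw [h2, E_mul, E_mul, h1, E_one]

theorem comm_lift [Finite G] (H : GInp A t n O) {x g : G} (hx : x ∈ CC O) (hg : g ∈ CC O) {k : ℕ}
    (hk : g ^ (2 ^ k) = 1) (h : cl O x hx * cl O g hg = cl O g hg * cl O x hx) : x * g = g * x := by
  have h1 := commute_of_quot (N := NN O) NN_center H.NN_odd (x := ⟨x, hx⟩) (g := ⟨g, hg⟩) (k := k)
    (Subtype.ext (by simpa using hk)) h
  exact congrArg Subtype.val h1

theorem t_pow (H : GInp A t n O) : t ^ (2 ^ 1) = 1 := by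
  rw [pow_one, pow_two]; exact H.tt

theorem t'_mul (H : GInp A t n O) : H.t' * H.t' = 1 := by
  rw [t', cl_mul, ← cl_one]
  congr 1
  exact H.tt

theorem t'_z (H : GInp A t n O) {x : G} (hx : x ∈ CC O) {o y : G} (ho : o ∈ O) (hy : y ∈ L)
    (h : x = o * y ∨ x = o * t * y) : cl O x hx = cl O y (H.L_le hy) ∨
      cl O x hx * H.t' = cl O y (H.L_le hy) := by
  have hoC : o ∈ CC O := by
    rcases h with h | h
    · have : o = x * y⁻¹ := by rw [h]; group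
      rw [this]; exact (CC O).mul_mem hx ((CC O).inv_mem (H.L_le hy))
    · have : o = x * y⁻¹ * t⁻¹ := by rw [h]; group
      rw [this]
      exact (CC O).mul_mem ((CC O).mul_mem hx ((CC O).inv_mem (H.L_le hy)))
        ((CC O).inv_mem H.t_mem)
  have ho1 : cl O o hoC = 1 := (QuotientGroup.eq_one_iff _).mpr ho
  rcases h with h | h
  · left
    subst h
    rw [← cl_mul hoC (H.L_le hy), ho1, one_mul]
  · right
    subst h
    have e1 : cl O (o * t * y) hx = cl O o hoC * H.t' * cl O y (H.L_le hy) := rfl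
    have e2 : H.t' * cl O y (H.L_le hy) = cl O y (H.L_le hy) * H.t' := by
      rw [t', cl_mul, cl_mul]
      exact cl_congr _ _ (H.tL y hy)
    rw [e1, ho1, one_mul, e2, mul_assoc, H.t'_mul, mul_one]

/-- the setup in `X`. -/
theorem setup [Finite G] (H : GInp A t n O) : Setup H.A' H.t' where
  tt := H.t'_mul
  tL := by
    rintro _ ⟨l, rfl⟩
    show cl O t H.t_mem * cl O l (H.L_le l.2) = cl O l (H.L_le l.2) * cl O t H.t_mem
    rw [cl_mul, cl_mul]; exact cl_congr _ _ (H.tL l l.2)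
  tn := by
    rintro ⟨l, hl⟩
    have h1 : cl O l (H.L_le l.2) = cl O t H.t_mem := hl
    have h2 := cl_eq _ _ h1
    -- l⁻¹ t = o
    set o := (l : G)⁻¹ * t with ho
    have h3 : t = l * o := by rw [ho]; group
    have h4 : (l : G) = 1 := by
      have h5 : MulAut.conj l = 1 := by
        ext x
        have h6 := H.tL x x.2
        have h7 := H.OL o h2 x x.2
        show (l : G) * (x : G) * (l : G)⁻¹ = x
        have h8 : (l : G) = t * o⁻¹ := by rw [h3]; group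
        calc (l : G) * (x : G) * (l : G)⁻¹ = t * (o⁻¹ * (x * o)) * t⁻¹ := by rw [h8]; group
          _ = t * x * t⁻¹ := by rw [← h7]; group
          _ = x := by rw [h6]; group
      exact congrArg Subtype.val (A.conj_eq_one h5)
    rw [h4, one_mul] at h3
    have h9 : t = 1 := by
      have : t ∈ O := h3 ▸ h2
      exact eq_one_of_pow H.Oodd this H.t_pow
    exact H.tn (h9 ▸ L.one_mem)
  cent := by
    intro x hx hxE
    obtain ⟨g, hg, rfl⟩ := cl_surj x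
    have h1 := H.comm_lift hg H.t_mem H.t_pow hx
    have h2 : ∀ p, g * E A p = E A p * g := fun p =>
      H.comm_lift hg (H.E_mem' p) (E_pow p) (by rw [← H.E_A']; exact hxE p)
    obtain ⟨o, ho, c, h3⟩ := H.cent g h1 h2
    refine ⟨c, ?_⟩
    rw [H.z_A']
    exact H.t'_z hg ho (E_mem A _) h3
  w := by
    obtain ⟨τ, hτ, hm⟩ := H.mv
    obtain ⟨φ, hφ⟩ := exists_ad H.nT hm
    -- M = normaliser of O
    let M : Subgroup G := Subgroup.normalizer O
    have hnM : n ∈ M := by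
      have : n⁻¹ ∈ M := by
        apply Subgroup.mem_normalizer_iff.mpr
        have hmap : O.map (MulAut.conj n⁻¹).toMonoidHom = O := by
          apply Subgroup.eq_of_le_of_card_ge
          · rintro _ ⟨o, ho, rfl⟩
            have := H.nO o ho
            show n⁻¹ * o * n⁻¹⁻¹ ∈ O
            rwa [inv_inv]
          · rw [Subgroup.card_map_of_injective (MulAut.conj n⁻¹).injective]
        intro o
        constructor
        · intro ho
          have := H.nO o ho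
          rwa [inv_inv]
        · intro ho
          rw [← hmap] at ho
          obtain ⟨o', ho', e⟩ := ho
          have e1 : n⁻¹ * o' * n⁻¹⁻¹ = n⁻¹ * o * n⁻¹⁻¹ := e
          have e2 : o' = o := mul_left_cancel (mul_right_cancel e1)
          rw [← e2]; exact ho'
      exact (Subgroup.inv_mem_iff _).mp this
    have hCM : ∀ x ∈ CC O, x ∈ M := by
      intro x hx
      apply Subgroup.mem_normalizer_iff.mpr
      have hx' := mem_CC.mp hx
      intro o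
      constructor
      · intro ho
        rw [← hx' o ho, mul_inv_cancel_right]; exact ho
      · intro ho
        have h1 := hx' _ ho
        have h2 : o = x⁻¹ * (x * o * x⁻¹) * x := by group
        rw [h2]
        have h3 : x⁻¹ * (x * o * x⁻¹) * x = x * o * x⁻¹ := by
          rw [mul_assoc, h1]; group
        rw [h3]; exact ho
    have hMC : ∀ m ∈ M, ∀ x ∈ CC O, m⁻¹ * x * m ∈ CC O := by
      intro m hm x hx
      rw [mem_CC]
      intro o ho
      have h1 : m * o * m⁻¹ ∈ O := (Subgroup.mem_normalizer_iff.mp hm o).mp ho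
      have h2 := mem_CC.mp hx _ h1
      calc o * (m⁻¹ * x * m) = m⁻¹ * ((m * o * m⁻¹) * x) * m := by group
        _ = m⁻¹ * (x * (m * o * m⁻¹)) * m := by rw [h2]
        _ = m⁻¹ * x * m * o := by group
    obtain ⟨w, hwC, τ', hτ', hwE, hwt⟩ := exists_w_of_ad H.tL M (CC O) (hCM _ H.hh_mem') hnM
      (by
        intro m hm
        have h1 := hMC m hm _ ((CC O).inv_mem H.hh_mem')
        have h2 : m⁻¹ * ((hh A)⁻¹ * m * hh A) = (m⁻¹ * (hh A)⁻¹ * m) * hh A := by group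
        rw [h2]
        exact (CC O).mul_mem h1 H.hh_mem') H.E_mem' hφ hτ
    refine ⟨cl O w hwC, τ', hτ', ?_, ?_⟩
    · intro p
      rw [H.E_A', cl_mul, cl_mul]; exact cl_congr _ _ (hwE p)
    · rw [H.z_A', t', cl_inv, cl_mul, cl_mul, cl_mul]; exact cl_congr _ _ hwt
  centR := by
    intro x hx hx1 hx2
    obtain ⟨g, hg, rfl⟩ := cl_surj x
    have h1 := H.comm_lift hg H.t_mem H.t_pow hx
    have h2 : ∀ u, g * r A 0 2 u = r A 0 2 u * g := fun u =>
      H.comm_lift hg (H.r_mem' _ _ u) (k := 1) (by rw [pow_one, pow_two, r_sq A (by decide)])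
        (hx1 u)
    have h3 : ∀ u, g * r A 0 1 u = r A 0 1 u * g := fun u =>
      H.comm_lift hg (H.r_mem' _ _ u) (k := 1) (by rw [pow_one, pow_two, r_sq A (by decide)])
        (hx2 u)
    obtain ⟨o, ho, u, v, h4⟩ := H.centR g h1 h2 h3
    exact ⟨u, v, H.t'_z hg ho (L.mul_mem (r_mem A _ _ _) (r_mem A _ _ _)) h4⟩
  centC := by
    intro x hx hx1 hx2
    obtain ⟨g, hg, rfl⟩ := cl_surj x
    have h1 := H.comm_lift hg H.t_mem H.t_pow hx
    have h2 : ∀ u, g * r A 0 2 u = r A 0 2 u * g := fun u =>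
      H.comm_lift hg (H.r_mem' _ _ u) (k := 1) (by rw [pow_one, pow_two, r_sq A (by decide)])
        (hx1 u)
    have h3 : ∀ u, g * r A 1 2 u = r A 1 2 u * g := fun u =>
      H.comm_lift hg (H.r_mem' _ _ u) (k := 1) (by rw [pow_one, pow_two, r_sq A (by decide)])
        (hx2 u)
    obtain ⟨o, ho, u, v, h4⟩ := H.centC g h1 h2 h3
    exact ⟨u, v, H.t'_z hg ho (L.mul_mem (r_mem A _ _ _) (r_mem A _ _ _)) h4⟩

/-- the lifts of the subgroups of `S.U`. -/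
def lft (H : GInp A t n O) (S : Subgroup (CC O)) (Y : Subgroup (CC O ⧸ NN O)) : Subgroup G where
  carrier := {g | ∃ hg : g ∈ CC O, cl O g hg ∈ Y ∧ (⟨g, hg⟩ : CC O) ∈ S}
  one_mem' := ⟨(CC O).one_mem, Y.one_mem, S.one_mem⟩
  mul_mem' := by
    rintro x y ⟨hx, hx1, hx2⟩ ⟨hy, hy1, hy2⟩
    exact ⟨(CC O).mul_mem hx hy, Y.mul_mem hx1 hy1, S.mul_mem hx2 hy2⟩
  inv_mem' := by
    rintro x ⟨hx, hx1, hx2⟩
    exact ⟨(CC O).inv_mem hx, Y.inv_mem hx1, S.inv_mem hx2⟩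

theorem mem_lft (H : GInp A t n O) {S : Subgroup (CC O)} {Y : Subgroup (CC O ⧸ NN O)} {g : G} :
    g ∈ H.lft S Y ↔ ∃ hg : g ∈ CC O, cl O g hg ∈ Y ∧ (⟨g, hg⟩ : CC O) ∈ S := Iff.rfl

/-- **The growth theorem in `G`.** -/
theorem exists_out [Finite G] (H : GInp A t n O) :
    ∃ Y1 Y2 Y3 U : Subgroup G, GOut A t O Y1 Y2 Y3 U := by
  have SS := H.setup
  obtain ⟨S, hScard, hSmem, hSsurj, hSN⟩ := exists_lift (N := NN O) NN_center H.NN_odd SS.U 12
    SS.card_U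
  have hY1 : SS.Y1 ≤ SS.U := SS.three.Y1_le
  have hY2 : SS.Y2 ≤ SS.U := SS.three.Y2_le
  have hY3 : SS.Y3 ≤ SS.U := SS.three.Y3_le
  -- elements of the lift
  have lmem : ∀ (Y : Subgroup (CC O ⧸ NN O)), Y ≤ SS.U → ∀ (g : G) (hg : g ∈ CC O),
      cl O g hg ∈ Y → g ^ (2 ^ 12) = 1 → g ∈ H.lft S Y := fun Y hY g hg h1 h2 =>
    ⟨hg, h1, (hSmem _).mpr ⟨hY h1, Subtype.ext (by simpa using h2)⟩⟩
  have lpow : ∀ (Y : Subgroup (CC O ⧸ NN O)), ∀ g ∈ H.lft S Y, g ^ (2 ^ 12) = 1 := by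
    rintro Y g ⟨hg, h1, h2⟩
    have := ((hSmem _).mp h2).2
    exact congrArg Subtype.val this
  -- injectivity
  have linj : ∀ (g g' : G), g ∈ H.lft S SS.U → g' ∈ H.lft S SS.U →
      ∀ (hg : g ∈ CC O) (hg' : g' ∈ CC O), cl O g hg = cl O g' hg' → g = g' := by
    rintro g g' ⟨_, -, h1⟩ ⟨_, -, h2⟩ hg hg' e
    have h3 : g⁻¹ * g' ∈ O := cl_eq hg hg' e
    have h4 := hSN (⟨g, hg⟩⁻¹ * ⟨g', hg'⟩) (S.mul_mem (S.inv_mem h1) h2) h3
    have h5 : g⁻¹ * g' = 1 := congrArg Subtype.val h4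
    exact inv_mul_eq_one.mp h5
  have lsurj : ∀ (Y : Subgroup (CC O ⧸ NN O)), Y ≤ SS.U → ∀ y ∈ Y, ∃ g, ∃ hg : g ∈ CC O,
      g ∈ H.lft S Y ∧ cl O g hg = y := by
    intro Y hY y hy
    obtain ⟨⟨g, hg⟩, hs, e⟩ := hSsurj y (hY hy)
    have e' : cl O g hg = y := e
    exact ⟨g, hg, ⟨hg, e' ▸ hy, hs⟩, e'⟩
  have lmono : ∀ (Y Y' : Subgroup (CC O ⧸ NN O)), Y ≤ Y' → H.lft S Y ≤ H.lft S Y' := by
    rintro Y Y' h g ⟨hg, h1, h2⟩
    exact ⟨hg, h h1, h2⟩
  have lCC : ∀ (Y : Subgroup (CC O ⧸ NN O)), ∀ g ∈ H.lft S Y, g ∈ CC O := fun Y g hg => hg.1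
  have lcard : ∀ (Y : Subgroup (CC O ⧸ NN O)), Y ≤ SS.U → Nat.card (H.lft S Y) = Nat.card Y := by
    intro Y hY
    refine Nat.card_congr (Equiv.ofBijective (fun g : H.lft S Y =>
      (⟨cl O g (lCC Y g g.2), g.2.2.1⟩ : Y)) ⟨?_, ?_⟩)
    · intro g g' e
      have e1 : cl O (g : G) (lCC Y g g.2) = cl O (g' : G) (lCC Y g' g'.2) := congrArg Subtype.val e
      exact Subtype.ext (linj g g' (lmono Y _ hY g.2) (lmono Y _ hY g'.2) _ _ e1)
    · rintro ⟨y, hy⟩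
      obtain ⟨g, hg, h1, h2⟩ := lsurj Y hY y hy
      exact ⟨⟨g, h1⟩, Subtype.ext h2⟩
  have l1 := lmono _ _ hY1
  have l2 := lmono _ _ hY2
  have l3 := lmono _ _ hY3
  -- conjugation by an element of `C_G(O)`
  have lconj : ∀ (Y : Subgroup (CC O ⧸ NN O)), Y ≤ SS.U → ∀ (a : G) (ha : a ∈ CC O), ∀ g ∈ H.lft S Y,
      (∀ y ∈ Y, cl O a ha * y * (cl O a ha)⁻¹ ∈ Y) → a * g * a⁻¹ ∈ H.lft S Y := by
    intro Y hY a ha g hg h
    refine lmem Y hY _ ((CC O).mul_mem ((CC O).mul_mem ha (lCC Y g hg)) ((CC O).inv_mem ha)) ?_ ?_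
    · have := h _ hg.2.1
      exact this
    · rw [conj_pow, lpow Y g hg]; group
  have trel : ∀ (g : G) (hg : g ∈ CC O) (v : G) (hv : v ∈ CC O), v ∈ L →
      H.t' * cl O g hg = cl O g hg * (H.t' * cl O v hv) →
      cl O (t * g * t⁻¹) ((CC O).mul_mem ((CC O).mul_mem H.t_mem hg) ((CC O).inv_mem H.t_mem)) =
        cl O (g * v) ((CC O).mul_mem hg hv) := by
    intro g hg v hv hvL e
    have e1 : H.t' * cl O v hv = cl O v hv * H.t' := by
      rw [t', cl_mul, cl_mul]; exact cl_congr _ _ (H.tL v hvL)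
    rw [e1] at e
    have e2 : H.t' * cl O g hg * H.t'⁻¹ = cl O g hg * cl O v hv := by rw [e]; group
    exact e2
  have hrt : ∀ i j u, t * r A i j u * t⁻¹ = r A i j u := fun i j u => by
    rw [H.tL _ (r_mem A i j u)]; group
  have rmem : ∀ (Y : Subgroup (CC O ⧸ NN O)), Y ≤ SS.U → ∀ (i j : Fin 3) (hij : i ≠ j) (u : F4),
      r H.A' i j u ∈ Y → r A i j u ∈ H.lft S Y := by
    intro Y hY i j hij u h
    refine lmem Y hY _ (H.r_mem' i j u) h ?_
    have e1 : (r A i j u) ^ 2 = 1 := by rw [pow_two, r_sq A hij]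
    rw [show (2 : ℕ) ^ 12 = 2 * 2 ^ 11 by norm_num, pow_mul, e1, one_pow]
  -- moving t, general
  have hmv : ∀ (i j k : Fin 3) (hij : i ≠ j) (Y : Subgroup (CC O ⧸ NN O)), Y ≤ SS.U →
      RG H.A' H.t' i j k Y → ∀ y ∈ H.lft S Y, ∃ u, t * y * t⁻¹ = y * r A i j u := by
    intro i j k hij Y hY R y hy
    obtain ⟨u, hu⟩ := R.mv _ hy.2.1
    refine ⟨u, ?_⟩
    have e1 := trel y hy.1 (r A i j u) (H.r_mem' i j u) (r_mem A i j u) hu
    have e2 := rmem Y hY i j hij u (R.le u)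
    refine linj _ _ ?_ ?_ _ _ e1
    · have e3 : t * y * t⁻¹ ∈ H.lft S Y := by
        refine lmem Y hY _ ((CC O).mul_mem ((CC O).mul_mem H.t_mem hy.1) ((CC O).inv_mem H.t_mem))
          ?_ ?_
        · rw [e1]; exact Y.mul_mem hy.2.1 (R.le u)
        · rw [conj_pow, lpow Y y hy]; group
      exact lmono _ _ hY e3
    · exact (H.lft S SS.U).mul_mem (lmono _ _ hY hy) (lmono _ _ hY e2)
  have hfx : ∀ (i j k : Fin 3) (hij : i ≠ j) (Y : Subgroup (CC O ⧸ NN O)), Y ≤ SS.U →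
      RG H.A' H.t' i j k Y → ∀ y ∈ H.lft S Y, t * y = y * t → ∃ u, y = r A i j u := by
    intro i j k hij Y hY R y hy e
    have e1 : H.t' * cl O y hy.1 = cl O y hy.1 * H.t' := by
      rw [t', cl_mul, cl_mul]; exact cl_congr _ _ e
    obtain ⟨u, hu⟩ := R.fix _ hy.2.1 e1
    exact ⟨u, linj _ _ (lmono _ _ hY hy) (lmono _ _ hY (rmem Y hY i j hij u (R.le u))) hy.1
      (H.r_mem' i j u) hu⟩
  have hlift : ∀ (i j k : Fin 3) (hij : i ≠ j) (Y : Subgroup (CC O ⧸ NN O)), Y ≤ SS.U →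
      RG H.A' H.t' i j k Y → ∀ u, ∃ y ∈ H.lft S Y, t * y * t⁻¹ = y * r A i j u := by
    intro i j k hij Y hY R u
    obtain ⟨y', hy', e⟩ := R.surj u
    obtain ⟨y, hyC, hy, rfl⟩ := lsurj Y hY y' hy'
    refine ⟨y, hy, ?_⟩
    have e1 := trel y hyC (r A i j u) (H.r_mem' i j u) (r_mem A i j u) e
    have e2 := rmem Y hY i j hij u (R.le u)
    refine linj _ _ ?_ ?_ _ _ e1
    · have e3 : t * y * t⁻¹ ∈ H.lft S Y := by
        refine lmem Y hY _ ((CC O).mul_mem ((CC O).mul_mem H.t_mem hyC) ((CC O).inv_mem H.t_mem))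
          ?_ ?_
        · rw [e1]; exact Y.mul_mem hy' (R.le u)
        · rw [conj_pow, lpow Y y hy]; group
      exact lmono _ _ hY e3
    · exact (H.lft S SS.U).mul_mem (lmono _ _ hY hy) (lmono _ _ hY e2)
  have hhY : ∀ (Y : Subgroup (CC O ⧸ NN O)), Y ≤ SS.U →
      (∀ y ∈ Y, (hh H.A')⁻¹ * y * hh H.A' ∈ Y) → ∀ y ∈ H.lft S Y,
      (hh A)⁻¹ * y * (hh A)⁻¹⁻¹ ∈ H.lft S Y := by
    intro Y hY h y hy
    refine lconj Y hY _ ((CC O).inv_mem H.hh_mem') y hy ?_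
    intro y hy
    have := h y hy
    have e : cl O (hh A)⁻¹ ((CC O).inv_mem H.hh_mem') = (hh H.A')⁻¹ := rfl
    rw [e, inv_inv]; exact this
  have hhfix : ∀ (i j k : Fin 3) (hij : i ≠ j) (hinj : ∀ u, r H.A' i j u = 1 → u = 0)
      (Y : Subgroup (CC O ⧸ NN O)), Y ≤ SS.U →
      RG H.A' H.t' i j k Y → ∀ y ∈ H.lft S Y, (hh A)⁻¹ * y * (hh A)⁻¹⁻¹ = y → y = 1 := by
    intro i j k hij hinj Y hY R y hy e
    rw [inv_inv] at e
    have e1 : (hh H.A')⁻¹ * cl O y hy.1 * hh H.A' = cl O y hy.1 := by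
      rw [hh_A', cl_inv, cl_mul, cl_mul]; exact cl_congr _ _ e
    have e2 := R.h_fix SS.tL hij hinj hy.2.1 e1
    exact linj y 1 (lmono _ _ hY hy) (one_mem _) hy.1 (CC O).one_mem e2
  have hsq : ∀ (Y : Subgroup (CC O ⧸ NN O)), Y ≤ SS.U → (∀ y ∈ Y, y * y = 1) →
      ∀ y ∈ H.lft S Y, y * y = 1 := by
    intro Y hY h y hy
    exact linj (y * y) 1 ((H.lft S SS.U).mul_mem (lmono _ _ hY hy) (lmono _ _ hY hy)) (one_mem _)
      ((CC O).mul_mem hy.1 hy.1) (CC O).one_mem (h _ hy.2.1)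
  have hcm : ∀ (Y Y' : Subgroup (CC O ⧸ NN O)), Y ≤ SS.U → Y' ≤ SS.U →
      (∀ y ∈ Y, ∀ z ∈ Y', y * z = z * y) → ∀ y ∈ H.lft S Y, ∀ z ∈ H.lft S Y', y * z = z * y := by
    intro Y Y' hY hY' h y hy z hz
    exact linj (y * z) (z * y) ((H.lft S SS.U).mul_mem (lmono _ _ hY hy) (lmono _ _ hY' hz))
      ((H.lft S SS.U).mul_mem (lmono _ _ hY' hz) (lmono _ _ hY hy))
      ((CC O).mul_mem hy.1 hz.1) ((CC O).mul_mem hz.1 hy.1) (h _ hy.2.1 _ hz.2.1)
  have hrh : ∀ i j, i ≠ j → ∀ u, (hh A)⁻¹ * r A i j u * (hh A)⁻¹⁻¹ = r A i j (kap i j * u) := by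
    intro i j hij u
    rw [inv_inv]
    exact congrArg Subtype.val (A.h_x i j hij u)
  have h3 := hh_cube A
  refine ⟨H.lft S SS.Y1, H.lft S SS.Y2, H.lft S SS.Y3, H.lft S SS.U, ?_, ?_,
    hmv 0 1 2 (by decide) _ hY1 SS.rg1, hmv 1 2 0 (by decide) _ hY2 SS.rg2,
    hmv 0 2 1 (by decide) _ hY3 SS.rg3, hfx 0 1 2 (by decide) _ hY1 SS.rg1,
    hfx 1 2 0 (by decide) _ hY2 SS.rg2, hfx 0 2 1 (by decide) _ hY3 SS.rg3⟩
  · refine
      { card1 := ?_, card2 := ?_, card3 := ?_, cardU := ?_, sq1 := ?_, sq2 := ?_, sq3 := ?_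
        le1 := l1, le2 := l2, le3 := l3, gen := ?_, c13 := ?_, c23 := ?_, c12 := ?_, TH := ?_
        HHH := ?_, T3 := ?_, H1 := ?_, H2 := ?_, H3 := ?_, fix1 := ?_, fix2 := ?_, fix3 := ?_
        m1 := ?_, m2 := ?_, m3 := ?_, a1 := ?_, a2 := ?_, a3 := ?_, i1 := inj01, i2 := inj12
        i3 := inj02, h1 := ?_, h2 := ?_, h3 := ?_, comm := ?_, t1 := ?_, t2 := ?_, t3 := ?_
        lift1 := ?_, lift2 := ?_, tfix3 := ?_ }
    · rw [lcard _ hY1]; exact SS.card_Y1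
    · rw [lcard _ hY2]; exact SS.card_Y2
    · rw [lcard _ hY3]; exact SS.card_Y3
    · rw [lcard _ le_rfl]; exact SS.card_U
    · exact hsq _ hY1 SS.three.sq1
    · exact hsq _ hY2 SS.three.sq2
    · exact hsq _ hY3 SS.three.sq3
    · rintro u hu
      obtain ⟨y1, hy1, y2, hy2, y3, hy3, e⟩ := hu.2.1
      obtain ⟨g1, hg1, hm1, rfl⟩ := lsurj _ hY1 y1 hy1
      obtain ⟨g2, hg2, hm2, rfl⟩ := lsurj _ hY2 y2 hy2
      obtain ⟨g3, hg3, hm3, rfl⟩ := lsurj _ hY3 y3 hy3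
      refine ⟨g1, hm1, g2, hm2, g3, hm3, ?_⟩
      exact linj u (g1 * g2 * g3) hu ((H.lft S SS.U).mul_mem ((H.lft S SS.U).mul_mem (l1 hm1)
        (l2 hm2)) (l3 hm3)) hu.1 ((CC O).mul_mem ((CC O).mul_mem hg1 hg2) hg3) e
    · exact hcm _ _ hY1 hY3 SS.three.c13
    · exact hcm _ _ hY2 hY3 SS.three.c23
    · intro y hy y' hy'
      obtain ⟨z, hz, e⟩ := SS.three.comm12 hy.2.1 hy'.2.1
      obtain ⟨g, hg, hgm, rfl⟩ := lsurj _ hY3 z hz
      have e1 : y' * y = y * y' * g := linj _ _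
        ((H.lft S SS.U).mul_mem (l2 hy') (l1 hy))
        ((H.lft S SS.U).mul_mem ((H.lft S SS.U).mul_mem (l1 hy) (l2 hy')) (l3 hgm))
        ((CC O).mul_mem hy'.1 hy.1) ((CC O).mul_mem ((CC O).mul_mem hy.1 hy'.1) hg) e
      refine ⟨g⁻¹, (H.lft S SS.Y3).inv_mem hgm, ?_⟩
      rw [e1]; group
    · intro y
      have hth := H.tL _ (hh_mem A)
      have hth' : t * (hh A)⁻¹ = (hh A)⁻¹ * t := by
        calc t * (hh A)⁻¹ = (hh A)⁻¹ * (hh A * t) * (hh A)⁻¹ := by group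
          _ = (hh A)⁻¹ * (t * hh A) * (hh A)⁻¹ := by rw [hth]
          _ = (hh A)⁻¹ * t := by group
      simp only [cjh_apply]
      calc t * ((hh A)⁻¹ * y * (hh A)⁻¹⁻¹) * t⁻¹ = (t * (hh A)⁻¹) * y * (t * (hh A)⁻¹)⁻¹ := by group
        _ = _ := by rw [hth']; group
    · intro y
      simp only [cjh_apply]
      have h4 : (hh A)⁻¹ * (hh A)⁻¹ * (hh A)⁻¹ = 1 := by
        rw [← mul_inv_rev, ← mul_inv_rev, ← mul_assoc, h3, inv_one]
      calc (hh A)⁻¹ * ((hh A)⁻¹ * ((hh A)⁻¹ * y * (hh A)⁻¹⁻¹) * (hh A)⁻¹⁻¹) * (hh A)⁻¹⁻¹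
          = ((hh A)⁻¹ * (hh A)⁻¹ * (hh A)⁻¹) * y * (hh A * hh A * hh A) := by group
        _ = y := by rw [h3, h4]; group
    · intro y hy
      obtain ⟨u, hu⟩ := hmv 0 2 1 (by decide) _ hY3 SS.rg3 y hy
      rw [cjh_apply, hu]
      exact (H.lft S SS.Y3).mul_mem hy (rmem _ hY3 0 2 (by decide) u (SS.rg3.le u))
    · exact hhY _ hY1 (fun y hy => SS.h_Y1 hy)
    · exact hhY _ hY2 (fun y hy => SS.h_Y2 hy)
    · exact hhY _ hY3 (fun y hy => SS.h_Y3 hy)
    · exact hhfix 0 1 2 (by decide) inj01 _ hY1 SS.rg1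
    · exact hhfix 1 2 0 (by decide) inj12 _ hY2 SS.rg2
    · exact hhfix 0 2 1 (by decide) inj02 _ hY3 SS.rg3
    · exact fun a => rmem _ hY1 0 1 (by decide) a (SS.rg1.le a)
    · exact fun a => rmem _ hY2 1 2 (by decide) a (SS.rg2.le a)
    · exact fun a => rmem _ hY3 0 2 (by decide) a (SS.rg3.le a)
    · exact fun a b => (r_add A (by decide) a b).symm
    · exact fun a b => (r_add A (by decide) a b).symm
    · exact fun a b => (r_add A (by decide) a b).symm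
    · exact fun a => hrh 0 1 (by decide) a
    · exact fun a => hrh 1 2 (by decide) a
    · exact fun a => hrh 0 2 (by decide) a
    · exact fun a b => r_sum A (by decide) (by decide) (by decide) a b
    · exact fun a => hrt 0 1 a
    · exact fun a => hrt 1 2 a
    · exact fun a => hrt 0 2 a
    · exact hlift 0 1 2 (by decide) _ hY1 SS.rg1 1
    · exact hlift 1 2 0 (by decide) _ hY2 SS.rg2 1
    · intro y hy e
      rw [cjh_apply] at e
      exact hfx 0 2 1 (by decide) _ hY3 SS.rg3 y hy (by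
        calc t * y = t * y * t⁻¹ * t := by group
          _ = y * t := by rw [e])
  · intro o ho u hu
    exact mem_CC.mp hu.1 o ho

end GInp

end Cfsg.Agent.StdL3.OneLift
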