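import Cfsg.Agent.StdL3.OneLift
import Cfsg.Agent.StdL3.ExtEnd

set_option autoImplicit false
set_option linter.constructorNameAsVariable false
set_option linter.unusedVariables false

/-!
# The groups `Q₁ = Y₁ Y₃`, `Q₂ = Y₂ Y₃` of the grown configuration
-/

namespace Cfsg.Agent.StdL3.OneLoc

open Cfsg.Agent.LThreeFour
open Cfsg.Agent.SporadicA.FieldFour
open Cfsg.Agent.StdL3.OneRoot
open Cfsg.Agent.StdL3.OneY
open Cfsg.Agent.StdL3.OneGrow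
open Cfsg.Agent.StdL3.OneLift
open Cfsg.Agent.StdL3.HeisCoord

variable {G : Type*} [Group G]

/-- the product of two commuting subgroups -/
def cp (Y Z : Subgroup G) (h : ∀ y ∈ Y, ∀ z ∈ Z, y * z = z * y) : Subgroup G where
  carrier := {g | ∃ y ∈ Y, ∃ z ∈ Z, g = y * z}
  one_mem' := ⟨1, Y.one_mem, 1, Z.one_mem, (mul_one _).symm⟩
  mul_mem' := by
    rintro _ _ ⟨y, hy, z, hz, rfl⟩ ⟨y', hy', z', hz', rfl⟩
    refine ⟨y * y', Y.mul_mem hy hy', z * z', Z.mul_mem hz hz', ?_⟩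
    have h1 := h y' hy' z hz
    calc y * z * (y' * z') = y * (z * y') * z' := by group
      _ = y * (y' * z) * z' := by rw [h1]
      _ = _ := by group
  inv_mem' := by
    rintro _ ⟨y, hy, z, hz, rfl⟩
    refine ⟨y⁻¹, Y.inv_mem hy, z⁻¹, Z.inv_mem hz, ?_⟩
    rw [h y hy z hz, mul_inv_rev]

theorem mem_cp {Y Z : Subgroup G} {h : ∀ y ∈ Y, ∀ z ∈ Z, y * z = z * y} {g : G} :
    g ∈ cp Y Z h ↔ ∃ y ∈ Y, ∃ z ∈ Z, g = y * z := Iff.rfl

theorem card_cp {Y Z : Subgroup G} {h : ∀ y ∈ Y, ∀ z ∈ Z, y * z = z * y}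
    (hi : ∀ y ∈ Y, ∀ z ∈ Z, y * z = 1 → y = 1) :
    Nat.card (cp Y Z h) = Nat.card Y * Nat.card Z := by
  rw [← Nat.card_prod]
  symm
  refine Nat.card_congr (Equiv.ofBijective
    (fun p : Y × Z => (⟨p.1 * p.2, p.1, p.1.2, p.2, p.2.2, rfl⟩ : cp Y Z h)) ⟨?_, ?_⟩)
  · rintro ⟨⟨y, hy⟩, ⟨z, hz⟩⟩ ⟨⟨y', hy'⟩, ⟨z', hz'⟩⟩ e
    have e' : y * z = y' * z' := congrArg Subtype.val e
    have h1 : y'⁻¹ * y * (z * z'⁻¹) = 1 := by
      calc y'⁻¹ * y * (z * z'⁻¹) = y'⁻¹ * (y * z) * z'⁻¹ := by group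
        _ = 1 := by rw [e']; group
    have h2 := hi _ (Y.mul_mem (Y.inv_mem hy') hy) _ (Z.mul_mem hz (Z.inv_mem hz')) h1
    have h3 : y' = y := inv_mul_eq_one.mp h2
    subst h3
    have h4 : z = z' := mul_left_cancel e'
    subst h4
    rfl
  · rintro ⟨_, y, hy, z, hz, rfl⟩
    exact ⟨⟨⟨y, hy⟩, ⟨z, hz⟩⟩, rfl⟩

variable {L : Subgroup G} {A : Dat L} {t : G} {O Y1 Y2 Y3 U : Subgroup G}

/-- uniqueness of coordinates -/
theorem unique {T H : G →* G} {x1 x2 x3 : F4 → G} (hg : Grown T H Y1 Y2 Y3 U x1 x2 x3)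
    {y1 y2 y3 : G} (h1 : y1 ∈ Y1) (h2 : y2 ∈ Y2) (h3 : y3 ∈ Y3) (h : y1 * y2 * y3 = 1) :
    y1 = 1 ∧ y2 = 1 ∧ y3 = 1 := by
  have hf1 : Finite Y1 := Nat.finite_of_card_ne_zero (by rw [hg.card1]; norm_num)
  have hf2 : Finite Y2 := Nat.finite_of_card_ne_zero (by rw [hg.card2]; norm_num)
  have hf3 : Finite Y3 := Nat.finite_of_card_ne_zero (by rw [hg.card3]; norm_num)
  have hfU : Finite U := Nat.finite_of_card_ne_zero (by rw [hg.cardU]; norm_num)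
  let f : Y1 × Y2 × Y3 → U := fun p => ⟨p.1 * p.2.1 * p.2.2,
    U.mul_mem (U.mul_mem (hg.le1 p.1.2) (hg.le2 p.2.1.2)) (hg.le3 p.2.2.2)⟩
  have hs : Function.Surjective f := by
    rintro ⟨u, hu⟩
    obtain ⟨a, ha, b, hb, c, hc, rfl⟩ := hg.gen u hu
    exact ⟨⟨⟨a, ha⟩, ⟨b, hb⟩, ⟨c, hc⟩⟩, rfl⟩
  have hc : Nat.card (Y1 × Y2 × Y3) ≤ Nat.card U := by
    rw [Nat.card_prod, Nat.card_prod, hg.card1, hg.card2, hg.card3, hg.cardU]; norm_num
  have hb := hs.bijective_of_nat_card_le hc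
  have e : f ⟨⟨y1, h1⟩, ⟨y2, h2⟩, ⟨y3, h3⟩⟩ = f ⟨1, 1, 1⟩ := by
    apply Subtype.ext
    show y1 * y2 * y3 = 1 * 1 * 1
    rw [h]; simp
  have e2 := hb.1 e
  have e3 := congrArg Prod.fst e2
  have e4 := congrArg (fun p => p.2.1) e2
  have e5 := congrArg (fun p => p.2.2) e2
  exact ⟨congrArg Subtype.val e3, congrArg Subtype.val e4, congrArg Subtype.val e5⟩

/-- the groups `Y₁Y₃` and `Y₂Y₃` -/
def QQ (hg : GOut A t O Y1 Y2 Y3 U) : Bool → Subgroup G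
  | false => cp Y1 Y3 hg.grown.c13
  | true => cp Y2 Y3 hg.grown.c23

theorem card_QQ (hg : GOut A t O Y1 Y2 Y3 U) (i : Bool) : Nat.card (QQ hg i) = 256 := by
  cases i
  · show Nat.card (cp Y1 Y3 hg.grown.c13) = 256
    rw [card_cp, hg.grown.card1, hg.grown.card3]
    intro y hy z hz h
    exact (unique hg.grown hy Y2.one_mem hz (by rw [mul_one]; exact h)).1
  · show Nat.card (cp Y2 Y3 hg.grown.c23) = 256
    rw [card_cp, hg.grown.card2, hg.grown.card3]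
    intro y hy z hz h
    exact (unique hg.grown Y1.one_mem hy hz (by rw [one_mul]; exact h)).2.1

theorem sq_QQ (hg : GOut A t O Y1 Y2 Y3 U) (i : Bool) : ∀ q ∈ QQ hg i, q * q = 1 := by
  cases i
  · rintro _ ⟨y, hy, z, hz, rfl⟩
    have h1 := hg.grown.c13 y hy z hz
    calc y * z * (y * z) = y * (z * y) * z := by group
      _ = (y * y) * (z * z) := by rw [← h1]; group
      _ = 1 := by rw [hg.grown.sq1 y hy, hg.grown.sq3 z hz, one_mul]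
  · rintro _ ⟨y, hy, z, hz, rfl⟩
    have h1 := hg.grown.c23 y hy z hz
    calc y * z * (y * z) = y * (z * y) * z := by group
      _ = (y * y) * (z * z) := by rw [← h1]; group
      _ = 1 := by rw [hg.grown.sq2 y hy, hg.grown.sq3 z hz, one_mul]

theorem QQ_le (hg : GOut A t O Y1 Y2 Y3 U) (i : Bool) : QQ hg i ≤ U := by
  cases i
  · rintro _ ⟨y, hy, z, hz, rfl⟩
    exact U.mul_mem (hg.grown.le1 hy) (hg.grown.le3 hz)
  · rintro _ ⟨y, hy, z, hz, rfl⟩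
    exact U.mul_mem (hg.grown.le2 hy) (hg.grown.le3 hz)

theorem Y3_le (hg : GOut A t O Y1 Y2 Y3 U) (i : Bool) : Y3 ≤ QQ hg i := by
  intro y hy
  cases i
  · exact ⟨1, Y1.one_mem, y, hy, (one_mul _).symm⟩
  · exact ⟨1, Y2.one_mem, y, hy, (one_mul _).symm⟩

theorem Y1_le (hg : GOut A t O Y1 Y2 Y3 U) : Y1 ≤ QQ hg false :=
  fun y hy => ⟨y, hy, 1, Y3.one_mem, (mul_one _).symm⟩

theorem Y2_le (hg : GOut A t O Y1 Y2 Y3 U) : Y2 ≤ QQ hg true :=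
  fun y hy => ⟨y, hy, 1, Y3.one_mem, (mul_one _).symm⟩

theorem U_eq (hg : GOut A t O Y1 Y2 Y3 U) : U = QQ hg false ⊔ QQ hg true := by
  apply le_antisymm
  · intro u hu
    obtain ⟨a, ha, b, hb, c, hc, rfl⟩ := hg.grown.gen u hu
    exact Subgroup.mul_mem _ (Subgroup.mul_mem _ (Subgroup.mem_sup_left (Y1_le hg ha))
      (Subgroup.mem_sup_right (Y2_le hg hb))) (Subgroup.mem_sup_right (Y3_le hg true hc))
  · exact sup_le (QQ_le hg false) (QQ_le hg true)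

theorem norm1 (hg : GOut A t O Y1 Y2 Y3 U) : ∀ y ∈ Y1, t * y * t⁻¹ ∈ Y1 := by
  intro y hy
  obtain ⟨u, hu⟩ := hg.mv1 y hy
  rw [hu]; exact Y1.mul_mem hy (hg.grown.m1 u)

theorem norm2 (hg : GOut A t O Y1 Y2 Y3 U) : ∀ y ∈ Y2, t * y * t⁻¹ ∈ Y2 := by
  intro y hy
  obtain ⟨u, hu⟩ := hg.mv2 y hy
  rw [hu]; exact Y2.mul_mem hy (hg.grown.m2 u)

theorem norm3 (hg : GOut A t O Y1 Y2 Y3 U) : ∀ y ∈ Y3, t * y * t⁻¹ ∈ Y3 := by
  intro y hy
  obtain ⟨u, hu⟩ := hg.mv3 y hy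
  rw [hu]; exact Y3.mul_mem hy (hg.grown.m3 u)

theorem norm_QQ (hg : GOut A t O Y1 Y2 Y3 U) (i : Bool) : ∀ q ∈ QQ hg i, t * q * t⁻¹ ∈ QQ hg i := by
  cases i
  · rintro _ ⟨y, hy, z, hz, rfl⟩
    refine ⟨_, norm1 hg y hy, _, norm3 hg z hz, by group⟩
  · rintro _ ⟨y, hy, z, hz, rfl⟩
    refine ⟨_, norm2 hg y hy, _, norm3 hg z hz, by group⟩

theorem norm_U (hg : GOut A t O Y1 Y2 Y3 U) : ∀ u ∈ U, t * u * t⁻¹ ∈ U := by
  intro u hu
  obtain ⟨a, ha, b, hb, c, hc, rfl⟩ := hg.grown.gen u hu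
  have e : t * (a * b * c) * t⁻¹ = (t * a * t⁻¹) * (t * b * t⁻¹) * (t * c * t⁻¹) := by group
  rw [e]
  exact U.mul_mem (U.mul_mem (hg.grown.le1 (norm1 hg a ha)) (hg.grown.le2 (norm2 hg b hb)))
    (hg.grown.le3 (norm3 hg c hc))

/-- fixed points in `Y₁Y₃` -/
theorem fix_false (hg : GOut A t O Y1 Y2 Y3 U) : ∀ q ∈ QQ hg false, q * t = t * q →
    ∃ u v, q = r A 0 1 u * r A 0 2 v := by
  rintro _ ⟨y, hy, z, hz, rfl⟩ h
  obtain ⟨u, hu⟩ := hg.mv1 y hy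
  obtain ⟨v, hv⟩ := hg.mv3 z hz
  have h1 : t * (y * z) * t⁻¹ = y * z := by rw [← h]; group
  have h2 : t * (y * z) * t⁻¹ = (t * y * t⁻¹) * (t * z * t⁻¹) := by group
  have h3 : y * r A 0 1 u * (z * r A 0 2 v) = y * z := by rw [← hu, ← hv, ← h2, h1]
  have h4 := hg.grown.c13 _ (hg.grown.m1 u) z hz
  have h5 : r A 0 1 u * r A 0 2 v = 1 := by
    have h6 : y * z * (r A 0 1 u * r A 0 2 v) = y * z := by
      calc y * z * (r A 0 1 u * r A 0 2 v) = y * (z * r A 0 1 u) * r A 0 2 v := by group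
        _ = y * (r A 0 1 u * z) * r A 0 2 v := by rw [h4]
        _ = y * r A 0 1 u * (z * r A 0 2 v) := by group
        _ = y * z := h3
    exact mul_eq_left.mp h6
  have h7 : E A ⟨u, 0, v⟩ = 1 := by
    rw [E_eq, r_zero A (by decide), mul_one]; exact h5
  obtain ⟨hu0, -, hv0⟩ := E_zero h7
  subst hu0 hv0
  rw [r_zero A (by decide), mul_one] at hu hv
  obtain ⟨u', rfl⟩ := hg.fx1 y hy (mul_inv_eq_iff_eq_mul.mp hu)
  obtain ⟨v', rfl⟩ := hg.fx3 z hz (mul_inv_eq_iff_eq_mul.mp hv)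
  exact ⟨u', v', rfl⟩

/-- fixed points in `Y₂Y₃` -/
theorem fix_true (hg : GOut A t O Y1 Y2 Y3 U) : ∀ q ∈ QQ hg true, q * t = t * q →
    ∃ u v, q = r A 1 2 u * r A 0 2 v := by
  rintro _ ⟨y, hy, z, hz, rfl⟩ h
  obtain ⟨u, hu⟩ := hg.mv2 y hy
  obtain ⟨v, hv⟩ := hg.mv3 z hz
  have h1 : t * (y * z) * t⁻¹ = y * z := by rw [← h]; group
  have h2 : t * (y * z) * t⁻¹ = (t * y * t⁻¹) * (t * z * t⁻¹) := by group
  have h3 : y * r A 1 2 u * (z * r A 0 2 v) = y * z := by rw [← hu, ← hv, ← h2, h1]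
  have h4 := hg.grown.c23 _ (hg.grown.m2 u) z hz
  have h5 : r A 1 2 u * r A 0 2 v = 1 := by
    have h6 : y * z * (r A 1 2 u * r A 0 2 v) = y * z := by
      calc y * z * (r A 1 2 u * r A 0 2 v) = y * (z * r A 1 2 u) * r A 0 2 v := by group
        _ = y * (r A 1 2 u * z) * r A 0 2 v := by rw [h4]
        _ = y * r A 1 2 u * (z * r A 0 2 v) := by group
        _ = y * z := h3
    exact mul_eq_left.mp h6
  have h7 : E A ⟨0, u, v⟩ = 1 := by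
    rw [E_eq, r_zero A (by decide), one_mul]; exact h5
  obtain ⟨-, hu0, hv0⟩ := E_zero h7
  subst hu0 hv0
  rw [r_zero A (by decide), mul_one] at hu hv
  obtain ⟨u', rfl⟩ := hg.fx2 y hy (mul_inv_eq_iff_eq_mul.mp hu)
  obtain ⟨v', rfl⟩ := hg.fx3 z hz (mul_inv_eq_iff_eq_mul.mp hv)
  exact ⟨u', v', rfl⟩

/-- conjugation by `t` as an automorphism of `U` -/
theorem exists_tau [Finite G] (hg : GOut A t O Y1 Y2 Y3 U) :
    ∃ τ : MulAut U, ∀ x : U, ((τ x : U) : G) = t * x * t⁻¹ := by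
  let f : U →* U := MonoidHom.mk' (fun u => ⟨t * u * t⁻¹, norm_U hg u u.2⟩) (by
    intro a b
    apply Subtype.ext
    show t * ((a : G) * b) * t⁻¹ = t * a * t⁻¹ * (t * b * t⁻¹)
    group)
  have hinj : Function.Injective f := by
    intro a b h
    have h1 : t * (a : G) * t⁻¹ = t * b * t⁻¹ := congrArg Subtype.val h
    exact Subtype.ext (mul_left_cancel (mul_right_cancel h1))
  exact ⟨MulEquiv.ofBijective f (Finite.injective_iff_bijective.mp hinj), fun x => rfl⟩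

end Cfsg.Agent.StdL3.OneLoc
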