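import Cfsg.Agent.StdL3.OneGrow
import Cfsg.Agent.LThreeFour.Aut

set_option autoImplicit false
set_option linter.constructorNameAsVariable false
set_option linter.unusedVariables false

/-!
# Growth of `<t> × L₃(4)`: orders, the action of the torus element `h`
-/

namespace Cfsg.Agent.StdL3.OneGrow

open Cfsg.Agent.LThreeFour
open Cfsg.Agent.SporadicA.FieldFour
open Cfsg.Agent.ONType.Psl (kap)
open Cfsg.Agent.StdL3.OneRoot
open Cfsg.Agent.StdL3.OneY
open Cfsg.Agent.StdL3.OnePair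
open Cfsg.Agent.StdL3.OneThree

variable {X : Type*} [Group X] {L : Subgroup X} {A : Dat L} {t : X}

/-- the homomorphism `y ↦ [t,y]` on a root group -/
noncomputable def RG.hom {i j k : Fin 3} {Y : Subgroup X} (h : RG A t i j k Y) (hij : i ≠ j)
    (hinj : ∀ u, r A i j u = 1 → u = 0) : Y →* Multiplicative F4 where
  toFun y := Multiplicative.ofAdd (h.mv y.1 y.2).choose
  map_one' := by
    have e := (h.mv 1 (one_mem Y)).choose_spec
    have e2 : r A i j (h.mv 1 (one_mem Y)).choose = 1 := by simpa using e.symm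
    rw [← ofAdd_zero]
    exact congrArg _ (hinj _ e2)
  map_mul' := by
    intro x y
    have e1 := (h.mv x.1 x.2).choose_spec
    have e2 := (h.mv y.1 y.2).choose_spec
    have e3 := (h.mv (x * y : Y).1 (x * y : Y).2).choose_spec
    rw [← ofAdd_add]
    apply congrArg
    set a := (h.mv x.1 x.2).choose with ha
    set b := (h.mv y.1 y.2).choose with hb
    set c := (h.mv (x * y : Y).1 (x * y : Y).2).choose with hc
    have e4 : t * ((x : X) * y) = (x : X) * y * (t * r A i j (b + a)) := by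
      calc t * ((x : X) * y) = (t * x) * y := by group
        _ = x * (t * (r A i j a * y)) := by rw [e1]; group
        _ = x * (t * (y * r A i j a)) := by rw [h.c1 y.1 y.2]
        _ = x * ((t * y) * r A i j a) := by group
        _ = x * (y * (t * r A i j b) * r A i j a) := by rw [e2]
        _ = (x : X) * y * (t * (r A i j b * r A i j a)) := by group
        _ = _ := by rw [r_add A hij]
    have e5 : (x : X) * y * (t * r A i j c) = (x : X) * y * (t * r A i j (b + a)) := e3.symm.trans e4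
    have e6 := mul_left_cancel (mul_left_cancel e5)
    have e7 : r A i j (c + (b + a)) = 1 := by rw [← r_add A hij, e6, r_sq A hij]
    exact (by decide : ∀ a b c : F4, c + (b + a) = 0 → c = a + b) a b c (hinj _ e7)

theorem card_F4 : Nat.card F4 = 4 := by
  rw [Nat.card_eq_fintype_card]; rfl

/-- root groups have order 16. -/
theorem RG.card {i j k : Fin 3} {Y : Subgroup X} (h : RG A t i j k Y)
    (ht : ∀ l ∈ L, t * l = l * t) (hij : i ≠ j) (hinj : ∀ u, r A i j u = 1 → u = 0) : Nat.card Y = 16 := by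
  set f := h.hom hij hinj with hf
  have hs : Function.Surjective f := by
    intro u
    obtain ⟨y, hy, e⟩ := h.surj (Multiplicative.toAdd u)
    refine ⟨⟨y, hy⟩, ?_⟩
    have e2 := (h.mv y hy).choose_spec
    have e3 := mul_left_cancel (mul_left_cancel (e.symm.trans e2))
    have e4 : r A i j (Multiplicative.toAdd u + (h.mv y hy).choose) = 1 := by
      rw [← r_add A hij, e3, r_sq A hij]
    have e5 := (by decide : ∀ a b : F4, a + b = 0 → b = a) _ _ (hinj _ e4)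
    show Multiplicative.ofAdd (h.mv y hy).choose = u
    rw [e5]; rfl
  have h1 := Subgroup.card_eq_card_quotient_mul_card_subgroup f.ker
  have h2 : Nat.card (Y ⧸ f.ker) = 4 := by
    rw [Nat.card_congr (QuotientGroup.quotientKerEquivOfSurjective f hs).toEquiv]
    exact card_F4
  have h3 : Nat.card f.ker = 4 := by
    rw [← card_F4]
    symm
    have hmem : ∀ u : F4, (⟨r A i j u, h.le u⟩ : Y) ∈ f.ker := by
      intro u
      rw [MonoidHom.mem_ker]
      show Multiplicative.ofAdd (h.mv (r A i j u) (h.le u)).choose = 1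
      have e2 := (h.mv (r A i j u) (h.le u)).choose_spec
      set c := (h.mv (r A i j u) (h.le u)).choose
      -- t r = r t r c
      have e3 : c = 0 := by
        apply hinj
        have e4 := ht _ (r_mem A i j u)
        rw [e4] at e2
        have e5 := mul_left_cancel e2
        have e6 : t * 1 = t * r A i j c := by rw [mul_one]; exact e5
        exact (mul_left_cancel e6).symm
      rw [e3]; rfl
    refine Nat.card_congr (Equiv.ofBijective (fun u : F4 => (⟨⟨r A i j u, h.le u⟩, hmem u⟩ : f.ker))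
      ⟨?_, ?_⟩)
    · intro u v e
      have e1 : r A i j u = r A i j v := congrArg (fun x : f.ker => ((x : Y) : X)) e
      have e2 : r A i j (u + v) = 1 := by rw [← r_add A hij, e1, r_sq A hij]
      exact (by decide : ∀ a b : F4, a + b = 0 → a = b) _ _ (hinj _ e2)
    · rintro ⟨⟨y, hy⟩, hk⟩
      rw [MonoidHom.mem_ker] at hk
      have e1 : (h.mv y hy).choose = 0 := hk
      have e2 := (h.mv y hy).choose_spec
      rw [e1, r_zero A hij, mul_one] at e2
      obtain ⟨u, hu⟩ := h.fix y hy e2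
      exact ⟨u, Subtype.ext (Subtype.ext hu.symm)⟩
  rw [h1, h2, h3]

/-! ### the torus element -/

theorem kap_swap : ∀ a b i j : Fin 3, a ≠ b → i ≠ j → ∀ u : F4,
    kap (Equiv.swap a b i) (Equiv.swap a b j) * kap (Equiv.swap a b i) (Equiv.swap a b j) * u =
      kap i j * u := by
  decide +kernel

theorem swap_inj {a b i j : Fin 3} (hij : i ≠ j) : Equiv.swap a b i ≠ Equiv.swap a b j :=
  fun h => hij ((Equiv.swap a b).injective h)

theorem wey_inv_h {a b : Fin 3} (hab : a ≠ b) :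
    ((wey A a b : L) : X) * hh A = (hh A)⁻¹ * ((wey A a b : L) : X) := by
  have hW : ∀ i j, i ≠ j → ∀ u, (wey A a b)⁻¹ * A.x i j u * wey A a b =
      A.x (Equiv.swap a b i) (Equiv.swap a b j) u := fun i j hij u => A.x_wey a b i j hab hij u
  have hW' : ∀ i j, i ≠ j → ∀ u, wey A a b * A.x i j u * (wey A a b)⁻¹ =
      A.x (Equiv.swap a b i) (Equiv.swap a b j) u := by
    intro i j hij u
    have h1 := hW _ _ (swap_inj (a := a) (b := b) hij) u
    rw [Equiv.swap_apply_self, Equiv.swap_apply_self] at h1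
    rw [← h1]; group
  have key : wey A a b * A.h * (wey A a b)⁻¹ = A.h⁻¹ := by
    apply A.conj_injective
    apply Dat.hom_ext (A := A)
    intro i j hij u
    have h2 := hW i j hij u
    have h3 := A.h_inv_x _ _ (swap_inj (a := a) (b := b) hij) u
    rw [kap_swap a b i j hab hij] at h3
    have h4 := hW' _ _ (swap_inj (a := a) (b := b) hij)
      (kap i j * u)
    rw [Equiv.swap_apply_self, Equiv.swap_apply_self] at h4
    rw [MulAut.conj_apply, MulAut.conj_apply, inv_inv, A.h_x i j hij u, ← h4, ← h3, ← h2]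
    group
  have key2 : wey A a b * A.h = A.h⁻¹ * wey A a b := by rw [← key]; group
  exact congrArg Subtype.val key2

/-- `h` acts on the root groups. -/
theorem cs_h {Y : Subgroup X} (hY : ∀ y ∈ Y, hh A * y * (hh A)⁻¹ ∈ Y) {a b : Fin 3} (hab : a ≠ b)
    {y : X} (hy : y ∈ cs ((wey A a b : L) : X) Y) :
    (hh A)⁻¹ * y * hh A ∈ cs ((wey A a b : L) : X) Y := by
  rw [mem_cs] at hy ⊢
  have h1 := wey_inv_h (A := A) hab
  set w : X := ((wey A a b : L) : X)
  have h2 : w * (hh A)⁻¹ = hh A * w := by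
    have : (hh A) * (w * hh A) * (hh A)⁻¹ = (hh A) * ((hh A)⁻¹ * w) * (hh A)⁻¹ := by rw [h1]
    calc w * (hh A)⁻¹ = (hh A) * ((hh A)⁻¹ * w) * (hh A)⁻¹ := by group
      _ = (hh A) * (w * hh A) * (hh A)⁻¹ := by rw [h1]
      _ = hh A * w := by group
  have h3 : w * ((hh A)⁻¹ * y * hh A) * w⁻¹ = hh A * (w * y * w⁻¹) * (hh A)⁻¹ := by
    have h4 : hh A * w⁻¹ = w⁻¹ * (hh A)⁻¹ := by
      calc hh A * w⁻¹ = w⁻¹ * (w * hh A) * w⁻¹ := by group
        _ = w⁻¹ * ((hh A)⁻¹ * w) * w⁻¹ := by rw [h1]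
        _ = w⁻¹ * (hh A)⁻¹ := by group
    calc w * ((hh A)⁻¹ * y * hh A) * w⁻¹ = (w * (hh A)⁻¹) * y * (hh A * w⁻¹) := by group
      _ = (hh A * w) * y * (w⁻¹ * (hh A)⁻¹) := by rw [h2, h4]
      _ = _ := by group
  rw [h3]
  exact hY _ hy

namespace Setup

theorem card_Y3 (S : Setup A t) : Nat.card S.Y3 = 16 := S.rg3.card S.tL (by decide) inj02
theorem card_Y1 (S : Setup A t) : Nat.card S.Y1 = 16 := S.rg1.card S.tL (by decide) inj01
theorem card_Y2 (S : Setup A t) : Nat.card S.Y2 = 16 := S.rg2.card S.tL (by decide) inj12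

theorem h_Y3 (S : Setup A t) {y : X} (hy : y ∈ S.Y3) : (hh A)⁻¹ * y * hh A ∈ S.Y3 :=
  S.toInp.cj_mem0 hy

theorem h_Y3' (S : Setup A t) {y : X} (hy : y ∈ S.Y3) : hh A * y * (hh A)⁻¹ ∈ S.Y3 := by
  have h1 := S.h_Y3 (S.h_Y3 hy)
  have h3 := hh_cube A
  have h2 : (hh A)⁻¹ * ((hh A)⁻¹ * y * hh A) * hh A = hh A * y * (hh A)⁻¹ := by
    have h4 : hh A * hh A = (hh A)⁻¹ := eq_inv_of_mul_eq_one_left h3
    have h5 : (hh A)⁻¹ * (hh A)⁻¹ = hh A := by rw [← h4, ← mul_assoc, mul_assoc, mul_assoc,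
      ← mul_assoc (hh A) (hh A) (hh A), h3, mul_one]
    calc (hh A)⁻¹ * ((hh A)⁻¹ * y * hh A) * hh A = ((hh A)⁻¹ * (hh A)⁻¹) * y * (hh A * hh A) := by
          group
      _ = hh A * y * (hh A)⁻¹ := by rw [h5, h4]
  rw [← h2]; exact h1

theorem h_Y1 (S : Setup A t) {y : X} (hy : y ∈ S.Y1) : (hh A)⁻¹ * y * hh A ∈ S.Y1 :=
  cs_h (fun y hy => S.h_Y3' hy) (by decide) hy

theorem h_Y2 (S : Setup A t) {y : X} (hy : y ∈ S.Y2) : (hh A)⁻¹ * y * hh A ∈ S.Y2 :=
  cs_h (fun y hy => S.h_Y3' hy) (by decide) hy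

end Setup

/-- `h` is fixed point free on the root groups -/
theorem RG.h_fix {i j k : Fin 3} {Y : Subgroup X} (h : RG A t i j k Y)
    (ht : ∀ l ∈ L, t * l = l * t) (hij : i ≠ j) (hinj : ∀ u, r A i j u = 1 → u = 0)
    {y : X} (hy : y ∈ Y) (e : (hh A)⁻¹ * y * hh A = y) : y = 1 := by
  have hr : ∀ u, (hh A)⁻¹ * r A i j u * hh A = r A i j (kap i j * u) := fun u =>
    congrArg Subtype.val (A.h_x i j hij u)
  have key : ∀ i j : Fin 3, ∀ u : F4, u + kap i j * u = 0 → u = 0 := by decide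
  have key2 : ∀ u v : F4, r A i j u = r A i j v → u + v = 0 := fun u v e => by
    apply hinj; rw [← r_add A hij, e, r_sq A hij]
  obtain ⟨u, hu⟩ := h.mv y hy
  have h1 : t * y = y * (t * r A i j (kap i j * u)) := by
    have hth := ht _ (hh_mem A)
    have hth' : t * (hh A)⁻¹ = (hh A)⁻¹ * t := by
      calc t * (hh A)⁻¹ = (hh A)⁻¹ * (hh A * t) * (hh A)⁻¹ := by group
        _ = (hh A)⁻¹ * (t * hh A) * (hh A)⁻¹ := by rw [hth]
        _ = (hh A)⁻¹ * t := by group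
    calc t * y = t * ((hh A)⁻¹ * y * hh A) := by rw [e]
      _ = (t * (hh A)⁻¹) * y * hh A := by group
      _ = (hh A)⁻¹ * (t * y) * hh A := by rw [hth']; group
      _ = (hh A)⁻¹ * (y * (t * r A i j u)) * hh A := by rw [hu]
      _ = ((hh A)⁻¹ * y * hh A) * ((hh A)⁻¹ * t) * hh A * ((hh A)⁻¹ * r A i j u * hh A) := by group
      _ = y * (t * (hh A)⁻¹) * hh A * r A i j (kap i j * u) := by rw [e, hth', hr]
      _ = y * (t * r A i j (kap i j * u)) := by group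
  have h2 := mul_left_cancel (mul_left_cancel (hu.symm.trans h1))
  have h3 := key i j u (key2 _ _ h2)
  rw [h3, r_zero A hij, mul_one] at hu
  obtain ⟨v, rfl⟩ := h.fix y hy hu
  rw [hr] at e
  have h4 := key2 _ _ e.symm
  rw [key i j v h4, r_zero A hij]

namespace Setup

theorem mul_eq_one (S : Setup A t) {y1 y2 y3 : X} (h1 : y1 ∈ S.Y1) (h2 : y2 ∈ S.Y2)
    (h3 : y3 ∈ S.Y3) (e : y1 * y2 * y3 = 1) : y1 = 1 ∧ y2 = 1 ∧ y3 = 1 := by
  obtain ⟨v1, hv1, e1⟩ := S.three.Yt1 y1 h1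
  obtain ⟨v2, hv2, e2⟩ := S.three.Yt2 y2 h2
  obtain ⟨v3, hv3, e3⟩ := S.three.Yt3 y3 h3
  have q1 := S.three.le1 hv1
  have q2 := S.three.le2 hv2
  have q3 := S.three.le3 hv3
  -- t y1 y2 y3 = y1 t v1 y2 y3 = y1 t y2 v1 z y3 ...
  obtain ⟨z, hz, f⟩ := S.three.Y2X1 y2 h2 v1 hv1
  -- v1⁻¹ y2 v1 = y2 z
  have f1 : v1 * y2 = y2 * v1 * z⁻¹ := by
    have : y2 * v1 = v1 * (y2 * z) := by rw [← f]; group
    have h6 := S.three.c13 v1 q1 z⁻¹ (S.Y3.inv_mem hz)
    have h7 := S.three.c23 y2 h2 z⁻¹ (S.Y3.inv_mem hz)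
    calc v1 * y2 = v1 * (y2 * z) * z⁻¹ := by group
      _ = y2 * v1 * z⁻¹ := by rw [← this]
  have hc : ∀ z ∈ S.Y3, z * y3 = y3 * z := fun z hz => comm_of_sq S.three.sq3 hz h3
  have g1 : t = t * (v2 * v1 * (z⁻¹ * v3)) := by
    have a1 := hc z⁻¹ (S.Y3.inv_mem hz)
    have a2 := S.three.c13 v1 q1 y3 h3
    have a3 := S.three.c23 v2 q2 y3 h3
    have a4 : v3 * (v2 * v1 * z⁻¹) = v2 * v1 * (z⁻¹ * v3) := by
      have b1 := S.three.c23 v2 q2 v3 q3
      have b2 := S.three.c13 v1 q1 v3 q3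
      have b3 := comm_of_sq S.three.sq3 q3 (S.Y3.inv_mem hz)
      calc v3 * (v2 * v1 * z⁻¹) = (v3 * v2) * v1 * z⁻¹ := by group
        _ = v2 * (v3 * v1) * z⁻¹ := by rw [← b1]; group
        _ = v2 * v1 * (v3 * z⁻¹) := by rw [← b2]; group
        _ = _ := by rw [b3]
    have a5 : t * (y1 * y2 * y3) = y1 * y2 * y3 * (t * (v2 * v1 * (z⁻¹ * v3))) := by
      calc t * (y1 * y2 * y3) = (t * y1) * y2 * y3 := by group
        _ = y1 * t * (v1 * y2) * y3 := by rw [e1]; group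
        _ = y1 * (t * y2) * v1 * (z⁻¹ * y3) := by rw [f1]; group
        _ = y1 * y2 * t * v2 * (v1 * y3) * z⁻¹ := by rw [e2, a1]; group
        _ = y1 * y2 * t * (v2 * y3) * v1 * z⁻¹ := by rw [a2]; group
        _ = y1 * y2 * (t * y3) * v2 * v1 * z⁻¹ := by rw [a3]; group
        _ = y1 * y2 * y3 * t * (v3 * (v2 * v1 * z⁻¹)) := by rw [e3]; group
        _ = _ := by rw [a4]; group
    rw [e, one_mul, mul_one] at a5
    exact a5
  have g2 : v2 * v1 * (z⁻¹ * v3) = 1 := by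
    have : t * 1 = t * (v2 * v1 * (z⁻¹ * v3)) := by rw [mul_one]; exact g1
    exact (mul_left_cancel this).symm
  have g3 : v2 * v1 ∈ S.Y3 := by
    rw [eq_inv_of_mul_eq_one_left g2]
    exact S.Y3.inv_mem (S.Y3.mul_mem (S.Y3.inv_mem hz) q3)
  have g4 : t * (v2 * v1) = v2 * v1 * t := by
    rw [← mul_assoc, S.three.t2 v2 hv2, mul_assoc, S.three.t1 v1 hv1, mul_assoc]
  obtain ⟨g5, g6⟩ := S.three.swap.uniq v2 hv2 v1 hv1 (S.three.fix3 _ g3 g4)
  subst g5; subst g6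
  rw [mul_one] at e1 e2
  have x1 := S.three.fix1 y1 h1 e1
  have x2 := S.three.fix2 y2 h2 e2
  have e5 : y1 * y2 ∈ S.Y3 := by
    rw [eq_inv_of_mul_eq_one_left e]; exact S.Y3.inv_mem h3
  have e6 : t * (y1 * y2) = y1 * y2 * t := by
    rw [← mul_assoc, e1, mul_assoc, e2, mul_assoc]
  obtain ⟨e7, e8⟩ := S.three.uniq y1 x1 y2 x2 (S.three.fix3 _ e5 e6)
  subst e7; subst e8
  exact ⟨rfl, rfl, by simpa using e⟩

theorem card_U (S : Setup A t) : Nat.card S.U = 2 ^ 12 := by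
  have h1 : Nat.card S.U = Nat.card (S.Y1 × S.Y2 × S.Y3) := by
    symm
    refine Nat.card_congr (Equiv.ofBijective (fun p : S.Y1 × S.Y2 × S.Y3 =>
      (⟨(p.1 : X) * (p.2.1 : X) * (p.2.2 : X), _, p.1.2, _, p.2.1.2, _, p.2.2.2, rfl⟩ : S.U))
      ⟨?_, ?_⟩)
    · rintro ⟨⟨a1, ha1⟩, ⟨a2, ha2⟩, ⟨a3, ha3⟩⟩ ⟨⟨b1, hb1⟩, ⟨b2, hb2⟩, ⟨b3, hb3⟩⟩ e
      have e' : a1 * a2 * a3 = b1 * b2 * b3 := congrArg Subtype.val e
      -- (b1⁻¹ a1) (a2 b2⁻¹) = b2 (b3 a3⁻¹) b2⁻¹ = b3 a3⁻¹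
      have h3 := S.three.c23 b2 hb2 (b3 * a3⁻¹) (S.Y3.mul_mem hb3 (S.Y3.inv_mem ha3))
      have e1 : (b1⁻¹ * a1) * (a2 * b2⁻¹) = b3 * a3⁻¹ := by
        calc (b1⁻¹ * a1) * (a2 * b2⁻¹) = b1⁻¹ * (a1 * a2 * a3) * a3⁻¹ * b2⁻¹ := by group
          _ = b1⁻¹ * (b1 * b2 * b3) * a3⁻¹ * b2⁻¹ := by rw [e']
          _ = (b2 * (b3 * a3⁻¹)) * b2⁻¹ := by group
          _ = b3 * a3⁻¹ := by rw [h3]; group
      have e2 : (b1⁻¹ * a1) * (a2 * b2⁻¹) * (b3 * a3⁻¹)⁻¹ = 1 := by rw [e1]; group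
      obtain ⟨k1, k2, k3⟩ := S.mul_eq_one (S.Y1.mul_mem (S.Y1.inv_mem hb1) ha1)
        (S.Y2.mul_mem ha2 (S.Y2.inv_mem hb2))
        (S.Y3.inv_mem (S.Y3.mul_mem hb3 (S.Y3.inv_mem ha3))) e2
      have m1 : a1 = b1 := (inv_mul_eq_one.mp k1).symm
      have m2 : a2 = b2 := mul_inv_eq_one.mp k2
      have m3 : a3 = b3 := (mul_inv_eq_one.mp (inv_eq_one.mp k3)).symm
      subst m1; subst m2; subst m3; rfl
    · rintro ⟨x, y1, h1, y2, h2, y3, h3, rfl⟩
      exact ⟨(⟨y1, h1⟩, ⟨y2, h2⟩, ⟨y3, h3⟩), rfl⟩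
  rw [h1, Nat.card_prod, Nat.card_prod, S.card_Y1, S.card_Y2, S.card_Y3]; norm_num

end Setup

end Cfsg.Agent.StdL3.OneGrow
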