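import Cfsg.Agent.LThreeFour.Sub

set_option autoImplicit false
set_option linter.constructorNameAsVariable false
set_option linter.unusedVariables false

/-!
# Growth of `<t> × L₃(4)`: an element of `C_X(T)` moving `t` to `t z`

`L ≤ X` with coordinates `A : Dat L`, `t` centralises `L`, `n` normalises `T` and `t^n = t z`, `z ∈ Z(T)`.
-/

namespace Cfsg.Agent.StdL3.OneRoot

open Cfsg.Agent.LThreeFour
open Cfsg.Agent.SporadicA.FieldFour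
open Cfsg.Agent.ONType.Psl (kap)

variable {X : Type*} [Group X] {L : Subgroup X}

/-- elements of `T` in `X` -/
def E (A : Dat L) (p : Code) : X := (A.el p : X)

/-- the torus element in `X` -/
def hh (A : Dat L) : X := (A.h : X)

variable (A : Dat L)

theorem E_mul (p q : Code) : E A p * E A q = E A (cmul p q) := by
  rw [E, E, E, ← A.el_mul]; rfl

theorem E_one : E A cone = 1 := by rw [E, A.el_one]; rfl

theorem E_inv (p : Code) : (E A p)⁻¹ = E A (cinv p) := by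
  rw [E, E, ← A.el_inv]; rfl

theorem E_inj {p q : Code} (h : E A p = E A q) : p = q := A.inj (Subtype.ext h)

theorem E_mem (p : Code) : E A p ∈ L := (A.el p).2

theorem hh_mem : hh A ∈ L := A.h.2

/-- action of the torus -/
def ch (p : Code) : Code := ⟨kap 0 1 * p.a, kap 1 2 * p.b, kap 0 2 * p.c⟩

theorem h_el (p : Code) : A.h⁻¹ * A.el p * A.h = A.el (ch p) := by
  rw [A.el_eq, A.el_eq]
  have h1 := A.h_x 0 1 (by decide) p.a
  have h2 := A.h_x 1 2 (by decide) p.b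
  have h3 := A.h_x 0 2 (by decide) p.c
  calc A.h⁻¹ * (A.x 0 1 p.a * A.x 1 2 p.b * A.x 0 2 p.c) * A.h
      = (A.h⁻¹ * A.x 0 1 p.a * A.h) * (A.h⁻¹ * A.x 1 2 p.b * A.h) * (A.h⁻¹ * A.x 0 2 p.c * A.h) := by
        group
    _ = _ := by rw [h1, h2, h3]; rfl

theorem hE (p : Code) : (hh A)⁻¹ * E A p * hh A = E A (ch p) := by
  rw [E, E, hh, ← h_el]; rfl

theorem hE_inv (p : Code) : hh A * E A p * (hh A)⁻¹ = E A (ch (ch p)) := by
  have h3 : ∀ p : Code, ch (ch (ch p)) = p := by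
    intro ⟨a, b, c⟩
    have : ∀ a b c : F4, ch (ch (ch ⟨a, b, c⟩)) = ⟨a, b, c⟩ := by decide
    exact this a b c
  have h1 := hE A (ch (ch p))
  rw [h3] at h1
  rw [← h1]; group

theorem hh_cube : hh A * hh A * hh A = 1 := by
  have := A.h_pow
  rw [pow_succ, pow_two] at this
  have h2 := congrArg Subtype.val this
  exact h2

/-- `n` acts on the codes by `φ` and moves `t` by `τ`. -/
structure Ad (t n : X) (φ : Code → Code) (τ : F4) : Prop where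
  act : ∀ p, n⁻¹ * E A p * n = E A (φ p)
  mv : n⁻¹ * t * n = t * E A ⟨0, 0, τ⟩

variable {A}

theorem Ad.mul {t n m : X} {φ ψ : Code → Code} {τ σ τ' : F4} (h : Ad A t n φ τ) (h' : Ad A t m ψ σ)
    (h2 : ψ ⟨0, 0, τ⟩ = ⟨0, 0, τ'⟩) : Ad A t (n * m) (ψ ∘ φ) (σ + τ') where
  act p := by
    calc (n * m)⁻¹ * E A p * (n * m) = m⁻¹ * (n⁻¹ * E A p * n) * m := by group
      _ = E A (ψ (φ p)) := by rw [h.act, h'.act]
  mv := by
    calc (n * m)⁻¹ * t * (n * m) = m⁻¹ * (n⁻¹ * t * n) * m := by group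
      _ = (m⁻¹ * t * m) * (m⁻¹ * E A ⟨0, 0, τ⟩ * m) := by rw [h.mv]; group
      _ = t * (E A ⟨0, 0, σ⟩ * E A ⟨0, 0, τ'⟩) := by rw [h'.mv, h'.act, h2]; group
      _ = t * E A ⟨0, 0, σ + τ'⟩ := by
        rw [E_mul]; congr 2

theorem Ad.hom {t n : X} {φ : Code → Code} {τ : F4} (h : Ad A t n φ τ) (p q : Code) :
    φ (cmul p q) = cmul (φ p) (φ q) := by
  apply E_inj A
  rw [← h.act, ← E_mul, ← E_mul, ← h.act, ← h.act]; group

theorem Ad.one {t n : X} {φ : Code → Code} {τ : F4} (h : Ad A t n φ τ) : φ cone = cone := by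
  apply E_inj A
  rw [← h.act, E_one]; group

theorem Ad.inj {t n : X} {φ : Code → Code} {τ : F4} (h : Ad A t n φ τ) {p q : Code}
    (e : φ p = φ q) : p = q := by
  apply E_inj A
  have h1 := h.act p
  have h2 := h.act q
  rw [e, ← h2] at h1
  have h3 : n⁻¹ * E A p = n⁻¹ * E A q := mul_right_cancel h1
  exact mul_left_cancel h3

theorem Ad.cinv {t n : X} {φ : Code → Code} {τ : F4} (h : Ad A t n φ τ) (p : Code) :
    φ (cinv p) = LThreeFour.cinv (φ p) := by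
  apply E_inj A
  rw [← h.act, ← E_inv, ← E_inv, ← h.act]; group

theorem Ad.comm {t n : X} {φ : Code → Code} {τ : F4} (h : Ad A t n φ τ) (p q : Code) :
    φ ⟨0, 0, p.a * q.b + p.b * q.a⟩ =
      ⟨0, 0, (φ p).a * (φ q).b + (φ p).b * (φ q).a⟩ := by
  rw [← ccomm_eq, ← ccomm_eq, ccomm, ccomm, h.hom, h.hom, h.hom, h.cinv, h.cinv]

/-- the action of `Ad` on the centre -/
theorem Ad.centre {t n : X} {φ : Code → Code} {τ : F4} (h : Ad A t n φ τ) (c : F4) :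
    φ ⟨0, 0, c⟩ = ⟨0, 0, (φ ⟨0, 0, c⟩).c⟩ := by
  have h1 := h.comm ⟨1, 0, 0⟩ ⟨0, c, 0⟩
  have h2 : (1 : F4) * c + 0 * 0 = c := by simp
  simp only [h2] at h1
  rw [h1]

theorem Ad.centre_add {t n : X} {φ : Code → Code} {τ : F4} (h : Ad A t n φ τ) (c d : F4) :
    (φ ⟨0, 0, c + d⟩).c = (φ ⟨0, 0, c⟩).c + (φ ⟨0, 0, d⟩).c := by
  have h1 : (⟨0, 0, c + d⟩ : Code) = cmul ⟨0, 0, c⟩ ⟨0, 0, d⟩ := by
    simp [cmul]
  rw [h1, h.hom, h.centre c, h.centre d]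
  simp [cmul]

theorem Ad.of_h {t : X} (ht : ∀ l ∈ L, t * l = l * t) : Ad A t (hh A) ch 0 where
  act p := hE A p
  mv := by
    have h1 : E A ⟨0, 0, 0⟩ = 1 := E_one A
    rw [h1, mul_one, mul_assoc, ht _ (hh_mem A)]; group

theorem Ad.of_h_inv {t : X} (ht : ∀ l ∈ L, t * l = l * t) :
    Ad A t (hh A)⁻¹ (fun p => ch (ch p)) 0 where
  act p := by rw [inv_inv]; exact hE_inv A p
  mv := by
    have h1 : E A ⟨0, 0, 0⟩ = 1 := E_one A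
    rw [h1, mul_one, inv_inv, ← ht _ (hh_mem A)]; group

/-- `n` acts on the centre by `δ` and moves `t` by `τ` -/
def P (A : Dat L) (t n : X) (δ : F4 → F4) (τ : F4) : Prop :=
  ∃ φ, Ad A t n φ τ ∧ ∀ c, φ ⟨0, 0, c⟩ = ⟨0, 0, δ c⟩

theorem P.mul {t n m : X} {δ ε : F4 → F4} {τ σ : F4} (h : P A t n δ τ) (h' : P A t m ε σ) :
    P A t (n * m) (ε ∘ δ) (σ + ε τ) := by
  obtain ⟨φ, h1, h2⟩ := h
  obtain ⟨ψ, h3, h4⟩ := h'
  exact ⟨ψ ∘ φ, h1.mul h3 (h4 τ), fun c => by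
    show ψ (φ _) = _
    rw [h2, h4]; rfl⟩

theorem delta_class (d : F4 → F4) (hadd : ∀ x y, d (x + y) = d x + d y)
    (hinj : ∀ x, d x = 0 → x = 0) :
    ∃ η : F4, η ≠ 0 ∧ ((∀ c, d c = η * c) ∨ (∀ c, d c = η * (c * c))) := by
  have h0 : d 0 = 0 := by
    have := hadd 0 0
    rw [add_zero] at this
    exact left_eq_add.mp this
  have h1 : d 1 ≠ 0 := fun h => by have := hinj 1 h; revert this; decide
  have h2 : d F4.w ≠ 0 := fun h => by have := hinj _ h; revert this; decide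
  have h3 : d F4.v = d 1 + d F4.w := by rw [← hadd]; rfl
  have h4 : d F4.v ≠ 0 := fun h => by have := hinj _ h; revert this; decide
  refine ⟨d 1, h1, ?_⟩
  have key : ∀ p q : F4, p ≠ 0 → q ≠ 0 → p + q ≠ 0 →
      (q = p * F4.w ∧ p + q = p * F4.v) ∨ (q = p * (F4.w * F4.w) ∧ p + q = p * (F4.v * F4.v)) := by
    decide
  have all : ∀ f g : F4 → F4, f 0 = g 0 → f 1 = g 1 → f F4.w = g F4.w → f F4.v = g F4.v →
      ∀ c, f c = g c := by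
    intro f g a b c d x
    cases x
    · exact a
    · exact b
    · exact c
    · exact d
  rcases key (d 1) (d F4.w) h1 h2 (h3 ▸ h4) with ⟨k1, k2⟩ | ⟨k1, k2⟩
  · left
    exact all d (fun c => d 1 * c) (by simp [h0]) (by simp) k1 (by rw [h3]; exact k2)
  · right
    refine all d (fun c => d 1 * (c * c)) (by simp [h0]) (by simp) k1 (by rw [h3]; exact k2)

theorem P.congr {t n : X} {δ δ' : F4 → F4} {τ τ' : F4} (h : P A t n δ τ) (h1 : ∀ c, δ c = δ' c)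
    (h2 : τ = τ') : P A t n δ' τ' := by
  subst h2
  obtain ⟨φ, h3, h4⟩ := h
  exact ⟨φ, h3, fun c => by rw [h4, h1]⟩

theorem f1 : ∀ τ : F4, τ ≠ 0 → 0 + F4.v * τ ≠ 0 := by decide
theorem f2 : ∀ τ : F4, τ ≠ 0 → 0 + F4.w * τ ≠ 0 := by decide
theorem f3 : ∀ η c : F4, η ≠ 0 → η * ((η * (c * c)) * (η * (c * c))) = c := by decide
theorem f4 : ∀ η τ : F4, η ≠ 0 → τ ≠ 0 → η * τ = F4.w → τ + η * (τ * τ) ≠ 0 := by decide
theorem f5 : ∀ η c : F4, η ≠ 0 → F4.v * (η * ((F4.w * (η * (c * c))) * (F4.w * (η * (c * c))))) =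
    F4.w * c := by decide
theorem f6 : ∀ η τ : F4, η ≠ 0 → τ ≠ 0 → η * τ ≠ F4.w →
    (0 + F4.v * (τ + η * (0 * 0))) + F4.v * (η * ((F4.w * τ) * (F4.w * τ))) ≠ 0 := by decide

/-- we may take `n` to centralise `Z`. -/
theorem exists_centre {t n : X} {φ : Code → Code} {τ : F4} (ht : ∀ l ∈ L, t * l = l * t)
    (M : Subgroup X) (hM : hh A ∈ M) (hnM : n ∈ M) (h : Ad A t n φ τ) (hτ : τ ≠ 0) :
    ∃ n' ∈ M, ∃ τ', τ' ≠ 0 ∧ P A t n' id τ' := by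
  have hP : P A t n (fun c => (φ ⟨0, 0, c⟩).c) τ := ⟨φ, h, h.centre⟩
  have hh1 : P A t (hh A) (fun c => F4.v * c) 0 := ⟨_, Ad.of_h ht, fun c => by
    simp only [ch]; revert c; decide⟩
  have hh2 : P A t (hh A)⁻¹ (fun c => F4.w * c) 0 := ⟨_, Ad.of_h_inv ht, fun c => by
    simp only [ch]; revert c; decide⟩
  -- the linear case
  have lin : ∀ (n : X) (η τ : F4), n ∈ M → η ≠ 0 → τ ≠ 0 → P A t n (fun c => η * c) τ →
      ∃ n' ∈ M, ∃ τ', τ' ≠ 0 ∧ P A t n' id τ' := by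
    intro n η τ hnM hη hτ hn
    have key : ∀ η : F4, η ≠ 0 → η = 1 ∨ η = F4.w ∨ η = F4.v := by decide
    rcases key η hη with rfl | rfl | rfl
    · exact ⟨n, hnM, τ, hτ, hn.congr (fun c => by simp) rfl⟩
    · exact ⟨n * hh A, M.mul_mem hnM hM, _, f1 τ hτ, (hn.mul hh1).congr
        (by show ∀ c : F4, F4.v * (F4.w * c) = c; decide) rfl⟩
    · exact ⟨n * (hh A)⁻¹, M.mul_mem hnM (M.inv_mem hM), _, f2 τ hτ, (hn.mul hh2).congr
        (by show ∀ c : F4, F4.w * (F4.v * c) = c; decide) rfl⟩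
  obtain ⟨η, hη, hd⟩ := delta_class (fun c => (φ ⟨0, 0, c⟩).c) h.centre_add (by
    intro x hx
    have h1 := h.centre x
    have hx' : (φ ⟨0, 0, x⟩).c = 0 := hx
    rw [hx'] at h1
    have h2 : φ ⟨0, 0, x⟩ = φ cone := by rw [h1, h.one]; rfl
    have h3 := h.inj h2
    have := congrArg Code.c h3
    exact this)
  rcases hd with hd | hd
  · exact lin n η τ hnM hη hτ (hP.congr hd rfl)
  · have hP' : P A t n (fun c => η * (c * c)) τ := hP.congr hd rfl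
    by_cases hc : η * τ = F4.w
    · exact ⟨n * n, M.mul_mem hnM hnM, _, f4 η τ hη hτ hc,
        (hP'.mul hP').congr (fun c => f3 η c hη) rfl⟩
    · have h4 := hP'.mul ((hh2.mul hP').mul hh1)
      exact lin _ F4.w _ (M.mul_mem hnM (M.mul_mem (M.mul_mem (M.inv_mem hM) hnM) hM))
        (by decide) (f6 η τ hη hτ hc) (h4.congr (fun c => f5 η c hη) rfl)

/-! ### action on `T/Z` -/

set_option synthInstance.maxHeartbeats 400000 in
set_option synthInstance.maxSize 100000 in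
theorem cls : ∀ a1 b1 : F4, (a1 = 0 ∨ b1 = 0) → ∀ a2 b2 : F4, (a2 = 0 ∨ b2 = 0) →
    a1 * b2 + b1 * a2 = 0 → ∀ a3 b3 : F4, (a3 = 0 ∨ b3 = 0) → a1 * b3 + b1 * a3 = 1 →
    a2 * b3 + b2 * a3 = F4.w → ∀ a4 b4 : F4, (a4 = 0 ∨ b4 = 0) → a3 * b4 + b3 * a4 = 0 →
    a1 * b4 + b1 * a4 = F4.w →
    (b1 = 0 ∧ b2 = 0 ∧ a3 = 0 ∧ a4 = 0 ∧ a2 = a1 * F4.w ∧ b4 = b3 * F4.w ∧ a1 * b3 = 1) ∨
    (a1 = 0 ∧ a2 = 0 ∧ b3 = 0 ∧ b4 = 0 ∧ b2 = b1 * F4.w ∧ a4 = a3 * F4.w ∧ b1 * a3 = 1) := by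
  decide +kernel

/-- coordinates of a code in the `F₂`-basis -/
theorem basis_a : ∀ a : F4, (⟨a, 0, 0⟩ : Code) = cone ∨ (⟨a, 0, 0⟩ : Code) = ⟨1, 0, 0⟩ ∨
    (⟨a, 0, 0⟩ : Code) = ⟨F4.w, 0, 0⟩ ∨ (⟨a, 0, 0⟩ : Code) = cmul ⟨1, 0, 0⟩ ⟨F4.w, 0, 0⟩ := by
  decide +kernel

theorem basis_b : ∀ b : F4, (⟨0, b, 0⟩ : Code) = cone ∨ (⟨0, b, 0⟩ : Code) = ⟨0, 1, 0⟩ ∨
    (⟨0, b, 0⟩ : Code) = ⟨0, F4.w, 0⟩ ∨ (⟨0, b, 0⟩ : Code) = cmul ⟨0, 1, 0⟩ ⟨0, F4.w, 0⟩ := by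
  decide +kernel

theorem code_eq (a b c : F4) : (⟨a, b, c⟩ : Code) = cmul (cmul ⟨a, 0, 0⟩ ⟨0, b, 0⟩) ⟨0, 0, c⟩ := by
  simp [cmul]

/-- action on `T/Z` of an element centralising `Z`. -/
theorem Ad.class {t n : X} {φ : Code → Code} {τ : F4} (h : Ad A t n φ τ)
    (hc : ∀ c, φ ⟨0, 0, c⟩ = ⟨0, 0, c⟩) :
    ∃ l l' : F4, l * l' = 1 ∧
      ((∀ p, (φ p).a = l * p.a ∧ (φ p).b = l' * p.b) ∨
       (∀ p, (φ p).a = l' * p.b ∧ (φ p).b = l * p.a)) := by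
  have hsq : ∀ p : Code, cmul p p = cone → ((φ p).a = 0 ∨ (φ p).b = 0) := by
    intro p hp
    rw [← cmul_self, ← h.hom, hp, h.one]
  have hcomm : ∀ p q : Code, (φ p).a * (φ q).b + (φ p).b * (φ q).a = p.a * q.b + p.b * q.a := by
    intro p q
    have h1 := h.comm p q
    rw [hc] at h1
    exact (congrArg Code.c h1).symm
  have hadd : ∀ p q : Code, (φ (cmul p q)).a = (φ p).a + (φ q).a ∧
      (φ (cmul p q)).b = (φ p).b + (φ q).b := by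
    intro p q
    rw [h.hom]
    exact ⟨rfl, rfl⟩
  have key := cls (φ ⟨1, 0, 0⟩).a (φ ⟨1, 0, 0⟩).b (hsq _ (by decide))
    (φ ⟨F4.w, 0, 0⟩).a (φ ⟨F4.w, 0, 0⟩).b (hsq _ (by decide)) (by rw [hcomm]; decide)
    (φ ⟨0, 1, 0⟩).a (φ ⟨0, 1, 0⟩).b (hsq _ (by decide)) (by rw [hcomm]; decide)
    (by rw [hcomm]; decide) (φ ⟨0, F4.w, 0⟩).a (φ ⟨0, F4.w, 0⟩).b (hsq _ (by decide))
    (by rw [hcomm]; decide) (by rw [hcomm]; decide)
  have hcone : (φ cone).a = 0 ∧ (φ cone).b = 0 := by rw [h.one]; exact ⟨rfl, rfl⟩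
  -- from the basis to everything
  have lift : ∀ (f g : F4 → F4), (∀ a, (φ ⟨a, 0, 0⟩).a = f a ∧ (φ ⟨a, 0, 0⟩).b = g a) →
      ∀ (f' g' : F4 → F4), (∀ b, (φ ⟨0, b, 0⟩).a = f' b ∧ (φ ⟨0, b, 0⟩).b = g' b) →
      ∀ p : Code, (φ p).a = f p.a + f' p.b ∧ (φ p).b = g p.a + g' p.b := by
    intro f g h1 f' g' h2 ⟨a, b, c⟩
    have e1 : (φ ⟨a, b, c⟩).a = f a + f' b := by
      rw [code_eq a b c, (hadd _ _).1, (hadd _ _).1, hc, (h1 a).1, (h2 b).1, add_zero]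
    have e2 : (φ ⟨a, b, c⟩).b = g a + g' b := by
      rw [code_eq a b c, (hadd _ _).2, (hadd _ _).2, hc, (h1 a).2, (h2 b).2, add_zero]
    exact ⟨e1, e2⟩
  rcases key with ⟨k1, k2, k3, k4, k5, k6, k7⟩ | ⟨k1, k2, k3, k4, k5, k6, k7⟩
  · refine ⟨(φ ⟨1, 0, 0⟩).a, (φ ⟨0, 1, 0⟩).b, k7, Or.inl ?_⟩
    have ga : ∀ a : F4, (φ ⟨a, 0, 0⟩).a = (φ ⟨1, 0, 0⟩).a * a ∧ (φ ⟨a, 0, 0⟩).b = 0 := by
      have h1 : (φ (cmul ⟨1, 0, 0⟩ ⟨F4.w, 0, 0⟩)).a = (φ ⟨1, 0, 0⟩).a * F4.v := by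
        rw [(hadd _ _).1, k5]; generalize (φ ⟨1, 0, 0⟩).a = x; revert x; decide
      have h2 : (φ (cmul ⟨1, 0, 0⟩ ⟨F4.w, 0, 0⟩)).b = 0 := by
        rw [(hadd _ _).2, k1, k2]; decide
      intro a
      cases a
      · exact ⟨by rw [show (φ ⟨F4.z, 0, 0⟩).a = 0 from hcone.1]; exact (mul_zero _).symm, hcone.2⟩
      · exact ⟨(mul_one _).symm, k1⟩
      · exact ⟨k5, k2⟩
      · exact ⟨h1, h2⟩
    have gb : ∀ b : F4, (φ ⟨0, b, 0⟩).a = 0 ∧ (φ ⟨0, b, 0⟩).b = (φ ⟨0, 1, 0⟩).b * b := by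
      have h1 : (φ (cmul ⟨0, 1, 0⟩ ⟨0, F4.w, 0⟩)).b = (φ ⟨0, 1, 0⟩).b * F4.v := by
        rw [(hadd _ _).2, k6]; generalize (φ ⟨0, 1, 0⟩).b = x; revert x; decide
      have h2 : (φ (cmul ⟨0, 1, 0⟩ ⟨0, F4.w, 0⟩)).a = 0 := by
        rw [(hadd _ _).1, k3, k4]; decide
      intro b
      cases b
      · exact ⟨hcone.1, by rw [show (φ ⟨0, F4.z, 0⟩).b = 0 from hcone.2]; exact (mul_zero _).symm⟩
      · exact ⟨k3, (mul_one _).symm⟩
      · exact ⟨k4, k6⟩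
      · exact ⟨h2, h1⟩
    intro p
    have := lift _ _ ga _ _ gb p
    simpa using this
  · refine ⟨(φ ⟨1, 0, 0⟩).b, (φ ⟨0, 1, 0⟩).a, k7, Or.inr ?_⟩
    have ga : ∀ a : F4, (φ ⟨a, 0, 0⟩).a = 0 ∧ (φ ⟨a, 0, 0⟩).b = (φ ⟨1, 0, 0⟩).b * a := by
      have h1 : (φ (cmul ⟨1, 0, 0⟩ ⟨F4.w, 0, 0⟩)).b = (φ ⟨1, 0, 0⟩).b * F4.v := by
        rw [(hadd _ _).2, k5]; generalize (φ ⟨1, 0, 0⟩).b = x; revert x; decide
      have h2 : (φ (cmul ⟨1, 0, 0⟩ ⟨F4.w, 0, 0⟩)).a = 0 := by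
        rw [(hadd _ _).1, k1, k2]; decide
      intro a
      cases a
      · exact ⟨hcone.1, by rw [show (φ ⟨F4.z, 0, 0⟩).b = 0 from hcone.2]; exact (mul_zero _).symm⟩
      · exact ⟨k1, (mul_one _).symm⟩
      · exact ⟨k2, k5⟩
      · exact ⟨h2, h1⟩
    have gb : ∀ b : F4, (φ ⟨0, b, 0⟩).a = (φ ⟨0, 1, 0⟩).a * b ∧ (φ ⟨0, b, 0⟩).b = 0 := by
      have h1 : (φ (cmul ⟨0, 1, 0⟩ ⟨0, F4.w, 0⟩)).a = (φ ⟨0, 1, 0⟩).a * F4.v := by
        rw [(hadd _ _).1, k6]; generalize (φ ⟨0, 1, 0⟩).a = x; revert x; decide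
      have h2 : (φ (cmul ⟨0, 1, 0⟩ ⟨0, F4.w, 0⟩)).b = 0 := by
        rw [(hadd _ _).2, k3, k4]; decide
      intro b
      cases b
      · exact ⟨by rw [show (φ ⟨0, F4.z, 0⟩).a = 0 from hcone.1]; exact (mul_zero _).symm, hcone.2⟩
      · exact ⟨(mul_one _).symm, k3⟩
      · exact ⟨k6, k4⟩
      · exact ⟨h1, h2⟩
    intro p
    have := lift _ _ ga _ _ gb p
    simpa using this

/-- `n` acts trivially on `Z` and on `T/Z`. -/
def R (A : Dat L) (t n : X) (f : F4 → F4 → F4) (τ : F4) : Prop :=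
  Ad A t n (fun p => ⟨p.a, p.b, p.c + f p.a p.b⟩) τ

theorem Ad.congr {t n : X} {φ ψ : Code → Code} {τ τ' : F4} (h : Ad A t n φ τ)
    (h1 : ∀ p, φ p = ψ p) (h2 : τ = τ') : Ad A t n ψ τ' := by
  subst h2
  exact ⟨fun p => by rw [h.act, h1], h.mv⟩

theorem g1 : ∀ τ : F4, τ ≠ 0 → τ + (τ + τ) ≠ 0 := by decide
theorem g2 : ∀ l l' : F4, l * l' = 1 → ∀ a : F4, l * (l * (l * a)) = a ∧ l' * (l' * (l' * a)) = a := by
  decide
theorem g3 : ∀ τ : F4, ch ⟨0, 0, τ + 0⟩ = ⟨0, 0, F4.v * (τ + 0)⟩ := by decide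
theorem g4 : ∀ τ : F4, τ ≠ 0 → 0 + F4.v * (τ + 0) + τ ≠ 0 := by decide
theorem g5 : ∀ l l' : F4, l * l' = 1 → ∀ a : F4,
    kap 0 1 * (l' * (kap 1 2 * (kap 1 2 * (l * a)))) = a ∧
    kap 1 2 * (l * (kap 0 1 * (kap 0 1 * (l' * a)))) = a := by
  decide

theorem exists_R {t n : X} {τ : F4} (ht : ∀ l ∈ L, t * l = l * t)
    (M : Subgroup X) (hM : hh A ∈ M) (hnM : n ∈ M) (hτ : τ ≠ 0)
    (h : P A t n id τ) : ∃ n' ∈ M, ∃ f τ', τ' ≠ 0 ∧ R A t n' f τ' := by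
  obtain ⟨φ, hφ, hc⟩ := h
  -- an element acting trivially on `T/Z` and on `Z`
  have fin : ∀ (n : X) (φ : Code → Code) (τ : F4), n ∈ M → τ ≠ 0 → Ad A t n φ τ →
      (∀ c, φ ⟨0, 0, c⟩ = ⟨0, 0, c⟩) → (∀ p, (φ p).a = p.a ∧ (φ p).b = p.b) →
      ∃ n' ∈ M, ∃ f τ', τ' ≠ 0 ∧ R A t n' f τ' := by
    intro n φ τ hnM hτ h hc hid
    refine ⟨n, hnM, fun a b => (φ ⟨a, b, 0⟩).c, τ, hτ, ?_, h.mv⟩
    intro p
    rw [h.act p]
    congr 1
    obtain ⟨a, b, c⟩ := p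
    have h1 : (⟨a, b, c⟩ : Code) = cmul ⟨a, b, 0⟩ ⟨0, 0, c⟩ := by simp [cmul]
    have h2 : φ ⟨a, b, c⟩ = cmul (φ ⟨a, b, 0⟩) ⟨0, 0, c⟩ := by rw [h1, h.hom, hc]
    rw [h2]
    have h3 := hid ⟨a, b, 0⟩
    simp only [cmul, h3.1, h3.2]
    congr 1
    · simp
    · simp
    · simp [add_comm]
  have hid : ∀ c, φ ⟨0, 0, c⟩ = ⟨0, 0, c⟩ := hc
  obtain ⟨l, l', hl, hcase⟩ := hφ.class hid
  rcases hcase with hcase | hcase
  · -- cube
    have h2 := hφ.mul hφ (hid τ)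
    have h3 := h2.mul hφ (hid _)
    refine fin (n * n * n) _ _ (M.mul_mem (M.mul_mem hnM hnM) hnM) ?_ h3 ?_ ?_
    · exact g1 τ hτ
    · intro c
      show φ (φ (φ _)) = _
      rw [hid, hid, hid]
    · intro p
      show (φ (φ (φ p))).a = _ ∧ (φ (φ (φ p))).b = _
      rw [(hcase _).1, (hcase _).1, (hcase _).1, (hcase _).2, (hcase _).2, (hcase _).2]
      exact ⟨(g2 l l' hl _).1, (g2 l l' hl _).2⟩
  · -- swap
    have hh1 := Ad.of_h (A := A) ht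
    have hh2 := Ad.of_h_inv (A := A) ht
    -- n^h
    have h4 := (hh2.mul hφ (hid 0)).mul hh1 (τ' := F4.v * (τ + 0)) (g3 τ)
    have h4c : ∀ c, ch (φ (ch (ch ⟨0, 0, c⟩))) = ⟨0, 0, c⟩ := by
      intro c
      have h5 : ch (ch ⟨0, 0, c⟩) = ⟨0, 0, F4.w * c⟩ := by revert c; decide
      rw [h5, hid]
      revert c; decide
    have h6 := hφ.mul h4 (h4c τ)
    refine fin _ _ _ (M.mul_mem hnM (M.mul_mem (M.mul_mem (M.inv_mem hM) hnM) hM)) ?_ h6 ?_ ?_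
    · exact g4 τ hτ
    · intro c
      show ch (φ (ch (ch (φ _)))) = _
      rw [hid, h4c]
    · intro p
      show (ch (φ (ch (ch (φ p))))).a = _ ∧ (ch (φ (ch (ch (φ p))))).b = _
      simp only [ch, (hcase _).1, (hcase _).2]
      exact ⟨(g5 l l' hl _).1, (g5 l l' hl _).2⟩

theorem R.add {t n : X} {f : F4 → F4 → F4} {τ : F4} (h : R A t n f τ) (a b a' b' : F4) :
    f (a + a') (b + b') = f a b + f a' b' := by
  have h1 := Ad.hom h ⟨a, b, 0⟩ ⟨a', b', 0⟩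
  have h2 := congrArg Code.c h1
  simp only [cmul, add_zero, zero_add] at h2
  have key : ∀ x y z w : F4, x + y = x + z + w → y = z + w := by decide +kernel
  exact key _ _ _ _ h2

theorem R.zero {t n : X} {f : F4 → F4 → F4} {τ : F4} (h : R A t n f τ) : f 0 0 = 0 := by
  have := h.add 0 0 0 0
  rw [add_zero] at this
  exact left_eq_add.mp this

theorem R.inv {t n : X} {f : F4 → F4 → F4} {τ : F4} (h : R A t n f τ) : R A t n⁻¹ f τ where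
  act p := by
    have h1 := h.act ⟨p.a, p.b, p.c + f p.a p.b⟩
    have h2 : (⟨p.a, p.b, p.c + f p.a p.b + f p.a p.b⟩ : Code) = p := by
      obtain ⟨a, b, c⟩ := p
      have key : ∀ x y : F4, x + y + y = x := by decide
      simp only [key]
    simp only [h2] at h1
    rw [← h1]; group
  mv := by
    have h1 := h.act ⟨0, 0, τ⟩
    simp only [h.zero, add_zero] at h1
    have h2 := h.mv
    have h3 : n * E A ⟨0, 0, τ⟩ * n⁻¹ = E A ⟨0, 0, τ⟩ := by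
      calc n * E A ⟨0, 0, τ⟩ * n⁻¹ = n * (n⁻¹ * E A ⟨0, 0, τ⟩ * n) * n⁻¹ := by rw [h1]
        _ = E A ⟨0, 0, τ⟩ := by group
    have h4 : E A ⟨0, 0, τ⟩ * E A ⟨0, 0, τ⟩ = 1 := by
      rw [E_mul, ← E_one A]
      have key : ∀ τ : F4, cmul ⟨0, 0, τ⟩ ⟨0, 0, τ⟩ = cone := by decide
      rw [key]
    rw [inv_inv]
    calc n * t * n⁻¹ = n * (t * E A ⟨0, 0, τ⟩) * n⁻¹ * (n * E A ⟨0, 0, τ⟩ * n⁻¹)⁻¹ := by group
      _ = n * (n⁻¹ * t * n) * n⁻¹ * (E A ⟨0, 0, τ⟩)⁻¹ := by rw [h2, h3]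
      _ = t * (E A ⟨0, 0, τ⟩)⁻¹ := by group
      _ = t * E A ⟨0, 0, τ⟩ := by rw [inv_eq_of_mul_eq_one_right h4]

theorem k1 : ∀ (s : F4 × F4) (p : F4 × F4 × F4),
    cmul (cmul (cinv ⟨s.1, s.2, 0⟩) ⟨p.1, p.2.1, p.2.2⟩) ⟨s.1, s.2, 0⟩ =
      ⟨p.1, p.2.1, p.2.2 + (s.2 * p.1 + s.1 * p.2.1)⟩ := by
  decide +kernel

theorem Ad.of_el {t : X} (ht : ∀ l ∈ L, t * l = l * t) (α β : F4) :
    R A t (E A ⟨β, α, 0⟩) (fun a b => α * a + β * b) 0 where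
  act p := by
    rw [E_inv, E_mul, E_mul]
    congr 1
    exact k1 (β, α) (p.a, p.b, p.c)
  mv := by
    have h1 : E A ⟨0, 0, 0⟩ = 1 := E_one A
    rw [h1, mul_one, mul_assoc, ht _ (E_mem A _)]; group

theorem R.mul {t n m : X} {f g : F4 → F4 → F4} {τ σ : F4} (h : R A t n f τ) (h' : R A t m g σ) :
    R A t (n * m) (fun a b => f a b + g a b) (σ + τ) := by
  refine (Ad.mul h h' (τ' := τ) ?_).congr ?_ rfl
  · simp only [h'.zero, add_zero]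
  · intro p
    simp only [Function.comp, add_assoc]

theorem g6 : ∀ c f g : F4, kap 0 2 * (kap 0 2 * (kap 0 2 * (c + f)) + g) = c + (f + kap 0 2 * g) := by
  decide

theorem g7 : ∀ a : F4, kap 0 1 * (kap 0 1 * (kap 0 1 * a)) = a ∧
    kap 1 2 * (kap 1 2 * (kap 1 2 * a)) = a := by decide

theorem g8 : ∀ p q : F4, (q + kap 0 2 * p = (p + kap 0 2 * (p + q)) * F4.w) ∧
    (p + q + kap 0 2 * q = (p + kap 0 2 * (p + q)) * F4.v) := by decide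

/-- **The element centralising `T`.** -/
theorem exists_w {t n : X} {f : F4 → F4 → F4} {τ : F4} (ht : ∀ l ∈ L, t * l = l * t)
    (C : Subgroup X) (hC : n⁻¹ * ((hh A)⁻¹ * n * hh A) ∈ C) (hEC : ∀ p, E A p ∈ C)
    (hτ : τ ≠ 0) (h : R A t n f τ) :
    ∃ w ∈ C, ∃ τ', τ' ≠ 0 ∧ (∀ p, w * E A p = E A p * w) ∧ w⁻¹ * t * w = t * E A ⟨0, 0, τ'⟩ := by
  have hh1 := Ad.of_h (A := A) ht
  have hh2 := Ad.of_h_inv (A := A) ht
  -- n^h
  have h4 := (hh2.mul h (τ' := 0) (by simp only [h.zero, add_zero])).mul hh1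
    (τ' := F4.v * (τ + 0)) (g3 τ)
  have h5 := (Ad.mul h.inv h4 (τ' := τ) (by
    simp only [Function.comp, ch, mul_zero, h.zero, add_zero]
    congr 1
    · revert hτ; generalize τ = τ; intro _; revert τ; decide)).congr
      (ψ := fun p => ⟨p.a, p.b, p.c + (f p.a p.b +
        kap 0 2 * f (kap 0 1 * (kap 0 1 * p.a)) (kap 1 2 * (kap 1 2 * p.b)))⟩) (by
      intro p
      simp only [Function.comp, ch]
      rw [g6, (g7 _).1, (g7 _).2]) rfl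
  -- linear parts
  have hf : ∀ a b, f a b = f a 0 + f 0 b := by
    intro a b
    have := h.add a 0 0 b
    simpa using this
  have hv1 : f F4.v 0 = f 1 0 + f F4.w 0 := by
    have := h.add 1 0 F4.w 0
    rw [add_zero] at this
    exact this
  have hv2 : f 0 F4.v = f 0 1 + f 0 F4.w := by
    have := h.add 0 1 0 F4.w
    rw [add_zero] at this
    exact this
  have e1 : ∀ a : F4, f a 0 + kap 0 2 * f (kap 0 1 * (kap 0 1 * a)) 0 =
      (f 1 0 + kap 0 2 * (f 1 0 + f F4.w 0)) * a := by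
    intro a
    cases a
    · have : f F4.z 0 = 0 := h.zero
      show f F4.z 0 + kap 0 2 * f F4.z 0 = _
      rw [this]
      generalize (f 1 0 + kap 0 2 * (f 1 0 + f F4.w 0)) = x; revert x; decide
    · show f 1 0 + kap 0 2 * f F4.v 0 = _ * 1
      rw [hv1, mul_one]
    · show f F4.w 0 + kap 0 2 * f 1 0 = _
      exact (g8 _ _).1
    · show f F4.v 0 + kap 0 2 * f F4.w 0 = _
      rw [hv1]; exact (g8 _ _).2
  have e2 : ∀ a : F4, f 0 a + kap 0 2 * f 0 (kap 1 2 * (kap 1 2 * a)) =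
      (f 0 1 + kap 0 2 * (f 0 1 + f 0 F4.w)) * a := by
    intro a
    cases a
    · have : f 0 F4.z = 0 := h.zero
      show f 0 F4.z + kap 0 2 * f 0 F4.z = _
      rw [this]
      generalize (f 0 1 + kap 0 2 * (f 0 1 + f 0 F4.w)) = x; revert x; decide
    · show f 0 1 + kap 0 2 * f 0 F4.v = _ * 1
      rw [hv2, mul_one]
    · show f 0 F4.w + kap 0 2 * f 0 1 = _
      exact (g8 _ _).1
    · show f 0 F4.v + kap 0 2 * f 0 F4.w = _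
      rw [hv2]; exact (g8 _ _).2
  set α := f 1 0 + kap 0 2 * (f 1 0 + f F4.w 0) with hα
  set β := f 0 1 + kap 0 2 * (f 0 1 + f 0 F4.w) with hβ
  have h6 : R A t (n⁻¹ * ((hh A)⁻¹ * n * hh A)) (fun a b => α * a + β * b) _ := h5.congr (by
    intro p
    have e3 : f p.a p.b + kap 0 2 * f (kap 0 1 * (kap 0 1 * p.a)) (kap 1 2 * (kap 1 2 * p.b)) =
        α * p.a + β * p.b := by
      rw [hf p.a p.b, hf (kap 0 1 * (kap 0 1 * p.a)) (kap 1 2 * (kap 1 2 * p.b)), ← e1, ← e2]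
      ring
    rw [e3]) rfl
  have h7 := h6.mul (Ad.of_el (A := A) ht α β)
  refine ⟨_, C.mul_mem hC (hEC _), _, ?_, ?_, h7.mv⟩
  · exact (by decide : ∀ τ : F4, τ ≠ 0 → 0 + (0 + F4.v * (τ + 0) + τ) ≠ 0) τ hτ
  · intro p
    have h8 := h7.act p
    have h9 : (⟨p.a, p.b, p.c + ((fun a b => α * a + β * b) p.a p.b +
        (fun a b => α * a + β * b) p.a p.b)⟩ : Code) = p := by
      obtain ⟨a, b, c⟩ := p
      have key : ∀ x y : F4, x + (y + y) = x := by decide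
      simp only [key]
    have h10 : _ = E A p := h8.trans (congrArg (E A) h9)
    rw [mul_assoc, inv_mul_eq_iff_eq_mul] at h10
    exact h10.symm

/-- **From `n ∈ N(T)`, `t^n = t z ≠ t`, to `w ∈ C(T)`.** `M` = a subgroup containing `n` and `h`, `C` a
subgroup containing `T` and all `[m, h]`. -/
theorem exists_w_of_ad {t n : X} {φ : Code → Code} {τ : F4} (ht : ∀ l ∈ L, t * l = l * t)
    (M C : Subgroup X) (hM : hh A ∈ M) (hnM : n ∈ M)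
    (hC : ∀ m ∈ M, m⁻¹ * ((hh A)⁻¹ * m * hh A) ∈ C) (hEC : ∀ p, E A p ∈ C)
    (h : Ad A t n φ τ) (hτ : τ ≠ 0) :
    ∃ w ∈ C, ∃ τ', τ' ≠ 0 ∧ (∀ p, w * E A p = E A p * w) ∧ w⁻¹ * t * w = t * E A ⟨0, 0, τ'⟩ := by
  obtain ⟨n1, hn1, τ1, hτ1, h1⟩ := exists_centre ht M hM hnM h hτ
  obtain ⟨n2, hn2, f, τ2, hτ2, h2⟩ := exists_R ht M hM hn1 hτ1 h1
  exact exists_w ht C (hC n2 hn2) hEC hτ2 h2

/-- `Ad` from normalising `T`. -/
theorem exists_ad {t n : X} {τ : F4} (hn : ∀ p, ∃ q, n⁻¹ * E A p * n = E A q)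
    (hnt : n⁻¹ * t * n = t * E A ⟨0, 0, τ⟩) : ∃ φ, Ad A t n φ τ := by
  choose φ hφ using hn
  exact ⟨φ, hφ, hnt⟩

end Cfsg.Agent.StdL3.OneRoot
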