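import Cfsg.Agent.StdL3.OneRoot

set_option autoImplicit false
set_option linter.constructorNameAsVariable false
set_option linter.unusedVariables false

/-!
# Growth of `<t> × L₃(4)`: the group `Y₁₃` of order 16
-/

namespace Cfsg.Agent.StdL3.OneY

open Cfsg.Agent.LThreeFour
open Cfsg.Agent.SporadicA.FieldFour
open Cfsg.Agent.ONType.Psl (kap)
open Cfsg.Agent.StdL3.OneRoot

variable {X : Type*} [Group X] {L : Subgroup X}

/-- central root elements -/
def z (A : Dat L) (c : F4) : X := E A ⟨0, 0, c⟩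

theorem F4.add_self : ∀ c : F4, c + c = 0 := by decide

variable (A : Dat L)

theorem z_mul (c d : F4) : z A c * z A d = z A (c + d) := by
  rw [z, z, z, E_mul]; congr 1

theorem z_zero : z A 0 = 1 := E_one A

theorem z_sq (c : F4) : z A c * z A c = 1 := by rw [z_mul, F4.add_self, z_zero]

theorem z_inv (c : F4) : (z A c)⁻¹ = z A c := inv_eq_of_mul_eq_one_right (z_sq A c)

theorem z_E (c : F4) (p : Code) : z A c * E A p = E A p * z A c := by
  rw [z, E_mul, E_mul]; congr 1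
  obtain ⟨a, b, d⟩ := p
  simp [cmul, add_comm]

theorem z_comm (c d : F4) : z A c * z A d = z A d * z A c := z_E A c _

theorem z_inj {c d : F4} (h : z A c = z A d) : c = d := congrArg Code.c (E_inj A h)

theorem hz (c : F4) : (hh A)⁻¹ * z A c * hh A = z A (F4.v * c) := by
  rw [z, hE]; rfl

/-- The input data: `t` an involution centralising `L`, `C(t) ∩ C(T) = <t> Z`, and `w ∈ C(T)` moving `t`. -/
structure Inp (t : X) : Prop where
  tt : t * t = 1
  tL : ∀ l ∈ L, t * l = l * t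
  tn : t ∉ L
  cent : ∀ x : X, x * t = t * x → (∀ p, x * E A p = E A p * x) → ∃ c, x = z A c ∨ x * t = z A c
  w : ∃ w τ, τ ≠ 0 ∧ (∀ p, w * E A p = E A p * w) ∧ w⁻¹ * t * w = t * z A τ

variable {A}

namespace Inp

variable {t : X}

theorem tz (H : Inp A t) (c : F4) : t * z A c = z A c * t := H.tL _ (E_mem A _)

/-- `{x ∈ C(T) | t^x ∈ t Z}` -/
def Y (H : Inp A t) : Subgroup X where
  carrier := {x | (∀ p, x * E A p = E A p * x) ∧ ∃ c, t * x = x * (t * z A c)}
  one_mem' := ⟨fun p => by simp, 0, by rw [z_zero]; simp⟩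
  mul_mem' := by
    rintro x y ⟨hx, c, hc⟩ ⟨hy, d, hd⟩
    refine ⟨fun p => ?_, c + d, ?_⟩
    · rw [mul_assoc, hy p, ← mul_assoc, hx p, mul_assoc]
    · calc t * (x * y) = (t * x) * y := by group
        _ = x * (t * (z A c * y)) := by rw [hc]; group
        _ = x * (t * (y * z A c)) := by rw [z, hy]
        _ = x * ((t * y) * z A c) := by group
        _ = x * (y * (t * z A d) * z A c) := by rw [hd]
        _ = x * y * (t * (z A d * z A c)) := by group
        _ = x * y * (t * z A (c + d)) := by rw [z_mul, add_comm]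
  inv_mem' := by
    rintro x ⟨hx, c, hc⟩
    have hxi : ∀ p, x⁻¹ * E A p = E A p * x⁻¹ := fun p => by
      calc x⁻¹ * E A p = x⁻¹ * (E A p * x) * x⁻¹ := by group
        _ = x⁻¹ * (x * E A p) * x⁻¹ := by rw [hx p]
        _ = E A p * x⁻¹ := by group
    refine ⟨hxi, c, ?_⟩
    have h1 : x⁻¹ * t = t * z A c * x⁻¹ := by
      calc x⁻¹ * t = x⁻¹ * (t * x) * x⁻¹ := by group
        _ = x⁻¹ * (x * (t * z A c)) * x⁻¹ := by rw [hc]
        _ = t * z A c * x⁻¹ := by group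
    calc t * x⁻¹ = t * (z A c * z A c) * x⁻¹ := by rw [z_sq]; group
      _ = t * z A c * (z A c * x⁻¹) := by group
      _ = t * z A c * (x⁻¹ * z A c) := by rw [z, hxi]
      _ = x⁻¹ * t * z A c := by rw [h1]; group
      _ = x⁻¹ * (t * z A c) := by group

theorem mem_Y (H : Inp A t) {x : X} :
    x ∈ H.Y ↔ (∀ p, x * E A p = E A p * x) ∧ ∃ c, t * x = x * (t * z A c) := Iff.rfl

theorem xz (H : Inp A t) {x : X} (hx : x ∈ H.Y) (c : F4) : x * z A c = z A c * x := hx.1 _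

theorem z_mem (H : Inp A t) (c : F4) : z A c ∈ H.Y :=
  ⟨fun p => z_E A c p, 0, by rw [z_zero, mul_one, H.tz]⟩

theorem t_mem (H : Inp A t) : t ∈ H.Y :=
  ⟨fun p => H.tL _ (E_mem A p), 0, by rw [z_zero, mul_one]⟩

theorem sq (H : Inp A t) {x : X} (hx : x ∈ H.Y) : ∃ c, x * x = z A c := by
  obtain ⟨hxT, c, hc⟩ := hx
  by_cases hc0 : c = 0
  · subst hc0
    rw [z_zero, mul_one] at hc
    obtain ⟨d, h | h⟩ := H.cent x hc.symm hxT
    · exact ⟨0, by rw [h, z_sq, z_zero]⟩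
    · refine ⟨0, ?_⟩
      rw [z_zero]
      calc x * x = x * (t * t) * x := by rw [H.tt]; group
        _ = x * t * (t * x) := by group
        _ = x * t * (x * t) := by rw [hc]
        _ = 1 := by rw [h, z_sq]
  · have h1 : t * (x * x) = x * x * t := by
      calc t * (x * x) = (t * x) * x := by group
        _ = x * (t * (z A c * x)) := by rw [hc]; group
        _ = x * (t * (x * z A c)) := by rw [z, hxT]
        _ = x * ((t * x) * z A c) := by group
        _ = x * x * t * (z A c * z A c) := by rw [hc]; group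
        _ = x * x * t := by rw [z_sq, mul_one]
    have h2 : ∀ p, x * x * E A p = E A p * (x * x) := fun p => by
      rw [mul_assoc, hxT p, ← mul_assoc, hxT p, mul_assoc]
    obtain ⟨d, h | h⟩ := H.cent (x * x) h1.symm h2
    · exact ⟨d, h⟩
    · exfalso
      have h4 : x * z A d = z A d * x := hxT _
      have h5 : x * x * t * x = x * (x * x * t) * z A c := by
        calc x * x * t * x = x * x * (t * x) := by group
          _ = x * (x * x * t) * z A c := by rw [hc]; group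
      rw [h, ← h4] at h5
      have h6 : x * z A d * 1 = x * z A d * z A c := by rw [mul_one]; exact h5
      have h7 : z A c = z A 0 := by rw [z_zero]; exact (mul_left_cancel h6).symm
      exact hc0 (z_inj A h7)

theorem comm (H : Inp A t) {x y : X} (hx : x ∈ H.Y) (hy : y ∈ H.Y) :
    ∃ c, y * x = x * y * z A c := by
  obtain ⟨c1, h1⟩ := H.sq (H.Y.mul_mem hx hy)
  obtain ⟨c2, h2⟩ := H.sq hx
  obtain ⟨c3, h3⟩ := H.sq hy
  refine ⟨c2 + c1 + c3, ?_⟩
  have e1 : y * z A (c2 + c1) = z A (c2 + c1) * y := hy.1 _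
  have e3 : y * z A c3 = z A c3 * y := hy.1 _
  have e4 : z A c2 = (x * x)⁻¹ := by rw [h2, z_inv]
  have e5 : z A c3 = (y * y)⁻¹ := by rw [h3, z_inv]
  calc y * x = x * (x * x)⁻¹ * (x * y * (x * y)) * (y * y)⁻¹ * y := by group
    _ = x * z A c2 * z A c1 * z A c3 * y := by rw [← e4, ← e5, h1]
    _ = x * (z A c2 * z A c1) * (z A c3 * y) := by group
    _ = x * z A (c2 + c1) * (y * z A c3) := by rw [z_mul, e3]
    _ = x * (z A (c2 + c1) * y) * z A c3 := by group
    _ = x * (y * z A (c2 + c1)) * z A c3 := by rw [e1]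
    _ = x * y * (z A (c2 + c1) * z A c3) := by group
    _ = x * y * z A (c2 + c1 + c3) := by rw [z_mul]

/-- conjugation by `h` -/
def cj (A : Dat L) (x : X) : X := (hh A)⁻¹ * x * hh A

theorem cj_mul (x y : X) : cj A (x * y) = cj A x * cj A y := by
  simp only [cj]; group

theorem cj_cube (x : X) : cj A (cj A (cj A x)) = x := by
  have h3 := hh_cube A
  have h4 : (hh A)⁻¹ * (hh A)⁻¹ * (hh A)⁻¹ = 1 := by
    rw [← mul_inv_rev, ← mul_inv_rev, ← mul_assoc, h3, inv_one]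
  calc cj A (cj A (cj A x)) = ((hh A)⁻¹ * (hh A)⁻¹ * (hh A)⁻¹) * x * (hh A * hh A * hh A) := by
        simp only [cj]; group
    _ = x := by rw [h3, h4]; group

theorem cj_z (c : F4) : cj A (z A c) = z A (F4.v * c) := hz A c

theorem cj_t (H : Inp A t) : cj A t = t := by
  rw [cj, mul_assoc, H.tL _ (hh_mem A)]; group

theorem hh_E (p : Code) : hh A * E A p * (hh A)⁻¹ = E A (ch (ch p)) := hE_inv A p

theorem cj_mv (H : Inp A t) {x : X} {c : F4} (hc : t * x = x * (t * z A c)) :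
    t * cj A x = cj A x * (t * z A (F4.v * c)) := by
  have h1 := congrArg (cj A) hc
  rw [cj_mul, cj_mul, cj_mul, H.cj_t, cj_z] at h1
  exact h1

theorem cj_mem (H : Inp A t) {x : X} (hx : x ∈ H.Y) : cj A x ∈ H.Y := by
  obtain ⟨hxT, c, hc⟩ := hx
  refine ⟨fun p => ?_, F4.v * c, H.cj_mv hc⟩
  have h1 := hxT (ch (ch p))
  calc cj A x * E A p = (hh A)⁻¹ * (x * (hh A * E A p * (hh A)⁻¹)) * hh A := by rw [cj]; group
    _ = (hh A)⁻¹ * ((hh A * E A p * (hh A)⁻¹) * x) * hh A := by rw [hh_E, h1]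
    _ = E A p * cj A x := by rw [cj]; group

/-- the norm -/
def nu (A : Dat L) (x : X) : X := x * cj A x * cj A (cj A x)

theorem nu_mul (H : Inp A t) {x y : X} (hx : x ∈ H.Y) (hy : y ∈ H.Y) :
    ∃ c, nu A (x * y) = nu A x * nu A y * z A c := by
  have hx1 := H.cj_mem hx
  have hx2 := H.cj_mem hx1
  have hy1 := H.cj_mem hy
  have hy2 := H.cj_mem hy1
  obtain ⟨c1, h1⟩ := H.comm hx1 hy
  obtain ⟨c2, h2⟩ := H.comm hx2 (H.Y.mul_mem hy hy1)
  have e1 : z A c1 * (cj A y * cj A (cj A x) * cj A (cj A y)) =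
      (cj A y * cj A (cj A x) * cj A (cj A y)) * z A c1 :=
    (H.xz (H.Y.mul_mem (H.Y.mul_mem hy1 hx2) hy2) c1).symm
  have e2 : z A c2 * cj A (cj A y) = cj A (cj A y) * z A c2 := (H.xz hy2 c2).symm
  refine ⟨c2 + c1, ?_⟩
  simp only [nu, cj_mul]
  calc x * y * (cj A x * cj A y) * (cj A (cj A x) * cj A (cj A y))
      = x * (y * cj A x) * cj A y * cj A (cj A x) * cj A (cj A y) := by group
    _ = x * cj A x * y * (z A c1 * (cj A y * cj A (cj A x) * cj A (cj A y))) := by rw [h1]; group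
    _ = x * cj A x * (y * cj A y * cj A (cj A x)) * cj A (cj A y) * z A c1 := by rw [e1]; group
    _ = x * cj A x * (cj A (cj A x) * (y * cj A y) * z A c2) * cj A (cj A y) * z A c1 := by
        rw [h2]
    _ = x * cj A x * cj A (cj A x) * (y * cj A y) * (z A c2 * cj A (cj A y)) * z A c1 := by group
    _ = x * cj A x * cj A (cj A x) * (y * cj A y * cj A (cj A y)) * (z A c2 * z A c1) := by
        rw [e2]; group
    _ = _ := by rw [z_mul]

theorem nu_z (c : F4) : nu A (z A c) = 1 := by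
  simp only [nu, cj_z, z_mul]
  rw [← z_zero A]; congr 1; revert c; decide

/-- **The group `Y₁₃`**. -/
def Y0 (H : Inp A t) : Subgroup X where
  carrier := {x | x ∈ H.Y ∧ ∃ c, nu A x = z A c}
  one_mem' := ⟨H.Y.one_mem, 0, by rw [← z_zero A, nu_z, z_zero]⟩
  mul_mem' := by
    rintro x y ⟨hx, c, hc⟩ ⟨hy, d, hd⟩
    obtain ⟨e, he⟩ := H.nu_mul hx hy
    exact ⟨H.Y.mul_mem hx hy, c + d + e, by rw [he, hc, hd, z_mul, z_mul]⟩
  inv_mem' := by
    rintro x ⟨hx, c, hc⟩
    obtain ⟨d, hd⟩ := H.sq hx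
    have h1 : x⁻¹ = x * z A d := by
      apply inv_eq_of_mul_eq_one_right
      rw [← mul_assoc, hd, z_sq]
    rw [h1]
    obtain ⟨e, he⟩ := H.nu_mul hx (H.z_mem d)
    exact ⟨H.Y.mul_mem hx (H.z_mem d), c + e, by rw [he, hc, nu_z, mul_one, z_mul]⟩

theorem mem_Y0 (H : Inp A t) {x : X} : x ∈ H.Y0 ↔ x ∈ H.Y ∧ ∃ c, nu A x = z A c := Iff.rfl

theorem Y0_le (H : Inp A t) : H.Y0 ≤ H.Y := fun _ hx => hx.1

theorem z_mem0 (H : Inp A t) (c : F4) : z A c ∈ H.Y0 := ⟨H.z_mem c, 0, by rw [nu_z, z_zero]⟩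

theorem cj_mem0 (H : Inp A t) {x : X} (hx : x ∈ H.Y0) : cj A x ∈ H.Y0 := by
  obtain ⟨hx1, c, hc⟩ := hx
  refine ⟨H.cj_mem hx1, F4.v * c, ?_⟩
  have h1 := congrArg (cj A) hc
  rw [cj_z] at h1
  rw [← h1]
  simp only [nu, cj_mul]

theorem nu_fix (H : Inp A t) {x : X} (hx : x ∈ H.Y) : t * nu A x = nu A x * t := by
  obtain ⟨hxT, c, hc⟩ := hx
  have hx' : x ∈ H.Y := ⟨hxT, c, hc⟩
  have h1 := H.cj_mv hc
  have h2 := H.cj_mv h1
  have hx1 := H.cj_mem hx'
  have hx2 := H.cj_mem hx1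
  have e1 : z A c * (cj A x * cj A (cj A x)) = (cj A x * cj A (cj A x)) * z A c :=
    (H.xz (H.Y.mul_mem hx1 hx2) c).symm
  have e2 : z A (F4.v * c) * cj A (cj A x) = cj A (cj A x) * z A (F4.v * c) :=
    (H.xz hx2 _).symm
  have e3 : F4.v * (F4.v * c) + F4.v * c + c = 0 :=
    (by decide : ∀ c : F4, F4.v * (F4.v * c) + F4.v * c + c = 0) c
  calc t * nu A x = (t * x) * (cj A x * cj A (cj A x)) := by rw [nu]; group
    _ = x * t * (z A c * (cj A x * cj A (cj A x))) := by rw [hc]; group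
    _ = x * (t * cj A x) * cj A (cj A x) * z A c := by rw [e1]; group
    _ = x * cj A x * t * (z A (F4.v * c) * cj A (cj A x)) * z A c := by rw [h1]; group
    _ = x * cj A x * (t * cj A (cj A x)) * z A (F4.v * c) * z A c := by rw [e2]; group
    _ = x * cj A x * cj A (cj A x) * t * (z A (F4.v * (F4.v * c)) * z A (F4.v * c) * z A c) := by
        rw [h2]; group
    _ = x * cj A x * cj A (cj A x) * t * z A 0 := by rw [z_mul, z_mul, e3]
    _ = nu A x * t := by rw [z_zero, nu, mul_one]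

theorem t_ne_z (H : Inp A t) (c : F4) : t ≠ z A c := fun h => H.tn (h ▸ E_mem A _)

theorem nu_t (H : Inp A t) : nu A t = t := by
  rw [nu, H.cj_t, H.cj_t, H.tt, one_mul]

theorem mem_or (H : Inp A t) {x : X} (hx : x ∈ H.Y) : x ∈ H.Y0 ∨ x * t ∈ H.Y0 := by
  have hnu : nu A x ∈ H.Y := H.Y.mul_mem (H.Y.mul_mem hx (H.cj_mem hx)) (H.cj_mem (H.cj_mem hx))
  obtain ⟨c, h | h⟩ := H.cent (nu A x) (H.nu_fix hx).symm hnu.1
  · exact Or.inl ⟨hx, c, h⟩
  · right
    obtain ⟨d, hd⟩ := H.nu_mul hx H.t_mem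
    exact ⟨H.Y.mul_mem hx H.t_mem, c + d, by rw [hd, H.nu_t, h, z_mul]⟩

theorem surj (H : Inp A t) (a : F4) : ∃ x ∈ H.Y0, t * x = x * (t * z A a) := by
  have h1 : ∀ a, ∃ x ∈ H.Y, t * x = x * (t * z A a) := by
    obtain ⟨w, τ, hτ, hwT, hw⟩ := H.w
    have hw1 : t * w = w * (t * z A τ) := by rw [← hw]; group
    have hwY : w ∈ H.Y := ⟨hwT, τ, hw1⟩
    intro a
    have key : ∀ τ a : F4, τ ≠ 0 → a = 0 ∨ a = τ ∨ a = F4.v * τ ∨ a = F4.v * (F4.v * τ) := by
      decide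
    rcases key τ a hτ with rfl | rfl | rfl | rfl
    · exact ⟨1, H.Y.one_mem, by rw [z_zero]; simp⟩
    · exact ⟨w, hwY, hw1⟩
    · exact ⟨cj A w, H.cj_mem hwY, H.cj_mv hw1⟩
    · exact ⟨cj A (cj A w), H.cj_mem (H.cj_mem hwY), H.cj_mv (H.cj_mv hw1)⟩
  obtain ⟨x, hx, hxa⟩ := h1 a
  rcases H.mem_or hx with h | h
  · exact ⟨x, h, hxa⟩
  · refine ⟨x * t, h, ?_⟩
    calc t * (x * t) = (t * x) * t := by group
      _ = x * t * (z A a * t) := by rw [hxa]; group
      _ = x * t * (t * z A a) := by rw [H.tz]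

theorem mv (H : Inp A t) {x : X} (hx : x ∈ H.Y0) : ∃ c, t * x = x * (t * z A c) := hx.1.2

theorem fix (H : Inp A t) {x : X} (hx : x ∈ H.Y0) (hxt : t * x = x * t) : ∃ c, x = z A c := by
  obtain ⟨hxY, c, hc⟩ := hx
  obtain ⟨d, h | h⟩ := H.cent x hxt.symm hxY.1
  · exact ⟨d, h⟩
  · exfalso
    have h1 : x = z A d * t := by
      rw [← h, mul_assoc, H.tt, mul_one]
    obtain ⟨e, he⟩ := H.nu_mul (H.z_mem d) H.t_mem
    rw [← h1, nu_z, H.nu_t, one_mul, hc] at he
    -- z c = t z e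
    apply H.t_ne_z (c + e)
    rw [← z_mul, he, mul_assoc, z_sq, mul_one]

theorem eq_mul_z (H : Inp A t) {x y : X} {c : F4} (hx : x ∈ H.Y0) (hy : y ∈ H.Y0)
    (h1 : t * x = x * (t * z A c)) (h2 : t * y = y * (t * z A c)) : ∃ d, y = x * z A d := by
  have h3 : t * (x⁻¹ * y) = x⁻¹ * y * t := by
    have e1 : x⁻¹ * t = t * z A c * x⁻¹ := by
      calc x⁻¹ * t = x⁻¹ * (t * x) * x⁻¹ := by group
        _ = x⁻¹ * (x * (t * z A c)) * x⁻¹ := by rw [h1]
        _ = t * z A c * x⁻¹ := by group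
    have e2 : y * t = t * y * z A c := by
      rw [h2]
      calc y * t = y * t * (z A c * z A c) := by rw [z_sq, mul_one]
        _ = y * (t * z A c) * z A c := by group
    have hxi := H.xz (H.Y.inv_mem (H.Y0_le hx)) c
    have hyc := H.xz (H.Y0_le hy) c
    symm
    calc x⁻¹ * y * t = x⁻¹ * (y * t) := by group
      _ = x⁻¹ * t * (y * z A c) := by rw [e2]; group
      _ = t * z A c * x⁻¹ * (z A c * y) := by rw [e1, hyc]
      _ = t * z A c * (x⁻¹ * z A c) * y := by group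
      _ = t * (z A c * z A c) * x⁻¹ * y := by rw [hxi]; group
      _ = t * (x⁻¹ * y) := by rw [z_sq]; group
  obtain ⟨d, hd⟩ := H.fix (H.Y0.mul_mem (H.Y0.inv_mem hx) hy) h3
  exact ⟨d, by rw [← hd]; group⟩

theorem comm_cj (H : Inp A t) {x : X} (hx : x ∈ H.Y0) : x * cj A x = cj A x * x := by
  obtain ⟨κ, hκ⟩ := H.comm (H.Y0_le hx) (H.cj_mem (H.Y0_le hx))
  -- x^h x = x x^h z κ
  obtain ⟨hxY, d, hd⟩ := hx
  have hx1 := H.cj_mem hxY
  have hx2 := H.cj_mem hx1
  -- x^{hh} = (x x^h)⁻¹ z d = x x^h z e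
  obtain ⟨c, hc⟩ := H.sq (H.Y.mul_mem hxY hx1)
  have e1 : cj A (cj A x) = x * cj A x * z A (c + d) := by
    have e2 : x * cj A x * cj A (cj A x) = z A d := hd
    have e3 : (x * cj A x)⁻¹ = x * cj A x * z A c := by
      apply inv_eq_of_mul_eq_one_right
      rw [← mul_assoc, hc, z_sq]
    calc cj A (cj A x) = (x * cj A x)⁻¹ * (x * cj A x * cj A (cj A x)) := by group
      _ = x * cj A x * z A (c + d) := by rw [e2, e3, mul_assoc, z_mul]
  have h2 := congrArg (cj A) hκ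
  rw [cj_mul, cj_mul, cj_mul, cj_z] at h2
  -- x^{hh} x^h = x^h x^{hh} z (v κ)
  have k1 : cj A (cj A x) * cj A x = x * cj A x * cj A x * z A (c + d) := by
    rw [e1, mul_assoc, ← H.xz hx1, ← mul_assoc]
  have k2 : cj A x * cj A (cj A x) = x * cj A x * cj A x * z A (c + d) * z A κ := by
    calc cj A x * cj A (cj A x) = (cj A x * x) * cj A x * z A (c + d) := by rw [e1]; group
      _ = x * cj A x * (z A κ * cj A x) * z A (c + d) := by rw [hκ]; group
      _ = x * cj A x * (cj A x * z A κ) * z A (c + d) := by rw [H.xz hx1]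
      _ = x * cj A x * cj A x * (z A κ * z A (c + d)) := by group
      _ = x * cj A x * cj A x * (z A (c + d) * z A κ) := by rw [z_comm]
      _ = _ := by group
  rw [k1, k2] at h2
  have k3 : z A (κ + F4.v * κ) = z A 0 := by
    rw [← z_mul, z_zero]
    have k4 : x * cj A x * cj A x * z A (c + d) * 1 =
        x * cj A x * cj A x * z A (c + d) * (z A κ * z A (F4.v * κ)) := by
      rw [mul_one, ← mul_assoc]; exact h2
    exact (mul_left_cancel k4).symm
  have k5 : κ = 0 := (by decide : ∀ κ : F4, κ + F4.v * κ = 0 → κ = 0) κ (z_inj A k3)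
  rw [hκ, k5, z_zero, mul_one]

/-- `Y₁₃` is abelian. -/
theorem comm0 (H : Inp A t) {x y : X} (hx : x ∈ H.Y0) (hy : y ∈ H.Y0) : x * y = y * x := by
  obtain ⟨a, ha⟩ := H.mv hx
  obtain ⟨b, hb⟩ := H.mv hy
  by_cases ha0 : a = 0
  · subst ha0
    rw [z_zero, mul_one] at ha
    obtain ⟨c, rfl⟩ := H.fix hx ha
    exact (H.xz (H.Y0_le hy) c).symm
  · have key : ∀ a b : F4, a ≠ 0 → b = 0 ∨ b = a ∨ b = F4.v * a ∨ b = F4.v * (F4.v * a) := by
      decide
    have c1 := H.comm_cj hx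
    have c2 := H.comm_cj (H.cj_mem0 (H.cj_mem0 hx))
    rw [cj_cube] at c2
    rcases key a b ha0 with rfl | rfl | rfl | rfl
    · rw [z_zero, mul_one] at hb
      obtain ⟨c, rfl⟩ := H.fix hy hb
      exact H.xz (H.Y0_le hx) c
    · obtain ⟨d, rfl⟩ := H.eq_mul_z hx hy ha hb
      rw [mul_assoc, ← H.xz (H.Y0_le hx) d]
    · obtain ⟨d, rfl⟩ := H.eq_mul_z (H.cj_mem0 hx) hy (H.cj_mv ha) hb
      calc x * (cj A x * z A d) = (x * cj A x) * z A d := by group
        _ = cj A x * (x * z A d) := by rw [c1]; group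
        _ = cj A x * z A d * x := by rw [H.xz (H.Y0_le hx)]; group
    · obtain ⟨d, rfl⟩ := H.eq_mul_z (H.cj_mem0 (H.cj_mem0 hx)) hy (H.cj_mv (H.cj_mv ha)) hb
      calc x * (cj A (cj A x) * z A d) = (x * cj A (cj A x)) * z A d := by group
        _ = cj A (cj A x) * (x * z A d) := by rw [← c2]; group
        _ = cj A (cj A x) * z A d * x := by rw [H.xz (H.Y0_le hx)]; group

end Inp

end Cfsg.Agent.StdL3.OneY
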