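import Cfsg.Agent.SporadicA.FieldFour

/-!
# Symmetric and hermitian forms of degree three over the field with four elements

A Gram--Schmidt search evaluated by the kernel: every nondegenerate symmetric (hermitian) matrix
of degree three over `F4` is congruent to the identity.
-/

set_option autoImplicit false
set_option linter.constructorNameAsVariable false
set_option linter.unusedVariables false

namespace Cfsg.Agent.StdL3.OuterForm

open Cfsg.Agent.SporadicA.FieldFour

/-- vectors -/
structure V : Type where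
  x : F4
  y : F4
  z : F4

/-- evaluate the argument first -/
def frc {α : Type} (a : F4) (k : F4 → α) : α :=
  match a with
  | .z => k .z
  | .o => k .o
  | .w => k .w
  | .v => k .v

theorem frc_eq {α : Type} (a : F4) (k : F4 → α) : frc a k = k a := by cases a <;> rfl

/-- evaluate a vector first -/
def frcV {α : Type} (a : V) (k : V → α) : α :=
  frc a.x fun x => frc a.y fun y => frc a.z fun z => k ⟨x, y, z⟩

theorem frcV_eq {α : Type} (a : V) (k : V → α) : frcV a k = k a := by
  rw [frcV, frc_eq, frc_eq, frc_eq]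

/-- the conjugation: the Frobenius map if `b` is true -/
def bar (b : Bool) (a : F4) : F4 :=
  match b with
  | false => a
  | true =>
    match a with
    | .z => .z
    | .o => .o
    | .w => .v
    | .v => .w

theorem bar_false (a : F4) : bar false a = a := rfl

theorem bar_true (a : F4) : bar true a = a * a := by cases a <;> rfl

/-- symmetric or hermitian matrix with rows `(a, b, c), (b̄, d, e), (c̄, ē, f)` applied to two
vectors -/
def h (t : Bool) (a b c d e f : F4) (u v : V) : F4 :=
  frc (bar t v.x) fun p => frc (bar t v.y) fun q => frc (bar t v.z) fun r =>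
    F4.add (F4.add
      (F4.mul u.x (F4.add (F4.add (F4.mul a p) (F4.mul b q)) (F4.mul c r)))
      (F4.mul u.y (F4.add (F4.add (F4.mul (bar t b) p) (F4.mul d q)) (F4.mul e r))))
      (F4.mul u.z (F4.add (F4.add (F4.mul (bar t c) p) (F4.mul (bar t e) q)) (F4.mul f r)))

def addV (u v : V) : V := ⟨F4.add u.x v.x, F4.add u.y v.y, F4.add u.z v.z⟩

def smV (s : F4) (u : V) : V := ⟨F4.mul s u.x, F4.mul s u.y, F4.mul s u.z⟩

def is1 (a : F4) : Bool :=
  match a with
  | .o => true
  | _ => false

def is0 (a : F4) : Bool :=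
  match a with
  | .z => true
  | _ => false

theorem is1_iff {a : F4} (ha : is1 a = true) : a = 1 := by
  cases a <;> first | rfl | exact absurd ha (by decide)

theorem is0_iff {a : F4} (ha : is0 a = true) : a = 0 := by
  cases a <;> first | rfl | exact absurd ha (by decide)

/-- first success -/
def tryL (l : List V) (f : V → V) (k : V → Bool) : Bool :=
  match l with
  | [] => false
  | v :: vs =>
    match frcV (f v) k with
    | true => true
    | false => tryL vs f k

theorem exists_of_tryL {l : List V} {f : V → V} {k : V → Bool} (ht : tryL l f k = true) :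
    ∃ v, k v = true := by
  induction l with
  | nil => exact absurd ht (by simp [tryL])
  | cons v vs ih =>
    rw [tryL, frcV_eq] at ht
    cases hk : k (f v) with
    | true => exact ⟨_, hk⟩
    | false =>
      rw [hk] at ht
      exact ih ht

/-- the rows are orthonormal -/
def ok (t : Bool) (a b c d e f : F4) (r0 r1 r2 : V) : Bool :=
  is1 (h t a b c d e f r0 r0) && is1 (h t a b c d e f r1 r1) && is1 (h t a b c d e f r2 r2) &&
  is0 (h t a b c d e f r0 r1) && is0 (h t a b c d e f r0 r2) && is0 (h t a b c d e f r1 r2) &&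
  is0 (h t a b c d e f r1 r0) && is0 (h t a b c d e f r2 r0) && is0 (h t a b c d e f r2 r1)

/-- candidates -/
def cands : List V :=
  [⟨.o, .z, .z⟩, ⟨.w, .z, .z⟩, ⟨.v, .z, .z⟩, ⟨.z, .o, .z⟩, ⟨.z, .w, .z⟩, ⟨.z, .v, .z⟩,
   ⟨.z, .z, .o⟩, ⟨.z, .z, .w⟩, ⟨.z, .z, .v⟩,
   ⟨.o, .o, .z⟩, ⟨.w, .o, .z⟩, ⟨.v, .o, .z⟩, ⟨.o, .w, .z⟩, ⟨.w, .w, .z⟩, ⟨.v, .w, .z⟩,
   ⟨.o, .v, .z⟩, ⟨.w, .v, .z⟩, ⟨.v, .v, .z⟩,
   ⟨.o, .z, .o⟩, ⟨.w, .z, .o⟩, ⟨.v, .z, .o⟩, ⟨.o, .z, .w⟩, ⟨.w, .z, .w⟩, ⟨.v, .z, .w⟩,
   ⟨.o, .z, .v⟩, ⟨.w, .z, .v⟩, ⟨.v, .z, .v⟩,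
   ⟨.z, .o, .o⟩, ⟨.z, .w, .o⟩, ⟨.z, .v, .o⟩, ⟨.z, .o, .w⟩, ⟨.z, .w, .w⟩, ⟨.z, .v, .w⟩,
   ⟨.z, .o, .v⟩, ⟨.z, .w, .v⟩, ⟨.z, .v, .v⟩]

def search (t : Bool) (a b c d e f : F4) : Bool :=
  tryL cands id fun r0 =>
    match is1 (h t a b c d e f r0 r0) with
    | false => false
    | true =>
      tryL cands (fun v => addV v (smV (h t a b c d e f v r0) r0)) fun r1 =>
        match is1 (h t a b c d e f r1 r1) with
        | false => false
        | true =>
          tryL cands (fun v => addV v (addV (smV (h t a b c d e f v r0) r0)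
            (smV (h t a b c d e f v r1) r1))) fun r2 =>
            match is1 (h t a b c d e f r2 r2) with
            | false => false
            | true => ok t a b c d e f r0 r1 r2

theorem exists_of_search {t : Bool} {a b c d e f : F4} (hs : search t a b c d e f = true) :
    ∃ r0 r1 r2, ok t a b c d e f r0 r1 r2 = true := by
  obtain ⟨r0, h0⟩ := exists_of_tryL hs
  cases hc0 : is1 (h t a b c d e f r0 r0) with
  | false => rw [hc0] at h0; exact absurd h0 (by simp)
  | true =>
    rw [hc0] at h0
    obtain ⟨r1, h1⟩ := exists_of_tryL h0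
    cases hc1 : is1 (h t a b c d e f r1 r1) with
    | false => rw [hc1] at h1; exact absurd h1 (by simp)
    | true =>
      rw [hc1] at h1
      obtain ⟨r2, h2⟩ := exists_of_tryL h1
      cases hc2 : is1 (h t a b c d e f r2 r2) with
      | false => rw [hc2] at h2; exact absurd h2 (by simp)
      | true =>
        rw [hc2] at h2
        exact ⟨r0, r1, r2, h2⟩

/-- the determinant -/
def dt (t : Bool) (a b c d e f : F4) : F4 :=
  F4.add (F4.add
    (F4.mul a (F4.add (F4.mul d f) (F4.mul e (bar t e))))
    (F4.mul b (F4.add (F4.mul (bar t b) f) (F4.mul e (bar t c)))))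
    (F4.mul c (F4.add (F4.mul (bar t b) (bar t e)) (F4.mul d (bar t c))))

def allF (k : F4 → Bool) : Bool := k .z && (k .o && (k .w && k .v))

theorem allF_iff {k : F4 → Bool} (hk : allF k = true) (a : F4) : k a = true := by
  simp only [allF, Bool.and_eq_true] at hk
  cases a
  · exact hk.1
  · exact hk.2.1
  · exact hk.2.2.1
  · exact hk.2.2.2

def all01 (k : F4 → Bool) : Bool := k .z && k .o

theorem all01_iff {k : F4 → Bool} (hk : all01 k = true) (a : F4) (ha : a = 0 ∨ a = 1) :
    k a = true := by
  simp only [all01, Bool.and_eq_true] at hk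
  rcases ha with rfl | rfl
  · exact hk.1
  · exact hk.2

theorem symCheck : (allF fun a => allF fun d => allF fun f => allF fun b => allF fun c =>
    allF fun e => is0 (dt false a b c d e f) || search false a b c d e f) = true := by
  decide +kernel

theorem hermCheck : (all01 fun a => all01 fun d => all01 fun f => allF fun b => allF fun c =>
    allF fun e => is0 (dt true a b c d e f) || search true a b c d e f) = true := by
  decide +kernel

end Cfsg.Agent.StdL3.OuterForm
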