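import Cfsg.Agent.StdL3.OuterMat
import Cfsg.Agent.StdL3.OuterForm

/-!
# Outer involutions of `PSL(3,4)`

Every outer automorphism `y` of `PSL(3,4)` with `y² = 1` is conjugate under the automorphism group
to one of the three standard ones.
-/

set_option autoImplicit false
set_option linter.constructorNameAsVariable false
set_option linter.unusedVariables false

namespace Cfsg.Agent.StdL3.OuterClass

open Matrix
open Cfsg.Agent.ClassicalGeometry.AutPSL.Root
open Cfsg.Agent.ClassicalGeometry.AutPSL.Auto
open Cfsg.Agent.ClassicalGeometry.AutPSL.Main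
open Cfsg.Agent.SporadicA.FieldFour
open Cfsg.Agent.ONType.Psl
open Cfsg.Agent.ONType.OuterL
open Cfsg.Agent.StdL3.OuterMat
open Cfsg.Agent.StdL3.OuterForm

/-- The matrix with given rows. -/
def rowsM (r0 r1 r2 : V) : Mat :=
  !![r0.x, r0.y, r0.z; r1.x, r1.y, r1.z; r2.x, r2.y, r2.z]

/-- entrywise conjugation -/
def barM (t : Bool) (A : Mat) : Mat := fun i j => bar t (A i j)

theorem barM_false (A : Mat) : barM false A = A := rfl

theorem barM_true (A : Mat) : barM true A = A.map phi := by
  ext i j
  exact bar_true _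

def row (A : Mat) (i : Fin 3) : V := ⟨A i 0, A i 1, A i 2⟩

theorem rowsM_row (A : Mat) : rowsM (row A 0) (row A 1) (row A 2) = A := by
  ext i j
  fin_cases i <;> fin_cases j <;> rfl

theorem row_rowsM (r0 r1 r2 : V) : row (rowsM r0 r1 r2) 0 = r0 ∧ row (rowsM r0 r1 r2) 1 = r1 ∧
    row (rowsM r0 r1 r2) 2 = r2 := ⟨rfl, rfl, rfl⟩

theorem h_eq (t : Bool) (A : Mat) (hA : (barM t A)ᵀ = A) (C : Mat) (i j : Fin 3) :
    h t (A 0 0) (A 0 1) (A 0 2) (A 1 1) (A 1 2) (A 2 2) (row C i) (row C j)
      = (C * A * (barM t C)ᵀ) i j := by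
  have e : ∀ i j, bar t (A i j) = A j i := fun i j => congrFun (congrFun hA j) i
  rw [h, frc_eq, frc_eq, frc_eq, e 0 1, e 0 2, e 1 2]
  rw [Matrix.mul_apply, Fin.sum_univ_three, Matrix.mul_apply, Matrix.mul_apply, Matrix.mul_apply,
    Fin.sum_univ_three, Fin.sum_univ_three, Fin.sum_univ_three]
  change (C i 0 * (A 0 0 * bar t (C j 0) + A 0 1 * bar t (C j 1) + A 0 2 * bar t (C j 2)) +
      C i 1 * (A 1 0 * bar t (C j 0) + A 1 1 * bar t (C j 1) + A 1 2 * bar t (C j 2))) +
      C i 2 * (A 2 0 * bar t (C j 0) + A 2 1 * bar t (C j 1) + A 2 2 * bar t (C j 2)) =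
    (C i 0 * A 0 0 + C i 1 * A 1 0 + C i 2 * A 2 0) * bar t (C j 0) +
    (C i 0 * A 0 1 + C i 1 * A 1 1 + C i 2 * A 2 1) * bar t (C j 1) +
    (C i 0 * A 0 2 + C i 1 * A 1 2 + C i 2 * A 2 2) * bar t (C j 2)
  ring

theorem dt_eq (t : Bool) (A : Mat) (hA : (barM t A)ᵀ = A) :
    dt t (A 0 0) (A 0 1) (A 0 2) (A 1 1) (A 1 2) (A 2 2) = A.det := by
  have e : ∀ i j, bar t (A i j) = A j i := fun i j => congrFun (congrFun hA j) i
  rw [dt, e 0 1, e 0 2, e 1 2, Matrix.det_fin_three]
  have hn : ∀ x y : F4, x - y = x + y := by decide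
  rw [hn, hn, hn]
  change A 0 0 * (A 1 1 * A 2 2 + A 1 2 * A 2 1) + A 0 1 * (A 1 0 * A 2 2 + A 1 2 * A 2 0) +
    A 0 2 * (A 1 0 * A 2 1 + A 1 1 * A 2 0) = _
  ring

theorem exists_cong (t : Bool) (A : Mat) (hA : (barM t A)ᵀ = A) (hd : A.det ≠ 0) :
    ∃ C : Mat, C * A * (barM t C)ᵀ = 1 := by
  have hs : search t (A 0 0) (A 0 1) (A 0 2) (A 1 1) (A 1 2) (A 2 2) = true := by
    have h0 : is0 (dt t (A 0 0) (A 0 1) (A 0 2) (A 1 1) (A 1 2) (A 2 2)) ≠ true := by
      intro h0
      exact hd ((dt_eq t A hA).symm.trans (is0_iff h0))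
    have e : ∀ i j, bar t (A i j) = A j i := fun i j => congrFun (congrFun hA j) i
    cases t with
    | false =>
      have h1 := allF_iff (allF_iff (allF_iff (allF_iff (allF_iff (allF_iff symCheck (A 0 0))
        (A 1 1)) (A 2 2)) (A 0 1)) (A 0 2)) (A 1 2)
      rcases Bool.or_eq_true_iff.1 h1 with h2 | h2
      · exact absurd h2 h0
      · exact h2
    | true =>
      have h01 : ∀ x : F4, bar true x = x → x = 0 ∨ x = 1 := by decide
      have h1 := allF_iff (allF_iff (allF_iff (all01_iff (all01_iff (all01_iff hermCheck (A 0 0)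
        (h01 _ (e 0 0))) (A 1 1) (h01 _ (e 1 1))) (A 2 2) (h01 _ (e 2 2))) (A 0 1)) (A 0 2)) (A 1 2)
      rcases Bool.or_eq_true_iff.1 h1 with h2 | h2
      · exact absurd h2 h0
      · exact h2
  obtain ⟨r0, r1, r2, hk⟩ := exists_of_search hs
  refine ⟨rowsM r0 r1 r2, ?_⟩
  simp only [ok, Bool.and_eq_true] at hk
  obtain ⟨⟨⟨⟨⟨⟨⟨⟨h00, h11⟩, h22⟩, h01⟩, h02⟩, h12⟩, h10⟩, h20⟩, h21⟩ := hk
  ext i j
  rw [← h_eq t A hA]
  fin_cases i <;> fin_cases j
  · exact is1_iff h00
  · exact is0_iff h01
  · exact is0_iff h02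
  · exact is0_iff h10
  · exact is1_iff h11
  · exact is0_iff h12
  · exact is0_iff h20
  · exact is0_iff h21
  · exact is1_iff h22

/-- the semilinear trace `v ↦ v + A φ(v)` -/
def fv (A : Mat) (v : Fin 3 → F4) : Fin 3 → F4 := v + A *ᵥ (fun i => phi (v i))

theorem span_fv (A : Mat) : Submodule.span F4 (Set.range (fv A)) = ⊤ := by
  by_contra hne
  obtain ⟨g, hg0, hg⟩ := Submodule.exists_le_ker_of_lt_top _ (lt_top_iff_ne_top.2 hne)
  apply hg0
  apply LinearMap.ext
  intro v
  have h1 : ∀ v, g v + g (A *ᵥ (fun i => phi (v i))) = 0 := by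
    intro v
    have := hg (Submodule.subset_span ⟨v, rfl⟩)
    rw [LinearMap.mem_ker, fv, map_add] at this
    exact this
  have h2 := h1 v
  have h3 := h1 (F4.w • v)
  have h4 : (fun i => phi ((F4.w • v) i)) = F4.v • (fun i => phi (v i)) := by
    funext i
    change phi (F4.w * v i) = F4.v * phi (v i)
    rw [map_mul]; rfl
  rw [h4, mulVec_smul, map_smul, map_smul] at h3
  change g v = 0
  have key : ∀ x y : F4, x + y = 0 → F4.w • x + F4.v • y = 0 → x = 0 := by decide
  exact key _ _ h2 h3

/-- Hilbert's Theorem 90 for `GL₃(4)`. -/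
theorem hilbert (A : Mat) (hA : A * A.map phi = 1) :
    ∃ B : Mat, IsUnit B ∧ A * B.map phi = B := by
  obtain ⟨b, hbS, hbspan, hli⟩ := exists_linearIndependent F4 (Set.range (fv A))
  have htop : ⊤ ≤ Submodule.span F4 (Set.range (Subtype.val : b → (Fin 3 → F4))) := by
    rw [Subtype.range_coe, hbspan, span_fv]
  let bas : Module.Basis b F4 (Fin 3 → F4) := Module.Basis.mk hli htop
  have hcard : Nat.card b = 3 := by
    rw [← Module.finrank_eq_nat_card_basis bas, Module.finrank_fintype_fun_eq_card,
      Fintype.card_fin]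
  have hfin : Finite b := Nat.finite_of_card_ne_zero (by rw [hcard]; decide)
  let e : b ≃ Fin 3 := Finite.equivFinOfCardEq hcard
  let B : Mat := fun i j => ((e.symm j : b) : Fin 3 → F4) i
  refine ⟨B, ?_, ?_⟩
  · rw [← Matrix.linearIndependent_cols_iff_isUnit]
    exact hli.comp _ e.symm.injective
  · ext i j
    obtain ⟨v, hv⟩ := hbS (e.symm j).2
    have hB : ∀ i, B i j = fv A v i := fun i => (congrFun hv i).symm
    rw [hB, Matrix.mul_apply]
    have h1 : (fun k => B.map phi k j) = fun k => phi (fv A v k) := by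
      funext k
      change phi (B k j) = _
      rw [hB]
    have h2 : (∑ k, A i k * B.map phi k j) = (A *ᵥ (fun k => phi (fv A v k))) i := by
      rw [← h1]; rfl
    rw [h2]
    have h3 : (fun k => phi (fv A v k)) = (fun k => phi (v k)) + (A.map phi) *ᵥ v := by
      funext k
      change phi (v k + (A *ᵥ fun i => phi (v i)) k) = phi (v k) + ((A.map phi) *ᵥ v) k
      rw [map_add]
      congr 1
      change phi (∑ l, A k l * phi (v l)) = ∑ l, phi (A k l) * v l
      rw [map_sum]
      apply Finset.sum_congr rfl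
      intro l _
      rw [map_mul]
      congr 1
      change (phi * phi) (v l) = v l
      rw [phi_phi]; rfl
    rw [h3, mulVec_add, mulVec_mulVec, hA, one_mulVec, fv, add_comm]

/-- The square of `lift (cj A) * lift (std b c)`. -/
theorem sq_eq (A A' : GL (Fin 3) F4) (b c : Bool) (hA' : std b c * cj A = cj A' * std b c) :
    (lift (cj A) * lift (std b c)) * (lift (cj A) * lift (std b c)) = lift (cj (A * A')) := by
  rw [← map_mul, ← map_mul]
  congr 1
  calc cj A * std b c * (cj A * std b c) = cj A * (std b c * cj A) * std b c := by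
        simp only [mul_assoc]
    _ = cj A * cj A' * (std b c * std b c) := by rw [hA']; simp only [mul_assoc]
    _ = cj (A * A') := by
        rw [std_mul_std, map_mul]
        have : std (xor b b) (xor c c) = 1 := by
          rw [Bool.xor_self, Bool.xor_self]; simp [std]
        rw [this, mul_one]

theorem move (A A' B B' : GL (Fin 3) F4) (b c : Bool) (hB : std b c * cj B = cj B' * std b c)
    (h : A * B' = B) :
    (lift (cj A) * lift (std b c)) * lift (cj B) = lift (cj B) * lift (std b c) := by
  rw [← map_mul, ← map_mul, ← map_mul, mul_assoc, hB, ← mul_assoc, ← map_mul, h]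

theorem gl_det_ne (A : GL (Fin 3) F4) : (A : Mat).det ≠ 0 := by
  have := A.isUnit.map (Matrix.detMonoidHom (n := Fin 3) (R := F4))
  exact this.ne_zero

/-- Outer automorphisms `y` with `y² = 1` are conjugate to a standard one. -/
theorem class_outer (y : MulAut PSL3) (h2 : y * y = 1) (hout : ∀ l, y ≠ MulAut.conj l) :
    ∃ (γ : MulAut PSL3) (b c : Bool), (b || c) = true ∧ y * γ = γ * lift (std b c) := by
  obtain ⟨A, b, c, rfl⟩ := exists_std_form y
  cases b
  · cases c
    · -- inner
      exfalso
      have e1 : (std false false * cj A : MulAut SL3) = cj A * std false false := by simp [std]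
      rw [sq_eq A A _ _ e1] at h2
      obtain ⟨r, hr0, hr⟩ := scalar_of_lift_cj h2
      have hdet : (A : Mat).det * (A : Mat).det = r * r * r := by
        rw [← det_mul, ← Units.val_mul, hr, det_smul, det_one, mul_one, Fintype.card_fin]
        ring
      have key : ∀ x r : F4, r ≠ 0 → x * x = r * r * r → x = 1 := by decide
      have hd := key _ _ hr0 hdet
      apply hout (pr (mkSL A hd))
      rw [lift_cj_of_det hd]
      have : (std false false : MulAut SL3) = 1 := by simp [std]
      rw [this, map_one, mul_one]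
    · -- graph
      have hstd : (std false true : MulAut SL3) = itr := by simp [std]
      have e1 : std false true * cj A = cj (it A) * std false true := by
        rw [hstd]; exact itr_cj A
      rw [sq_eq A (it A) _ _ e1] at h2
      obtain ⟨r, hr0, hr⟩ := scalar_of_lift_cj h2
      have hA : (A : Mat) = r • (A : Mat)ᵀ := by
        rw [Units.val_mul, coe_it] at hr
        have h3 : (A : Mat) * ((A⁻¹ : GL (Fin 3) F4) : Mat)ᵀ * (A : Mat)ᵀ =
            (r • (1 : Mat)) * (A : Mat)ᵀ := by rw [hr]
        rw [mul_assoc, ← transpose_mul, ← Units.val_mul, mul_inv_cancel, Units.val_one,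
          transpose_one, mul_one, Matrix.smul_mul, one_mul] at h3
        exact h3
      have hr1 : r = 1 := by
        have h4 : (A : Mat) = (r * r) • (A : Mat) := by
          conv_lhs => rw [hA]
          conv_lhs => rw [hA, transpose_smul, transpose_transpose]
          rw [smul_smul]
        have h5 : (A : Mat).det = (r * r) ^ 3 * (A : Mat).det := by
          conv_lhs => rw [h4, det_smul, Fintype.card_fin]
        by_contra hne
        have h6 : ((r * r) - 1) • (A : Mat) = 0 := by
          rw [sub_smul, one_smul, ← h4, sub_self]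
        have key : ∀ r : F4, r ≠ 1 → r ≠ 0 → (r * r) - 1 ≠ 0 := by decide
        have h7 : (r * r) - 1 ≠ 0 := key r hne hr0
        have h8 : (A : Mat) = 0 := by
          rcases smul_eq_zero.1 h6 with h | h
          · exact absurd h h7
          · exact h
        exact gl_det_ne A (by rw [h8, det_zero])
      rw [hr1, one_smul] at hA
      obtain ⟨C, hC⟩ := exists_cong false (A : Mat) hA.symm (gl_det_ne A)
      rw [barM_false] at hC
      have hCu : IsUnit C.det := by
        rw [mul_assoc] at hC
        exact IsUnit.of_mul_eq_one _ (by rw [← det_mul, hC, det_one])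
      obtain ⟨B, hB⟩ : ∃ B : GL (Fin 3) F4, ((B⁻¹ : GL (Fin 3) F4) : Mat) = C := by
        obtain ⟨D, hD⟩ := (Matrix.isUnit_iff_isUnit_det C).2 hCu
        exact ⟨D⁻¹, by rw [inv_inv]; exact hD⟩
      refine ⟨lift (cj B), false, true, rfl, ?_⟩
      refine move A A B (it B) _ _ (by rw [hstd]; exact itr_cj B) ?_
      apply gl_ext
      rw [Units.val_mul, coe_it, hB]
      have h9 : ((B⁻¹ : GL (Fin 3) F4) : Mat) * ((A : Mat) * Cᵀ) = 1 := by
        rw [hB, ← mul_assoc]; exact hC
      have h10 : (B : Mat) * (((B⁻¹ : GL (Fin 3) F4) : Mat) * ((A : Mat) * Cᵀ)) = (B : Mat) := by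
        rw [h9, mul_one]
      rw [← mul_assoc, ← Units.val_mul, mul_inv_cancel, Units.val_one, one_mul] at h10
      exact h10
  · cases c
    · -- field
      have hstd : (std true false : MulAut SL3) = fld phi := by simp [std]
      have e1 : std true false * cj A = cj (gm phi A) * std true false := by
        rw [hstd]; exact fld_cj phi A
      rw [sq_eq A (gm phi A) _ _ e1] at h2
      obtain ⟨r, hr0, hr⟩ := scalar_of_lift_cj h2
      rw [Units.val_mul, coe_gm] at hr
      have hr1 : r = 1 := by
        have h3 : (A : Mat).map phi = r • ((A⁻¹ : GL (Fin 3) F4) : Mat) := by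
          have h4 : ((A⁻¹ : GL (Fin 3) F4) : Mat) * ((A : Mat) * (A : Mat).map phi) =
            ((A⁻¹ : GL (Fin 3) F4) : Mat) * (r • (1 : Mat)) := by rw [hr]
          rw [← mul_assoc, ← Units.val_mul, inv_mul_cancel, Units.val_one, one_mul,
            Matrix.mul_smul, mul_one] at h4
          exact h4
        have h5 : (A : Mat).map phi * (A : Mat) = r • (1 : Mat) := by
          rw [h3, Matrix.smul_mul, ← Units.val_mul, inv_mul_cancel, Units.val_one]
        have h6 : ((A : Mat) * (A : Mat).map phi).map phi = (A : Mat).map phi * (A : Mat) := by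
          rw [show (((A : Mat) * (A : Mat).map phi).map phi : Mat) =
            (A : Mat).map phi * ((A : Mat).map phi).map phi from
            Matrix.map_mul (f := (phi : F4 →+* F4))]
          congr 1
          ext i j
          change (phi * phi) ((A : Mat) i j) = _
          rw [phi_phi]; rfl
        rw [hr, h5] at h6
        have h7 := congrFun (congrFun h6 0) 0
        simp only [Matrix.map_apply, Matrix.smul_apply, Matrix.one_apply_eq, smul_eq_mul,
          mul_one] at h7
        have key : ∀ r : F4, r ≠ 0 → phi r = r → r = 1 := by decide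
        exact key r hr0 h7
      rw [hr1, one_smul] at hr
      obtain ⟨B, hBu, hB⟩ := hilbert _ hr
      obtain ⟨B', rfl⟩ := hBu
      refine ⟨lift (cj B'), true, false, rfl, ?_⟩
      refine move A A B' (gm phi B') _ _ (by rw [hstd]; exact fld_cj phi B') ?_
      apply gl_ext
      rw [Units.val_mul, coe_gm]
      exact hB
    · -- unitary
      have hstd : (std true true : MulAut SL3) = fld phi * itr := by simp [std]
      have hcom : ∀ A : GL (Fin 3) F4, std true true * cj A = cj (gm phi (it A)) * std true true := by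
        intro A
        rw [hstd, mul_assoc, itr_cj, ← mul_assoc, fld_cj, mul_assoc]
      rw [sq_eq A (gm phi (it A)) _ _ (hcom A)] at h2
      obtain ⟨r, hr0, hr⟩ := scalar_of_lift_cj h2
      have hA : (A : Mat) = r • ((A : Mat).map phi)ᵀ := by
        rw [Units.val_mul, coe_gm, coe_it] at hr
        have h3 : (A : Mat) * (((A⁻¹ : GL (Fin 3) F4) : Mat)ᵀ).map phi * ((A : Mat)ᵀ).map phi =
            (r • (1 : Mat)) * ((A : Mat)ᵀ).map phi := by rw [hr]
        have h4 : (((A⁻¹ : GL (Fin 3) F4) : Mat)ᵀ).map phi * ((A : Mat)ᵀ).map phi = 1 := by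
          rw [← show ((((A⁻¹ : GL (Fin 3) F4) : Mat)ᵀ * (A : Mat)ᵀ).map phi : Mat) =
            (((A⁻¹ : GL (Fin 3) F4) : Mat)ᵀ).map phi * ((A : Mat)ᵀ).map phi from
            Matrix.map_mul (f := (phi : F4 →+* F4)), ← transpose_mul, ← Units.val_mul,
            mul_inv_cancel, Units.val_one, transpose_one]
          ext i j
          rw [Matrix.map_apply, Matrix.one_apply]
          split_ifs <;> rfl
        rw [mul_assoc, h4, mul_one, Matrix.smul_mul, one_mul] at h3
        rw [transpose_map] at h3
        exact h3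
      -- the rescaled matrix is hermitian
      have hH : (barM true (r • (A : Mat)))ᵀ = r • (A : Mat) := by
        rw [barM_true]
        ext i j
        have h5 : (A : Mat) i j = r * phi ((A : Mat) j i) := by
          have := congrFun (congrFun hA i) j
          simpa [Matrix.smul_apply, Matrix.transpose_apply, Matrix.map_apply] using this
        rw [Matrix.transpose_apply, Matrix.map_apply, Matrix.smul_apply, Matrix.smul_apply,
          smul_eq_mul, smul_eq_mul, map_mul, h5]
        generalize phi ((A : Mat) j i) = u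
        revert hr0
        clear hA hr h5
        revert r u
        decide
      have hD : (r • (A : Mat)).det ≠ 0 := by
        rw [det_smul]
        exact mul_ne_zero (pow_ne_zero _ hr0) (gl_det_ne A)
      obtain ⟨C, hC⟩ := exists_cong true _ hH hD
      rw [barM_true] at hC
      have hCu : IsUnit C.det := by
        rw [mul_assoc] at hC
        exact IsUnit.of_mul_eq_one _ (by rw [← det_mul, hC, det_one])
      obtain ⟨B, hB⟩ : ∃ B : GL (Fin 3) F4, ((B⁻¹ : GL (Fin 3) F4) : Mat) = C := by
        obtain ⟨D, hD⟩ := (Matrix.isUnit_iff_isUnit_det C).2 hCu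
        exact ⟨D⁻¹, by rw [inv_inv]; exact hD⟩
      refine ⟨lift (cj B), true, true, rfl, ?_⟩
      -- replace `A` by its multiple
      obtain ⟨A₁, hA₁⟩ : ∃ A₁ : GL (Fin 3) F4, (A₁ : Mat) = r • (A : Mat) := by
        obtain ⟨D, hD'⟩ := (Matrix.isUnit_iff_isUnit_det (r • (A : Mat))).2 hD.isUnit
        exact ⟨D, hD'⟩
      have hcj : cj A = cj A₁ := (cj_eq_of_smul hr0 hA₁).symm
      rw [hcj]
      refine move A₁ A₁ B (gm phi (it B)) _ _ (hcom B) ?_
      apply gl_ext
      rw [Units.val_mul, coe_gm, coe_it, hB, hA₁]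
      have h9 : ((B⁻¹ : GL (Fin 3) F4) : Mat) * ((r • (A : Mat)) * (C.map phi)ᵀ) = 1 := by
        rw [hB, ← mul_assoc]; exact hC
      have h10 : (B : Mat) * (((B⁻¹ : GL (Fin 3) F4) : Mat) * ((r • (A : Mat)) * (C.map phi)ᵀ))
          = (B : Mat) := by
        rw [h9, mul_one]
      rw [← mul_assoc, ← Units.val_mul, mul_inv_cancel, Units.val_one, one_mul] at h10
      rw [← transpose_map] at h10
      exact h10

end Cfsg.Agent.StdL3.OuterClass
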