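import Cfsg.Agent.StdL3.OuterForm

/-!
# Coded matrices of degree three over the field with four elements, kernel checks

The orthogonal group of degree three (sixty elements, every element a commutator, a trivial
centralizer) and the unitary group of degree three over the field with four elements (normalises
the group of order nine generated by `diag(1, ω, ω²)` and the cyclic permutation modulo scalars).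
-/

set_option autoImplicit false
set_option linter.constructorNameAsVariable false
set_option linter.unusedVariables false

namespace Cfsg.Agent.StdL3.OuterCode

open Cfsg.Agent.SporadicA.FieldFour
open Cfsg.Agent.StdL3.OuterForm

/-- coded matrices -/
structure M : Type where
  r : V
  s : V
  t : V

/-- row times conjugate row -/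
def dotB (b : Bool) (u v : V) : F4 :=
  F4.add (F4.add (F4.mul u.x (bar b v.x)) (F4.mul u.y (bar b v.y))) (F4.mul u.z (bar b v.z))

def rowMul (u : V) (B : M) : V :=
  ⟨F4.add (F4.add (F4.mul u.x B.r.x) (F4.mul u.y B.s.x)) (F4.mul u.z B.t.x),
   F4.add (F4.add (F4.mul u.x B.r.y) (F4.mul u.y B.s.y)) (F4.mul u.z B.t.y),
   F4.add (F4.add (F4.mul u.x B.r.z) (F4.mul u.y B.s.z)) (F4.mul u.z B.t.z)⟩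

def mulM (A B : M) : M := ⟨rowMul A.r B, rowMul A.s B, rowMul A.t B⟩

def frcM {α : Type} (A : M) (k : M → α) : α :=
  frcV A.r fun r => frcV A.s fun s => frcV A.t fun t => k ⟨r, s, t⟩

theorem frcM_eq {α : Type} (A : M) (k : M → α) : frcM A k = k A := by
  rw [frcM, frcV_eq, frcV_eq, frcV_eq]

/-- conjugate transpose -/
def starM (b : Bool) (A : M) : M :=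
  ⟨⟨bar b A.r.x, bar b A.s.x, bar b A.t.x⟩, ⟨bar b A.r.y, bar b A.s.y, bar b A.t.y⟩,
   ⟨bar b A.r.z, bar b A.s.z, bar b A.t.z⟩⟩

def smM (c : F4) (A : M) : M := ⟨smV c A.r, smV c A.s, smV c A.t⟩

def idM : M := ⟨⟨.o, .z, .z⟩, ⟨.z, .o, .z⟩, ⟨.z, .z, .o⟩⟩

def eqF (a b : F4) : Bool :=
  match a, b with
  | .z, .z => true
  | .o, .o => true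
  | .w, .w => true
  | .v, .v => true
  | _, _ => false

theorem eqF_iff {a b : F4} (h : eqF a b = true) : a = b := by
  cases a <;> cases b <;> first | rfl | exact absurd h (by decide)

theorem eqF_self (a : F4) : eqF a a = true := by cases a <;> rfl

def eqV (u v : V) : Bool := eqF u.x v.x && (eqF u.y v.y && eqF u.z v.z)

theorem eqV_iff {u v : V} (h : eqV u v = true) : u = v := by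
  simp only [eqV, Bool.and_eq_true] at h
  obtain ⟨h1, h2, h3⟩ := h
  cases u; cases v
  simp only at h1 h2 h3
  rw [eqF_iff h1, eqF_iff h2, eqF_iff h3]

theorem eqV_self (u : V) : eqV u u = true := by
  simp [eqV, eqF_self]

def eqM (A B : M) : Bool := eqV A.r B.r && (eqV A.s B.s && eqV A.t B.t)

theorem eqM_iff {A B : M} (h : eqM A B = true) : A = B := by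
  simp only [eqM, Bool.and_eq_true] at h
  obtain ⟨h1, h2, h3⟩ := h
  cases A; cases B
  simp only at h1 h2 h3
  rw [eqV_iff h1, eqV_iff h2, eqV_iff h3]

theorem eqM_self (A : M) : eqM A A = true := by
  simp [eqM, eqV_self]

def allV (k : V → Bool) : Bool := allF fun x => allF fun y => allF fun z => k ⟨x, y, z⟩

theorem allV_iff {k : V → Bool} (h : allV k = true) (u : V) : k u = true := by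
  cases u with
  | mk x y z => exact allF_iff (allF_iff (allF_iff h x) y) z

/-- all coded matrices with orthonormal rows -/
def allT (b : Bool) (k : M → Bool) : Bool :=
  allV fun r => !(is1 (dotB b r r)) ||
    allV fun s => !(is1 (dotB b s s) && is0 (dotB b r s)) ||
      allV fun t => !(is1 (dotB b t t) && (is0 (dotB b r t) && is0 (dotB b s t))) || k ⟨r, s, t⟩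

theorem allT_iff {b : Bool} {k : M → Bool} (h : allT b k = true) {r s t : V}
    (hrr : dotB b r r = 1) (hss : dotB b s s = 1) (htt : dotB b t t = 1)
    (hrs : dotB b r s = 0) (hrt : dotB b r t = 0) (hst : dotB b s t = 0) :
    k ⟨r, s, t⟩ = true := by
  have e1 : ∀ x : F4, x = 1 → is1 x = true := by rintro x rfl; rfl
  have e0 : ∀ x : F4, x = 0 → is0 x = true := by rintro x rfl; rfl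
  have h1 := allV_iff h r
  rw [e1 _ hrr, Bool.not_true, Bool.false_or] at h1
  have h2 := allV_iff h1 s
  rw [e1 _ hss, e0 _ hrs, Bool.true_and, Bool.not_true, Bool.false_or] at h2
  have h3 := allV_iff h2 t
  rw [e1 _ htt, e0 _ hrt, e0 _ hst, Bool.true_and, Bool.true_and, Bool.not_true,
    Bool.false_or] at h3
  exact h3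

/-- every orthogonal matrix `X` with orthogonal `Y`, `Z` such that `X = [Y, Z]` -/
def tbl : List (M × M × M) :=
  [(⟨⟨.z, .z, .o⟩, ⟨.z, .o, .z⟩, ⟨.o, .z, .z⟩⟩, ⟨⟨.z, .w, .v⟩, ⟨.v, .o, .v⟩, ⟨.w, .w, .o⟩⟩, ⟨⟨.o, .v, .v⟩, ⟨.w, .o, .w⟩, ⟨.w, .v, .z⟩⟩),
   (⟨⟨.z, .z, .o⟩, ⟨.o, .z, .z⟩, ⟨.z, .o, .z⟩⟩, ⟨⟨.z, .z, .o⟩, ⟨.z, .o, .z⟩, ⟨.o, .z, .z⟩⟩, ⟨⟨.z, .z, .o⟩, ⟨.o, .z, .z⟩, ⟨.z, .o, .z⟩⟩),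
   (⟨⟨.z, .z, .o⟩, ⟨.w, .v, .z⟩, ⟨.v, .w, .z⟩⟩, ⟨⟨.z, .z, .o⟩, ⟨.z, .o, .z⟩, ⟨.o, .z, .z⟩⟩, ⟨⟨.z, .w, .v⟩, ⟨.w, .w, .o⟩, ⟨.v, .o, .v⟩⟩),
   (⟨⟨.z, .z, .o⟩, ⟨.v, .w, .z⟩, ⟨.w, .v, .z⟩⟩, ⟨⟨.z, .z, .o⟩, ⟨.z, .o, .z⟩, ⟨.o, .z, .z⟩⟩, ⟨⟨.z, .v, .w⟩, ⟨.v, .v, .o⟩, ⟨.w, .o, .w⟩⟩),
   (⟨⟨.z, .o, .z⟩, ⟨.z, .z, .o⟩, ⟨.o, .z, .z⟩⟩, ⟨⟨.z, .z, .o⟩, ⟨.z, .o, .z⟩, ⟨.o, .z, .z⟩⟩, ⟨⟨.z, .o, .z⟩, ⟨.z, .z, .o⟩, ⟨.o, .z, .z⟩⟩),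
   (⟨⟨.z, .o, .z⟩, ⟨.o, .z, .z⟩, ⟨.z, .z, .o⟩⟩, ⟨⟨.z, .w, .v⟩, ⟨.v, .o, .v⟩, ⟨.w, .w, .o⟩⟩, ⟨⟨.o, .w, .w⟩, ⟨.v, .z, .w⟩, ⟨.v, .v, .o⟩⟩),
   (⟨⟨.z, .o, .z⟩, ⟨.w, .z, .v⟩, ⟨.v, .z, .w⟩⟩, ⟨⟨.z, .o, .z⟩, ⟨.o, .z, .z⟩, ⟨.z, .z, .o⟩⟩, ⟨⟨.z, .w, .v⟩, ⟨.w, .w, .o⟩, ⟨.v, .o, .v⟩⟩),
   (⟨⟨.z, .o, .z⟩, ⟨.v, .z, .w⟩, ⟨.w, .z, .v⟩⟩, ⟨⟨.z, .o, .z⟩, ⟨.o, .z, .z⟩, ⟨.z, .z, .o⟩⟩, ⟨⟨.z, .v, .w⟩, ⟨.v, .v, .o⟩, ⟨.w, .o, .w⟩⟩),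
   (⟨⟨.z, .w, .v⟩, ⟨.z, .v, .w⟩, ⟨.o, .z, .z⟩⟩, ⟨⟨.z, .z, .o⟩, ⟨.z, .o, .z⟩, ⟨.o, .z, .z⟩⟩, ⟨⟨.v, .o, .v⟩, ⟨.z, .w, .v⟩, ⟨.w, .w, .o⟩⟩),
   (⟨⟨.z, .w, .v⟩, ⟨.o, .z, .z⟩, ⟨.z, .v, .w⟩⟩, ⟨⟨.z, .z, .o⟩, ⟨.v, .w, .z⟩, ⟨.w, .v, .z⟩⟩, ⟨⟨.o, .w, .w⟩, ⟨.v, .w, .z⟩, ⟨.v, .o, .v⟩⟩),
   (⟨⟨.z, .w, .v⟩, ⟨.w, .w, .o⟩, ⟨.v, .o, .v⟩⟩, ⟨⟨.z, .z, .o⟩, ⟨.o, .z, .z⟩, ⟨.z, .o, .z⟩⟩, ⟨⟨.o, .v, .v⟩, ⟨.w, .v, .z⟩, ⟨.w, .o, .w⟩⟩),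
   (⟨⟨.z, .w, .v⟩, ⟨.v, .o, .v⟩, ⟨.w, .w, .o⟩⟩, ⟨⟨.z, .z, .o⟩, ⟨.w, .v, .z⟩, ⟨.v, .w, .z⟩⟩, ⟨⟨.z, .z, .o⟩, ⟨.v, .w, .z⟩, ⟨.w, .v, .z⟩⟩),
   (⟨⟨.z, .v, .w⟩, ⟨.z, .w, .v⟩, ⟨.o, .z, .z⟩⟩, ⟨⟨.z, .z, .o⟩, ⟨.z, .o, .z⟩, ⟨.o, .z, .z⟩⟩, ⟨⟨.w, .o, .w⟩, ⟨.z, .v, .w⟩, ⟨.v, .v, .o⟩⟩),
   (⟨⟨.z, .v, .w⟩, ⟨.o, .z, .z⟩, ⟨.z, .w, .v⟩⟩, ⟨⟨.z, .z, .o⟩, ⟨.w, .v, .z⟩, ⟨.v, .w, .z⟩⟩, ⟨⟨.o, .v, .v⟩, ⟨.w, .v, .z⟩, ⟨.w, .o, .w⟩⟩),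
   (⟨⟨.z, .v, .w⟩, ⟨.w, .o, .w⟩, ⟨.v, .v, .o⟩⟩, ⟨⟨.z, .z, .o⟩, ⟨.v, .w, .z⟩, ⟨.w, .v, .z⟩⟩, ⟨⟨.z, .z, .o⟩, ⟨.w, .v, .z⟩, ⟨.v, .w, .z⟩⟩),
   (⟨⟨.z, .v, .w⟩, ⟨.v, .v, .o⟩, ⟨.w, .o, .w⟩⟩, ⟨⟨.z, .z, .o⟩, ⟨.o, .z, .z⟩, ⟨.z, .o, .z⟩⟩, ⟨⟨.o, .w, .w⟩, ⟨.v, .w, .z⟩, ⟨.v, .o, .v⟩⟩),
   (⟨⟨.o, .z, .z⟩, ⟨.z, .z, .o⟩, ⟨.z, .o, .z⟩⟩, ⟨⟨.o, .z, .z⟩, ⟨.z, .w, .v⟩, ⟨.z, .v, .w⟩⟩, ⟨⟨.o, .w, .w⟩, ⟨.v, .z, .w⟩, ⟨.v, .v, .o⟩⟩),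
   (⟨⟨.o, .z, .z⟩, ⟨.z, .o, .z⟩, ⟨.z, .z, .o⟩⟩, ⟨⟨.z, .z, .o⟩, ⟨.z, .o, .z⟩, ⟨.o, .z, .z⟩⟩, ⟨⟨.z, .z, .o⟩, ⟨.z, .o, .z⟩, ⟨.o, .z, .z⟩⟩),
   (⟨⟨.o, .z, .z⟩, ⟨.z, .w, .v⟩, ⟨.z, .v, .w⟩⟩, ⟨⟨.o, .z, .z⟩, ⟨.z, .z, .o⟩, ⟨.z, .o, .z⟩⟩, ⟨⟨.o, .v, .v⟩, ⟨.w, .z, .v⟩, ⟨.w, .w, .o⟩⟩),
   (⟨⟨.o, .z, .z⟩, ⟨.z, .v, .w⟩, ⟨.z, .w, .v⟩⟩, ⟨⟨.o, .z, .z⟩, ⟨.z, .z, .o⟩, ⟨.z, .o, .z⟩⟩, ⟨⟨.o, .w, .w⟩, ⟨.v, .z, .w⟩, ⟨.v, .v, .o⟩⟩),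
   (⟨⟨.o, .w, .w⟩, ⟨.v, .z, .w⟩, ⟨.v, .v, .o⟩⟩, ⟨⟨.z, .z, .o⟩, ⟨.z, .o, .z⟩, ⟨.o, .z, .z⟩⟩, ⟨⟨.z, .w, .v⟩, ⟨.o, .z, .z⟩, ⟨.z, .v, .w⟩⟩),
   (⟨⟨.o, .w, .w⟩, ⟨.v, .o, .v⟩, ⟨.v, .w, .z⟩⟩, ⟨⟨.z, .z, .o⟩, ⟨.v, .w, .z⟩, ⟨.w, .v, .z⟩⟩, ⟨⟨.o, .w, .w⟩, ⟨.v, .z, .w⟩, ⟨.v, .v, .o⟩⟩),
   (⟨⟨.o, .w, .w⟩, ⟨.v, .w, .z⟩, ⟨.v, .o, .v⟩⟩, ⟨⟨.z, .z, .o⟩, ⟨.o, .z, .z⟩, ⟨.z, .o, .z⟩⟩, ⟨⟨.o, .w, .w⟩, ⟨.v, .z, .w⟩, ⟨.v, .v, .o⟩⟩),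
   (⟨⟨.o, .w, .w⟩, ⟨.v, .v, .o⟩, ⟨.v, .z, .w⟩⟩, ⟨⟨.z, .z, .o⟩, ⟨.w, .v, .z⟩, ⟨.v, .w, .z⟩⟩, ⟨⟨.z, .o, .z⟩, ⟨.w, .z, .v⟩, ⟨.v, .z, .w⟩⟩),
   (⟨⟨.o, .v, .v⟩, ⟨.w, .z, .v⟩, ⟨.w, .w, .o⟩⟩, ⟨⟨.z, .z, .o⟩, ⟨.z, .o, .z⟩, ⟨.o, .z, .z⟩⟩, ⟨⟨.z, .v, .w⟩, ⟨.o, .z, .z⟩, ⟨.z, .w, .v⟩⟩),
   (⟨⟨.o, .v, .v⟩, ⟨.w, .o, .w⟩, ⟨.w, .v, .z⟩⟩, ⟨⟨.z, .z, .o⟩, ⟨.w, .v, .z⟩, ⟨.v, .w, .z⟩⟩, ⟨⟨.o, .v, .v⟩, ⟨.w, .z, .v⟩, ⟨.w, .w, .o⟩⟩),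
   (⟨⟨.o, .v, .v⟩, ⟨.w, .w, .o⟩, ⟨.w, .z, .v⟩⟩, ⟨⟨.z, .z, .o⟩, ⟨.v, .w, .z⟩, ⟨.w, .v, .z⟩⟩, ⟨⟨.z, .o, .z⟩, ⟨.v, .z, .w⟩, ⟨.w, .z, .v⟩⟩),
   (⟨⟨.o, .v, .v⟩, ⟨.w, .v, .z⟩, ⟨.w, .o, .w⟩⟩, ⟨⟨.z, .z, .o⟩, ⟨.o, .z, .z⟩, ⟨.z, .o, .z⟩⟩, ⟨⟨.o, .v, .v⟩, ⟨.w, .z, .v⟩, ⟨.w, .w, .o⟩⟩),
   (⟨⟨.w, .z, .v⟩, ⟨.z, .o, .z⟩, ⟨.v, .z, .w⟩⟩, ⟨⟨.z, .z, .o⟩, ⟨.z, .o, .z⟩, ⟨.o, .z, .z⟩⟩, ⟨⟨.z, .w, .v⟩, ⟨.v, .o, .v⟩, ⟨.w, .w, .o⟩⟩),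
   (⟨⟨.w, .z, .v⟩, ⟨.o, .v, .v⟩, ⟨.w, .w, .o⟩⟩, ⟨⟨.z, .z, .o⟩, ⟨.o, .z, .z⟩, ⟨.z, .o, .z⟩⟩, ⟨⟨.z, .w, .v⟩, ⟨.v, .o, .v⟩, ⟨.w, .w, .o⟩⟩),
   (⟨⟨.w, .z, .v⟩, ⟨.w, .w, .o⟩, ⟨.o, .v, .v⟩⟩, ⟨⟨.z, .z, .o⟩, ⟨.w, .v, .z⟩, ⟨.v, .w, .z⟩⟩, ⟨⟨.z, .z, .o⟩, ⟨.o, .z, .z⟩, ⟨.z, .o, .z⟩⟩),
   (⟨⟨.w, .z, .v⟩, ⟨.v, .z, .w⟩, ⟨.z, .o, .z⟩⟩, ⟨⟨.z, .z, .o⟩, ⟨.v, .w, .z⟩, ⟨.w, .v, .z⟩⟩, ⟨⟨.z, .o, .z⟩, ⟨.w, .z, .v⟩, ⟨.v, .z, .w⟩⟩),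
   (⟨⟨.w, .o, .w⟩, ⟨.z, .v, .w⟩, ⟨.v, .v, .o⟩⟩, ⟨⟨.z, .z, .o⟩, ⟨.w, .v, .z⟩, ⟨.v, .w, .z⟩⟩, ⟨⟨.o, .v, .v⟩, ⟨.w, .w, .o⟩, ⟨.w, .z, .v⟩⟩),
   (⟨⟨.w, .o, .w⟩, ⟨.o, .v, .v⟩, ⟨.w, .v, .z⟩⟩, ⟨⟨.z, .z, .o⟩, ⟨.o, .z, .z⟩, ⟨.z, .o, .z⟩⟩, ⟨⟨.z, .w, .v⟩, ⟨.w, .w, .o⟩, ⟨.v, .o, .v⟩⟩),
   (⟨⟨.w, .o, .w⟩, ⟨.w, .v, .z⟩, ⟨.o, .v, .v⟩⟩, ⟨⟨.z, .z, .o⟩, ⟨.v, .w, .z⟩, ⟨.w, .v, .z⟩⟩, ⟨⟨.o, .w, .w⟩, ⟨.v, .o, .v⟩, ⟨.v, .w, .z⟩⟩),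
   (⟨⟨.w, .o, .w⟩, ⟨.v, .v, .o⟩, ⟨.z, .v, .w⟩⟩, ⟨⟨.z, .z, .o⟩, ⟨.z, .o, .z⟩, ⟨.o, .z, .z⟩⟩, ⟨⟨.z, .z, .o⟩, ⟨.v, .w, .z⟩, ⟨.w, .v, .z⟩⟩),
   (⟨⟨.w, .w, .o⟩, ⟨.z, .w, .v⟩, ⟨.v, .o, .v⟩⟩, ⟨⟨.z, .z, .o⟩, ⟨.o, .z, .z⟩, ⟨.z, .o, .z⟩⟩, ⟨⟨.z, .z, .o⟩, ⟨.w, .v, .z⟩, ⟨.v, .w, .z⟩⟩),
   (⟨⟨.w, .w, .o⟩, ⟨.o, .v, .v⟩, ⟨.w, .z, .v⟩⟩, ⟨⟨.z, .z, .o⟩, ⟨.o, .z, .z⟩, ⟨.z, .o, .z⟩⟩, ⟨⟨.z, .w, .v⟩, ⟨.o, .z, .z⟩, ⟨.z, .v, .w⟩⟩),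
   (⟨⟨.w, .w, .o⟩, ⟨.w, .z, .v⟩, ⟨.o, .v, .v⟩⟩, ⟨⟨.z, .z, .o⟩, ⟨.o, .z, .z⟩, ⟨.z, .o, .z⟩⟩, ⟨⟨.o, .v, .v⟩, ⟨.w, .w, .o⟩, ⟨.w, .z, .v⟩⟩),
   (⟨⟨.w, .w, .o⟩, ⟨.v, .o, .v⟩, ⟨.z, .w, .v⟩⟩, ⟨⟨.z, .z, .o⟩, ⟨.o, .z, .z⟩, ⟨.z, .o, .z⟩⟩, ⟨⟨.o, .w, .w⟩, ⟨.v, .o, .v⟩, ⟨.v, .w, .z⟩⟩),
   (⟨⟨.w, .v, .z⟩, ⟨.z, .z, .o⟩, ⟨.v, .w, .z⟩⟩, ⟨⟨.z, .o, .z⟩, ⟨.w, .z, .v⟩, ⟨.v, .z, .w⟩⟩, ⟨⟨.z, .z, .o⟩, ⟨.v, .w, .z⟩, ⟨.w, .v, .z⟩⟩),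
   (⟨⟨.w, .v, .z⟩, ⟨.o, .v, .v⟩, ⟨.w, .o, .w⟩⟩, ⟨⟨.z, .z, .o⟩, ⟨.z, .o, .z⟩, ⟨.o, .z, .z⟩⟩, ⟨⟨.z, .v, .w⟩, ⟨.z, .w, .v⟩, ⟨.o, .z, .z⟩⟩),
   (⟨⟨.w, .v, .z⟩, ⟨.w, .o, .w⟩, ⟨.o, .v, .v⟩⟩, ⟨⟨.z, .o, .z⟩, ⟨.z, .z, .o⟩, ⟨.o, .z, .z⟩⟩, ⟨⟨.z, .v, .w⟩, ⟨.w, .o, .w⟩, ⟨.v, .v, .o⟩⟩),
   (⟨⟨.w, .v, .z⟩, ⟨.v, .w, .z⟩, ⟨.z, .z, .o⟩⟩, ⟨⟨.z, .o, .z⟩, ⟨.o, .z, .z⟩, ⟨.z, .z, .o⟩⟩, ⟨⟨.z, .v, .w⟩, ⟨.w, .o, .w⟩, ⟨.v, .v, .o⟩⟩),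
   (⟨⟨.v, .z, .w⟩, ⟨.z, .o, .z⟩, ⟨.w, .z, .v⟩⟩, ⟨⟨.z, .z, .o⟩, ⟨.z, .o, .z⟩, ⟨.o, .z, .z⟩⟩, ⟨⟨.z, .v, .w⟩, ⟨.w, .o, .w⟩, ⟨.v, .v, .o⟩⟩),
   (⟨⟨.v, .z, .w⟩, ⟨.o, .w, .w⟩, ⟨.v, .v, .o⟩⟩, ⟨⟨.z, .z, .o⟩, ⟨.o, .z, .z⟩, ⟨.z, .o, .z⟩⟩, ⟨⟨.z, .v, .w⟩, ⟨.w, .o, .w⟩, ⟨.v, .v, .o⟩⟩),
   (⟨⟨.v, .z, .w⟩, ⟨.w, .z, .v⟩, ⟨.z, .o, .z⟩⟩, ⟨⟨.z, .z, .o⟩, ⟨.w, .v, .z⟩, ⟨.v, .w, .z⟩⟩, ⟨⟨.z, .o, .z⟩, ⟨.v, .z, .w⟩, ⟨.w, .z, .v⟩⟩),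
   (⟨⟨.v, .z, .w⟩, ⟨.v, .v, .o⟩, ⟨.o, .w, .w⟩⟩, ⟨⟨.z, .z, .o⟩, ⟨.v, .w, .z⟩, ⟨.w, .v, .z⟩⟩, ⟨⟨.z, .z, .o⟩, ⟨.o, .z, .z⟩, ⟨.z, .o, .z⟩⟩),
   (⟨⟨.v, .o, .v⟩, ⟨.z, .w, .v⟩, ⟨.w, .w, .o⟩⟩, ⟨⟨.z, .z, .o⟩, ⟨.v, .w, .z⟩, ⟨.w, .v, .z⟩⟩, ⟨⟨.o, .w, .w⟩, ⟨.v, .v, .o⟩, ⟨.v, .z, .w⟩⟩),
   (⟨⟨.v, .o, .v⟩, ⟨.o, .w, .w⟩, ⟨.v, .w, .z⟩⟩, ⟨⟨.z, .z, .o⟩, ⟨.o, .z, .z⟩, ⟨.z, .o, .z⟩⟩, ⟨⟨.z, .v, .w⟩, ⟨.v, .v, .o⟩, ⟨.w, .o, .w⟩⟩),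
   (⟨⟨.v, .o, .v⟩, ⟨.w, .w, .o⟩, ⟨.z, .w, .v⟩⟩, ⟨⟨.z, .z, .o⟩, ⟨.z, .o, .z⟩, ⟨.o, .z, .z⟩⟩, ⟨⟨.z, .z, .o⟩, ⟨.w, .v, .z⟩, ⟨.v, .w, .z⟩⟩),
   (⟨⟨.v, .o, .v⟩, ⟨.v, .w, .z⟩, ⟨.o, .w, .w⟩⟩, ⟨⟨.z, .z, .o⟩, ⟨.w, .v, .z⟩, ⟨.v, .w, .z⟩⟩, ⟨⟨.o, .v, .v⟩, ⟨.w, .o, .w⟩, ⟨.w, .v, .z⟩⟩),
   (⟨⟨.v, .w, .z⟩, ⟨.z, .z, .o⟩, ⟨.w, .v, .z⟩⟩, ⟨⟨.z, .o, .z⟩, ⟨.v, .z, .w⟩, ⟨.w, .z, .v⟩⟩, ⟨⟨.z, .z, .o⟩, ⟨.w, .v, .z⟩, ⟨.v, .w, .z⟩⟩),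
   (⟨⟨.v, .w, .z⟩, ⟨.o, .w, .w⟩, ⟨.v, .o, .v⟩⟩, ⟨⟨.z, .z, .o⟩, ⟨.z, .o, .z⟩, ⟨.o, .z, .z⟩⟩, ⟨⟨.z, .w, .v⟩, ⟨.z, .v, .w⟩, ⟨.o, .z, .z⟩⟩),
   (⟨⟨.v, .w, .z⟩, ⟨.w, .v, .z⟩, ⟨.z, .z, .o⟩⟩, ⟨⟨.z, .o, .z⟩, ⟨.o, .z, .z⟩, ⟨.z, .z, .o⟩⟩, ⟨⟨.z, .w, .v⟩, ⟨.v, .o, .v⟩, ⟨.w, .w, .o⟩⟩),
   (⟨⟨.v, .w, .z⟩, ⟨.v, .o, .v⟩, ⟨.o, .w, .w⟩⟩, ⟨⟨.z, .o, .z⟩, ⟨.z, .z, .o⟩, ⟨.o, .z, .z⟩⟩, ⟨⟨.z, .w, .v⟩, ⟨.v, .o, .v⟩, ⟨.w, .w, .o⟩⟩),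
   (⟨⟨.v, .v, .o⟩, ⟨.z, .v, .w⟩, ⟨.w, .o, .w⟩⟩, ⟨⟨.z, .z, .o⟩, ⟨.o, .z, .z⟩, ⟨.z, .o, .z⟩⟩, ⟨⟨.z, .z, .o⟩, ⟨.v, .w, .z⟩, ⟨.w, .v, .z⟩⟩),
   (⟨⟨.v, .v, .o⟩, ⟨.o, .w, .w⟩, ⟨.v, .z, .w⟩⟩, ⟨⟨.z, .z, .o⟩, ⟨.o, .z, .z⟩, ⟨.z, .o, .z⟩⟩, ⟨⟨.z, .v, .w⟩, ⟨.o, .z, .z⟩, ⟨.z, .w, .v⟩⟩),
   (⟨⟨.v, .v, .o⟩, ⟨.w, .o, .w⟩, ⟨.z, .v, .w⟩⟩, ⟨⟨.z, .z, .o⟩, ⟨.o, .z, .z⟩, ⟨.z, .o, .z⟩⟩, ⟨⟨.o, .v, .v⟩, ⟨.w, .o, .w⟩, ⟨.w, .v, .z⟩⟩),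
   (⟨⟨.v, .v, .o⟩, ⟨.v, .z, .w⟩, ⟨.o, .w, .w⟩⟩, ⟨⟨.z, .z, .o⟩, ⟨.o, .z, .z⟩, ⟨.z, .o, .z⟩⟩, ⟨⟨.o, .w, .w⟩, ⟨.v, .v, .o⟩, ⟨.v, .z, .w⟩⟩)]

theorem tbl_complete : (allT false fun X => tbl.any fun p => eqM p.1 X) = true := by
  decide +kernel

def orthM (b : Bool) (X : M) : Bool := eqM (mulM X (starM b X)) idM

theorem tbl_comm : (tbl.all fun p => orthM false p.2.1 && (orthM false p.2.2 &&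
    eqM (mulM p.1 (mulM p.2.2 p.2.1)) (mulM p.2.1 p.2.2))) = true := by
  decide +kernel

theorem exists_comm {r s t : V}
    (hrr : dotB false r r = 1) (hss : dotB false s s = 1) (htt : dotB false t t = 1)
    (hrs : dotB false r s = 0) (hrt : dotB false r t = 0) (hst : dotB false s t = 0) :
    ∃ Y Z : M, mulM Y (starM false Y) = idM ∧ mulM Z (starM false Z) = idM ∧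
      mulM ⟨r, s, t⟩ (mulM Z Y) = mulM Y Z := by
  have h1 := allT_iff tbl_complete hrr hss htt hrs hrt hst
  obtain ⟨p, hp, hpX⟩ := List.any_eq_true.1 h1
  have h2 := List.all_eq_true.1 tbl_comm p hp
  simp only [Bool.and_eq_true] at h2
  obtain ⟨hY, hZ, hc⟩ := h2
  refine ⟨p.2.1, p.2.2, eqM_iff hY, eqM_iff hZ, ?_⟩
  rw [← eqM_iff hpX]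
  exact eqM_iff hc

/-- the cyclic permutation -/
def pM : M := ⟨⟨.z, .o, .z⟩, ⟨.z, .z, .o⟩, ⟨.o, .z, .z⟩⟩

/-- an orthogonal matrix -/
def gM : M := ⟨⟨.z, .z, .o⟩, ⟨.z, .o, .z⟩, ⟨.o, .z, .z⟩⟩

theorem gM_orth : mulM gM (starM false gM) = idM := rfl

theorem pM_orth : mulM pM (starM false pM) = idM := rfl

theorem centCheck : (allT false fun X => (allF fun c => allF fun c' =>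
    !(eqM (mulM X pM) (smM c (mulM pM X)) && eqM (mulM X gM) (smM c' (mulM gM X)))) ||
    eqM X idM) = true := by
  decide +kernel

/-- the matrices `H^i P^j` -/
def eM (i j : Fin 3) : M :=
  match i, j with
  | 0, 0 => ⟨⟨.o, .z, .z⟩, ⟨.z, .o, .z⟩, ⟨.z, .z, .o⟩⟩
  | 0, 1 => ⟨⟨.z, .o, .z⟩, ⟨.z, .z, .o⟩, ⟨.o, .z, .z⟩⟩
  | 0, 2 => ⟨⟨.z, .z, .o⟩, ⟨.o, .z, .z⟩, ⟨.z, .o, .z⟩⟩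
  | 1, 0 => ⟨⟨.o, .z, .z⟩, ⟨.z, .w, .z⟩, ⟨.z, .z, .v⟩⟩
  | 1, 1 => ⟨⟨.z, .o, .z⟩, ⟨.z, .z, .w⟩, ⟨.v, .z, .z⟩⟩
  | 1, 2 => ⟨⟨.z, .z, .o⟩, ⟨.w, .z, .z⟩, ⟨.z, .v, .z⟩⟩
  | 2, 0 => ⟨⟨.o, .z, .z⟩, ⟨.z, .v, .z⟩, ⟨.z, .z, .w⟩⟩
  | 2, 1 => ⟨⟨.z, .o, .z⟩, ⟨.z, .z, .v⟩, ⟨.w, .z, .z⟩⟩
  | 2, 2 => ⟨⟨.z, .z, .o⟩, ⟨.v, .z, .z⟩, ⟨.z, .w, .z⟩⟩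

def any3 (k : F4 → Bool) : Bool := k .o || (k .w || k .v)

theorem any3_iff {k : F4 → Bool} (h : any3 k = true) : ∃ c, c ≠ 0 ∧ k c = true := by
  simp only [any3, Bool.or_eq_true] at h
  rcases h with h | h | h
  · exact ⟨_, by decide, h⟩
  · exact ⟨_, by decide, h⟩
  · exact ⟨_, by decide, h⟩

def anyFin (k : Fin 3 → Bool) : Bool := k 0 || (k 1 || k 2)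

theorem anyFin_iff {k : Fin 3 → Bool} (h : anyFin k = true) : ∃ i, k i = true := by
  simp only [anyFin, Bool.or_eq_true] at h
  rcases h with h | h | h
  · exact ⟨_, h⟩
  · exact ⟨_, h⟩
  · exact ⟨_, h⟩

/-- membership in the group of order 27 -/
def inE (X : M) : Bool := any3 fun c => anyFin fun i => anyFin fun j => eqM X (smM c (eM i j))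

theorem inE_iff {X : M} (h : inE X = true) : ∃ c i j, c ≠ 0 ∧ X = smM c (eM i j) := by
  obtain ⟨c, hc, h1⟩ := any3_iff h
  obtain ⟨i, h2⟩ := anyFin_iff h1
  obtain ⟨j, h3⟩ := anyFin_iff h2
  exact ⟨c, i, j, hc, eqM_iff h3⟩

theorem normCheck : (allT true fun X =>
    (frcM (mulM (mulM X (eM 1 0)) (starM true X)) fun e => inE e) &&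
    (frcM (mulM (mulM X (eM 0 1)) (starM true X)) fun e => inE e)) = true := by
  decide +kernel

theorem centECheck : (allT true fun X => (allF fun c => allF fun c' =>
    !(eqM (mulM X (eM 1 0)) (smM c (mulM (eM 1 0) X)) &&
      eqM (mulM X (eM 0 1)) (smM c' (mulM (eM 0 1) X)))) || inE X) = true := by
  decide +kernel

/-- the nine matrices are different modulo scalars -/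
theorem eM_inj : ∀ (i j k l : Fin 3) (c : F4), eqM (eM i j) (smM c (eM k l)) = true →
    i = k ∧ j = l := by
  decide +kernel

end Cfsg.Agent.StdL3.OuterCode
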