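import Cfsg.Agent.StdL3.OuterClass
import Cfsg.Agent.StdL3.OuterCode
import Cfsg.Agent.ONType.PslCent

/-!
# The fixed points of the outer involutions of `PSL(3,4)`
-/

set_option autoImplicit false
set_option linter.constructorNameAsVariable false
set_option linter.unusedVariables false

namespace Cfsg.Agent.StdL3.OuterFix

open Matrix
open Cfsg.Agent.ClassicalGeometry.AutPSL.Root
open Cfsg.Agent.ClassicalGeometry.AutPSL.Auto
open Cfsg.Agent.SporadicA.FieldFour
open Cfsg.Agent.ONType.Psl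
open Cfsg.Agent.ONType.OuterL (T_eq t_eq mkSL)
open Cfsg.Agent.StdL3.OuterMat
open Cfsg.Agent.StdL3.OuterForm
open Cfsg.Agent.StdL3.OuterCode
open Cfsg.Agent.StdL3.OuterClass
open scoped commutatorElement

/-- the subgroup of fixed points -/
def Fix {L : Type*} [Group L] (y : MulAut L) : Subgroup L where
  carrier := {l | y l = l}
  one_mem' := map_one y
  mul_mem' := by
    intro a b ha hb
    change y (a * b) = a * b
    rw [map_mul, show y a = a from ha, show y b = b from hb]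
  inv_mem' := by
    intro a ha
    change y a⁻¹ = a⁻¹
    rw [map_inv, show y a = a from ha]

theorem mem_Fix {L : Type*} [Group L] {y : MulAut L} {l : L} : l ∈ Fix y ↔ y l = l := Iff.rfl

/-- The facts about an outer involution `y`. -/
structure Good {L : Type*} [Group L] (y : MulAut L) : Prop where
  /-- there is an involution `z` in the commutator subgroup of the group of fixed points such that
  `y z` is conjugate to `y` -/
  inv : ∃ z : L, z ≠ 1 ∧ z * z = 1 ∧ z ∈ ⁅Fix y, Fix y⁆ ∧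
    ∃ l : L, y * MulAut.conj z = MulAut.conj l * y * (MulAut.conj l)⁻¹
  /-- the group of fixed points is perfect with trivial centre, or it has a normal elementary
  abelian subgroup of order nine -/
  fix : (⁅Fix y, Fix y⁆ = Fix y ∧ ∀ l ∈ Fix y, (∀ b ∈ Fix y, l * b = b * l) → l = 1) ∨
    ∃ E : Subgroup L, E ≤ Fix y ∧ (∀ b ∈ Fix y, ∀ e ∈ E, b * e * b⁻¹ ∈ E) ∧ Nat.card E = 9 ∧
      (∀ e ∈ E, e ^ 3 = 1) ∧ (∀ e ∈ E, ∀ e' ∈ E, e * e' = e' * e) ∧
      (∀ E' : Subgroup L, E' ≤ E → (∀ b ∈ Fix y, ∀ e ∈ E', b * e * b⁻¹ ∈ E') →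
        E' = ⊥ ∨ E' = E) ∧
      (∀ l ∈ Fix y, (∀ e ∈ E, l * e = e * l) → l ∈ E)

theorem inv_aux {L : Type*} [Group L] {y : MulAut L} {z l : L} (hz : y z = z)
    (hl : l * (y l)⁻¹ = z) : y * MulAut.conj z = MulAut.conj l * y * (MulAut.conj l)⁻¹ := by
  have h1 : ∀ a : L, y * MulAut.conj a = MulAut.conj (y a) * y := by
    intro a
    ext x
    simp [MulAut.conj_apply]
  rw [h1, hz, ← hl, map_mul, map_inv, mul_assoc, mul_assoc]
  congr 1
  have h2 := h1 l
  rw [inv_mul_eq_iff_eq_mul, ← mul_assoc, ← h2, mul_inv_cancel_right]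

/-! ### Codes and matrices -/

/-- decoding -/
def toMat (A : M) : Mat := rowsM A.r A.s A.t

/-- coding -/
def ofMat (X : Mat) : M := ⟨row X 0, row X 1, row X 2⟩

theorem toMat_ofMat (X : Mat) : toMat (ofMat X) = X := rowsM_row X

theorem toMat_inj {A B : M} (h : toMat A = toMat B) : A = B := by
  have h0 := congrArg ofMat h
  exact h0

theorem toMat_mul (A B : M) : toMat (mulM A B) = toMat A * toMat B := by
  ext i j
  rw [Matrix.mul_apply, Fin.sum_univ_three]
  fin_cases i <;> fin_cases j <;> rfl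

theorem toMat_star (b : Bool) (A : M) : toMat (starM b A) = (barM b (toMat A))ᵀ := by
  ext i j
  fin_cases i <;> fin_cases j <;> rfl

theorem toMat_smM (c : F4) (A : M) : toMat (smM c A) = c • toMat A := by
  ext i j
  fin_cases i <;> fin_cases j <;> rfl

theorem toMat_id : toMat idM = 1 := by
  ext i j
  fin_cases i <;> fin_cases j <;> rfl

theorem dotB_eq (b : Bool) (X Y : Mat) (i j : Fin 3) :
    dotB b (row X i) (row Y j) = (X * (barM b Y)ᵀ) i j := by
  rw [Matrix.mul_apply, Fin.sum_univ_three]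
  rfl

theorem allT_mat {b : Bool} {k : M → Bool} (h : allT b k = true) (X : Mat)
    (hX : X * (barM b X)ᵀ = 1) : k (ofMat X) = true := by
  have e : ∀ i j, dotB b (row X i) (row X j) = if i = j then 1 else 0 := by
    intro i j
    rw [dotB_eq, hX, Matrix.one_apply]
  exact allT_iff h (e 0 0) (e 1 1) (e 2 2) (e 0 1) (e 0 2) (e 1 2)

/-! ### `SL(3,4)` and `PSL(3,4)` -/

theorem inv_val_of {X : SL3} {Y : Mat} (h : X.1 * Y = 1) : (X⁻¹ : SL3).1 = Y := by
  have h1 : (X⁻¹ : SL3).1 * X.1 = 1 := by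
    rw [← Matrix.SpecialLinearGroup.coe_mul, inv_mul_cancel, Matrix.SpecialLinearGroup.coe_one]
  calc (X⁻¹ : SL3).1 = (X⁻¹ : SL3).1 * (X.1 * Y) := by rw [h, mul_one]
    _ = Y := by rw [← mul_assoc, h1, one_mul]

theorem pr_mul_eq {X Y X' Y' : SL3} (c : F4) (h : X.1 * Y.1 = c • (X'.1 * Y'.1)) :
    (pr X * pr Y : PSL3) = pr X' * pr Y' := by
  rw [← map_mul, ← map_mul]
  exact (pr_eq_of_smul (c := c) h).symm

theorem exists_smul_mul {X Y X' Y' : SL3} (h : (pr X * pr Y : PSL3) = pr X' * pr Y') :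
    ∃ c : F4, X.1 * Y.1 = c • (X'.1 * Y'.1) := by
  rw [← map_mul, ← map_mul] at h
  obtain ⟨c, hc⟩ := exists_smul_of_pr_eq h.symm
  exact ⟨c, hc⟩

theorem mat_one_ne : (1 : Mat) ≠ 0 := by
  intro h
  have := congrFun (congrFun h 0) 0
  simp at this

theorem cube_eq_one {c : F4} (h : c ≠ 0) : c ^ 3 = 1 := by
  rw [pow_three]
  revert c
  decide

/-- rescaling a matrix of determinant one -/
theorem exists_scale (X : SL3) (c : F4) (hc : c ≠ 0) :
    ∃ X' : SL3, X'.1 = c • X.1 ∧ (pr X' : PSL3) = pr X := by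
  refine ⟨⟨c • X.1, ?_⟩, rfl, ?_⟩
  · rw [det_smul, X.2, Fintype.card_fin, mul_one, cube_eq_one hc]
  · exact (pr_eq_of_smul (x := X) (c := c) rfl).symm

theorem val_ne_zero (X : SL3) : X.1 ≠ 0 := by
  intro h
  have := X.2
  rw [h, det_zero] at this
  exact zero_ne_one this

/-! ### The graph involution -/

theorem lift_itr_pr (X : SL3) : lift itr (pr X) = pr (itr X : SL3) := rfl

theorem mem_fix_graph {X : SL3} (h : X.1 * X.1ᵀ = 1) : (pr X : PSL3) ∈ Fix (lift itr) := by
  rw [mem_Fix, lift_itr_pr]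
  congr 1
  apply Subtype.ext
  rw [coe_itr, inv_val_of h, transpose_transpose]

theorem exists_of_fix_graph {l : PSL3} (hl : l ∈ Fix (lift itr)) :
    ∃ X : SL3, pr X = l ∧ X.1 * X.1ᵀ = 1 := by
  obtain ⟨X, rfl⟩ := pr_surjective l
  rw [mem_Fix, lift_itr_pr] at hl
  obtain ⟨c, hc⟩ := exists_smul_of_pr_eq hl
  have hXX : X.1 * (X⁻¹ : SL3).1 = 1 := by
    rw [← Matrix.SpecialLinearGroup.coe_mul, mul_inv_cancel, Matrix.SpecialLinearGroup.coe_one]
  have h1 : X.1 * X.1ᵀ = c • 1 := by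
    have h2 : X.1 * X.1ᵀ = (c • ((X⁻¹ : SL3).1)ᵀ) * X.1ᵀ := by
      congr 1
    rw [h2, Matrix.smul_mul, ← transpose_mul, hXX, transpose_one]
  have hc0 : c ≠ 0 := by
    rintro rfl
    rw [zero_smul] at hc
    exact val_ne_zero X hc
  obtain ⟨X', hX', hpr⟩ := exists_scale X c hc0
  refine ⟨X', hpr, ?_⟩
  rw [hX', transpose_smul, Matrix.smul_mul, Matrix.mul_smul, h1, smul_smul, smul_smul,
    show c * c * c = c ^ 3 by rw [pow_three, mul_assoc], cube_eq_one hc0, one_smul]

/-- an orthogonal coded matrix as an element of `SL(3,4)` -/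
theorem exists_sl {Y : M} (h : mulM Y (starM false Y) = idM) :
    ∃ X : SL3, X.1 = toMat Y ∧ X.1 * X.1ᵀ = 1 := by
  have h1 : toMat Y * (toMat Y)ᵀ = 1 := by
    have := congrArg toMat h
    rw [toMat_mul, toMat_star, toMat_id, barM_false] at this
    exact this
  have h2 : (toMat Y).det * (toMat Y).det = 1 := by
    conv_lhs => rw [← det_transpose (toMat Y)]
    rw [det_transpose, ← det_transpose (toMat Y)]
    conv_lhs => rw [det_transpose]
    have := congrArg Matrix.det h1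
    rw [det_mul, det_transpose, det_one] at this
    exact this
  have key : ∀ x : F4, x * x = 1 → x = 1 := by decide
  exact ⟨⟨toMat Y, key _ h2⟩, rfl, h1⟩

theorem good_graph : Good (lift (itr : MulAut SL3)) := by
  have hperf : ⁅Fix (lift (itr : MulAut SL3)), Fix (lift (itr : MulAut SL3))⁆ =
      Fix (lift (itr : MulAut SL3)) := by
    apply le_antisymm
    · rw [Subgroup.commutator_le]
      intro a ha b hb
      exact Subgroup.mul_mem _ (Subgroup.mul_mem _ (Subgroup.mul_mem _ ha hb)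
        (Subgroup.inv_mem _ ha)) (Subgroup.inv_mem _ hb)
    · intro l hl
      obtain ⟨X, rfl, hX⟩ := exists_of_fix_graph hl
      have e : ∀ i j, dotB false (row X.1 i) (row X.1 j) = if i = j then 1 else 0 := by
        intro i j
        rw [dotB_eq, barM_false, hX, Matrix.one_apply]
      obtain ⟨Y, Z, hY, hZ, hc⟩ := exists_comm (e 0 0) (e 1 1) (e 2 2) (e 0 1) (e 0 2) (e 1 2)
      obtain ⟨Ys, hYs, hYo⟩ := exists_sl hY
      obtain ⟨Zs, hZs, hZo⟩ := exists_sl hZ
      have h1 : X * (Zs * Ys) = Ys * Zs := by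
        apply Subtype.ext
        change X.1 * (Zs.1 * Ys.1) = Ys.1 * Zs.1
        have := congrArg toMat hc
        rw [toMat_mul, toMat_mul, toMat_mul] at this
        rw [hYs, hZs, ← this]
        congr 1
        exact (rowsM_row X.1).symm
      have h2 : (pr X : PSL3) = ⁅(pr Ys : PSL3), pr Zs⁆ := by
        rw [← map_commutatorElement]
        congr 1
        rw [commutatorElement_def, eq_mul_inv_iff_mul_eq, eq_mul_inv_iff_mul_eq, mul_assoc]
        exact h1
      rw [h2]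
      exact Subgroup.commutator_mem_commutator (mem_fix_graph hYo) (mem_fix_graph hZo)
  have hP : ∃ X : SL3, X.1 = toMat pM ∧ X.1 * X.1ᵀ = 1 := exists_sl pM_orth
  have hG : ∃ X : SL3, X.1 = toMat gM ∧ X.1 * X.1ᵀ = 1 := exists_sl gM_orth
  refine ⟨?_, Or.inl ⟨hperf, ?_⟩⟩
  · -- the involution
    have hz : mulM (M.mk ⟨.z, .o, .z⟩ ⟨.o, .z, .z⟩ ⟨.z, .z, .o⟩)
      (starM false (M.mk ⟨.z, .o, .z⟩ ⟨.o, .z, .z⟩ ⟨.z, .z, .o⟩)) = idM := rfl
    obtain ⟨Z, hZ, hZo⟩ := exists_sl hz
    have hl : (toMat (M.mk ⟨.z, .o, .o⟩ ⟨.o, .z, .o⟩ ⟨.o, .o, .o⟩)).det = 1 := by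
      rw [Matrix.det_fin_three]; decide +kernel
    obtain ⟨S, hS⟩ : ∃ S : SL3, S.1 = toMat (M.mk ⟨.z, .o, .o⟩ ⟨.o, .z, .o⟩ ⟨.o, .o, .o⟩) :=
      ⟨⟨_, hl⟩, rfl⟩
    refine ⟨pr Z, ?_, ?_, ?_, pr S, ?_⟩
    · intro h
      rw [← map_one pr] at h
      obtain ⟨c, hc⟩ := exists_smul_of_pr_eq h
      rw [hZ] at hc
      have := congrFun (congrFun hc 0) 1
      change (0 : F4) = c * 1 at this
      rw [mul_one] at this
      rw [← this, zero_smul] at hc
      exact mat_one_ne hc
    · rw [← map_mul, ← map_one pr]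
      congr 1
      apply Subtype.ext
      change Z.1 * Z.1 = 1
      rw [hZ, ← toMat_mul, ← toMat_id]
      rfl
    · rw [hperf]
      exact mem_fix_graph hZo
    · apply inv_aux (mem_fix_graph hZo)
      rw [lift_itr_pr, ← map_inv, ← map_mul]
      congr 1
      apply Subtype.ext
      rw [← map_inv, Matrix.SpecialLinearGroup.coe_mul, coe_itr, inv_inv, hZ, hS]
      have h1 := toMat_star false (M.mk ⟨.z, .o, .o⟩ ⟨.o, .z, .o⟩ ⟨.o, .o, .o⟩)
      rw [barM_false] at h1
      rw [← h1, ← toMat_mul]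
      rfl
  · intro l hl hcomm
    obtain ⟨X, rfl, hX⟩ := exists_of_fix_graph hl
    obtain ⟨P, hP, hPo⟩ := hP
    obtain ⟨G, hG, hGo⟩ := hG
    obtain ⟨c, hc⟩ := exists_smul_mul (hcomm _ (mem_fix_graph hPo))
    obtain ⟨c', hc'⟩ := exists_smul_mul (hcomm _ (mem_fix_graph hGo))
    have h1 := allT_mat centCheck X.1 (by rw [barM_false]; exact hX)
    have h2 : eqM (mulM (ofMat X.1) pM) (smM c (mulM pM (ofMat X.1))) = true := by
      rw [toMat_inj (A := mulM (ofMat X.1) pM) (B := smM c (mulM pM (ofMat X.1)))]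
      · exact eqM_self _
      · rw [toMat_mul, toMat_smM, toMat_mul, toMat_ofMat, ← hP]
        exact hc
    have h3 : eqM (mulM (ofMat X.1) gM) (smM c' (mulM gM (ofMat X.1))) = true := by
      rw [toMat_inj (A := mulM (ofMat X.1) gM) (B := smM c' (mulM gM (ofMat X.1)))]
      · exact eqM_self _
      · rw [toMat_mul, toMat_smM, toMat_mul, toMat_ofMat, ← hG]
        exact hc'
    rcases Bool.or_eq_true_iff.1 h1 with h4 | h4
    · have h5 := allF_iff (allF_iff h4 c) c'
      rw [h2, h3] at h5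
      exact absurd h5 (by decide)
    · have h5 := eqM_iff h4
      rw [← map_one pr]
      congr 1
      apply Subtype.ext
      have h6 := congrArg toMat h5
      rw [toMat_ofMat, toMat_id] at h6
      exact h6

end Cfsg.Agent.StdL3.OuterFix
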