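import Cfsg.Agent.StdL3.OuterFix

/-!
# The fixed points of the field automorphism of `PSL(3,4)`
-/

set_option autoImplicit false
set_option linter.constructorNameAsVariable false
set_option linter.unusedVariables false

namespace Cfsg.Agent.StdL3.OuterFixF

open Matrix
open Cfsg.Agent.ClassicalGeometry.AutPSL.Root
open Cfsg.Agent.ClassicalGeometry.AutPSL.Auto
open Cfsg.Agent.SporadicA.FieldFour
open Cfsg.Agent.ONType.Psl
open Cfsg.Agent.ONType.OuterL
open Cfsg.Agent.ONType.PslCard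
open Cfsg.Agent.ONType.PslCent
open Cfsg.Agent.StdL3.OuterMat
open Cfsg.Agent.StdL3.OuterFix
open scoped commutatorElement

theorem lift_fld_pr (X : SL3) : lift (fld phi) (pr X) = pr (fld phi X : SL3) := rfl

theorem mem_fix_t (i j : Fin 3) (hij : i ≠ j) : t i j 1 ∈ Fix (lift (fld phi : MulAut SL3)) := by
  rw [mem_Fix]
  change lift (fld phi) (pr (T i j 1)) = pr (T i j 1)
  rw [lift_pr, fld_T _ _ _ hij, map_one]

theorem exists_of_fix_field {l : PSL3} (hl : l ∈ Fix (lift (fld phi : MulAut SL3))) :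
    ∃ X : SL3, pr X = l ∧ ∀ i j, X.1 i j = 0 ∨ X.1 i j = 1 := by
  obtain ⟨X, rfl⟩ := pr_surjective l
  rw [mem_Fix, lift_fld_pr] at hl
  obtain ⟨c, hc⟩ := exists_smul_of_pr_eq hl
  have hc0 : c ≠ 0 := by
    rintro rfl
    rw [zero_smul] at hc
    exact val_ne_zero X hc
  obtain ⟨X', hX', hpr⟩ := exists_scale X c hc0
  refine ⟨X', hpr, ?_⟩
  intro i j
  rw [hX', Matrix.smul_apply, smul_eq_mul]
  have h1 : X.1 i j = c * phi (X.1 i j) := by
    conv_lhs => rw [hc]
    rfl
  have key : ∀ c x : F4, c ≠ 0 → x = c * phi x → c * x = 0 ∨ c * x = 1 := by decide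
  exact key _ _ hc0 h1

instance fact2 : Fact (Nat.Prime 2) := ⟨Nat.prime_two⟩

/-- the embedding of the prime field -/
def emb : ZMod 2 →+* F4 := ZMod.castHom (dvd_refl 2) F4

theorem emb_inj : Function.Injective emb := RingHom.injective emb

theorem exists_sl2 {X : SL3} (hX : ∀ i j, X.1 i j = 0 ∨ X.1 i j = 1) :
    ∃ X₂ : Matrix.SpecialLinearGroup (Fin 3) (ZMod 2),
      Matrix.SpecialLinearGroup.map emb X₂ = X := by
  let A : Matrix (Fin 3) (Fin 3) (ZMod 2) := fun i j => if X.1 i j = 0 then 0 else 1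
  have hA : A.map emb = X.1 := by
    ext i j
    change emb (if X.1 i j = 0 then 0 else 1) = X.1 i j
    rcases hX i j with h | h
    · rw [h, if_pos rfl, map_zero]
    · rw [h, if_neg one_ne_zero, map_one]
  have hd : A.det = 1 := by
    apply emb_inj
    rw [map_one, RingHom.map_det]
    change (A.map emb).det = 1
    rw [hA]
    exact X.2
  refine ⟨⟨A, hd⟩, ?_⟩
  apply Subtype.ext
  exact hA

theorem map_transv (i j : Fin 3) (hij : i ≠ j) (c : ZMod 2) :
    Matrix.SpecialLinearGroup.map emb (Matrix.SpecialLinearGroup.transvection hij c) =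
      T i j (emb c) := by
  rw [← T_eq i j hij]
  apply Subtype.ext
  ext r s
  change emb (((1 : Matrix (Fin 3) (Fin 3) (ZMod 2)) + single i j c) r s) =
    ((1 : Mat) + single i j (emb c)) r s
  rw [Matrix.add_apply, Matrix.add_apply, map_add, one_apply, one_apply, single_apply,
    single_apply]
  split_ifs <;> simp

theorem t_mem_comm (i j k : Fin 3) (h1 : i ≠ j) (h2 : i ≠ k) (h3 : j ≠ k) :
    t i j 1 ∈ ⁅Fix (lift (fld phi : MulAut SL3)), Fix (lift (fld phi : MulAut SL3))⁆ := by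
  have h := t_sum i j k 1 1 h1 h2 h3
  rw [mul_one] at h
  have h4 : t i j 1 = ⁅(t i k 1)⁻¹, (t k j 1)⁻¹⁆ := by
    rw [commutatorElement_def, inv_inv, inv_inv, mul_assoc, mul_assoc, h]
    group
  rw [h4]
  exact Subgroup.commutator_mem_commutator (Subgroup.inv_mem _ (mem_fix_t i k h2))
    (Subgroup.inv_mem _ (mem_fix_t k j h3.symm))

theorem perfect : ⁅Fix (lift (fld phi : MulAut SL3)), Fix (lift (fld phi : MulAut SL3))⁆ =
    Fix (lift (fld phi : MulAut SL3)) := by
  apply le_antisymm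
  · rw [Subgroup.commutator_le]
    intro a ha b hb
    exact Subgroup.mul_mem _ (Subgroup.mul_mem _ (Subgroup.mul_mem _ ha hb)
      (Subgroup.inv_mem _ ha)) (Subgroup.inv_mem _ hb)
  · intro l hl
    obtain ⟨X, rfl, hX⟩ := exists_of_fix_field hl
    obtain ⟨X₂, rfl⟩ := exists_sl2 hX
    clear hX hl
    refine Cfsg.Agent.LieClassical.SLGen.transvection_induction
      (fun x => (pr (Matrix.SpecialLinearGroup.map emb x) : PSL3) ∈
        ⁅Fix (lift (fld phi : MulAut SL3)), Fix (lift (fld phi : MulAut SL3))⁆)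
      (fun i j hij c => ?_) (fun A B hA hB => ?_) X₂
    · rw [map_transv i j hij]
      have hc : c = 0 ∨ c = 1 := by revert c; decide
      rcases hc with rfl | rfl
      · rw [map_zero, T_zero, map_one]
        exact Subgroup.one_mem _
      · rw [map_one]
        obtain ⟨k, h2, h3⟩ : ∃ k, i ≠ k ∧ j ≠ k := by revert i j; decide
        exact t_mem_comm i j k hij h2 h3
    · rw [map_mul, map_mul]
      exact Subgroup.mul_mem _ hA hB

theorem t_sq (i j : Fin 3) (h : i ≠ j) (u : F4) : t i j u * t i j u = 1 := by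
  rw [t_add i j u u h, show u + u = 0 from CharTwo.add_self_eq_zero u, t_zero]

theorem t_inv (i j : Fin 3) (h : i ≠ j) (u : F4) : (t i j u)⁻¹ = t i j u :=
  inv_eq_of_mul_eq_one_left (t_sq i j h u)

theorem t_ne_one {c : F4} (h : t 0 2 c = 1) : c = 0 := by
  have h1 : t 0 1 0 * t 1 2 0 * t 0 2 c = t 0 1 0 * t 1 2 0 * t 0 2 0 := by
    rw [h, t_zero, t_zero, t_zero]
  exact (t_inj h1).2.2

theorem center (l : PSL3) (hc : ∀ i j : Fin 3, i ≠ j → l * t i j 1 = t i j 1 * l) : l = 1 := by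
  obtain ⟨a, b, c, rfl⟩ := cent_t l (hc 0 2 (by decide))
  have c1 : ∀ u v w : F4, t 0 1 u * t 0 2 v = t 0 2 v * t 0 1 u := fun u v w =>
    t_row 0 1 2 u v (by decide) (by decide)
  have c2 : ∀ u v : F4, t 0 2 u * t 1 2 v = t 1 2 v * t 0 2 u := fun u v =>
    t_col 0 2 1 u v (by decide) (by decide)
  have c3 : ∀ u v : F4, t 0 1 u * t 1 2 v = t 1 2 v * t 0 1 u * t 0 2 (u * v) := fun u v =>
    t_sum 0 2 1 u v (by decide) (by decide) (by decide)
  have c3' : ∀ u v : F4, t 1 2 v * t 0 1 u = t 0 1 u * t 1 2 v * t 0 2 (u * v) := by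
    intro u v
    rw [c3, mul_assoc _ (t 0 2 _) (t 0 2 _), t_sq 0 2 (by decide), mul_one]
  -- commuting with `t 0 1 1`
  have hb : b = 0 := by
    have h1 := hc 0 1 (by decide)
    have e1 : t 0 1 a * t 1 2 b * t 0 2 c * t 0 1 1 = t 0 1 (a + 1) * t 1 2 b * t 0 2 (b + c) := by
      calc t 0 1 a * t 1 2 b * t 0 2 c * t 0 1 1
          = t 0 1 a * t 1 2 b * (t 0 2 c * t 0 1 1) := by rw [mul_assoc]
        _ = t 0 1 a * (t 1 2 b * t 0 1 1) * t 0 2 c := by
            rw [← c1 1 c 0]; simp only [mul_assoc]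
        _ = t 0 1 a * (t 0 1 1 * t 1 2 b * t 0 2 (1 * b)) * t 0 2 c := by rw [c3']
        _ = (t 0 1 a * t 0 1 1) * t 1 2 b * (t 0 2 (1 * b) * t 0 2 c) := by
            simp only [mul_assoc]
        _ = t 0 1 (a + 1) * t 1 2 b * t 0 2 (b + c) := by
            rw [t_add 0 1 _ _ (by decide), t_add 0 2 _ _ (by decide), one_mul]
    have e2 : t 0 1 1 * (t 0 1 a * t 1 2 b * t 0 2 c) = t 0 1 (1 + a) * t 1 2 b * t 0 2 c := by
      rw [← mul_assoc, ← mul_assoc, t_add 0 1 _ _ (by decide)]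
    rw [e1, e2] at h1
    have h2 := (t_inj h1).2.2
    exact add_eq_right.1 h2
  subst hb
  have ha : a = 0 := by
    have h1 := hc 1 2 (by decide)
    have e1 : t 0 1 a * t 1 2 0 * t 0 2 c * t 1 2 1 = t 0 1 a * t 1 2 1 * t 0 2 c := by
      rw [t_zero, mul_one, mul_assoc, c2, mul_assoc]
    have e2 : t 1 2 1 * (t 0 1 a * t 1 2 0 * t 0 2 c) = t 0 1 a * t 1 2 1 * t 0 2 (a + c) := by
      rw [t_zero, mul_one, ← mul_assoc, c3', mul_assoc, t_add 0 2 _ _ (by decide), mul_one]
    rw [e1, e2] at h1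
    have h2 := (t_inj h1).2.2
    exact add_eq_right.1 h2.symm
  subst ha
  have hc0 : c = 0 := by
    have h1 := hc 2 1 (by decide)
    rw [t_zero, t_zero, one_mul, one_mul] at h1
    have h2 := t_sum 0 1 2 c 1 (by decide) (by decide) (by decide)
    rw [h1, mul_one] at h2
    have h3 : t 0 1 c = 1 := by
      have := h2
      rw [left_eq_mul] at this
      exact this
    have h4 : t 0 1 c * t 1 2 0 * t 0 2 0 = t 0 1 0 * t 1 2 0 * t 0 2 0 := by
      rw [h3, t_zero, t_zero, t_zero]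
    exact (t_inj h4).1
  subst hc0
  rw [t_zero, t_zero, t_zero, mul_one, mul_one]

theorem good_field : Good (lift (fld phi : MulAut SL3)) := by
  refine ⟨?_, Or.inl ⟨perfect, ?_⟩⟩
  · refine ⟨t 0 2 1, ?_, t_sq 0 2 (by decide) 1, ?_, t 0 2 F4.w, ?_⟩
    · intro h
      exact absurd (t_ne_one h) (by decide)
    · exact t_mem_comm 0 2 1 (by decide) (by decide) (by decide)
    · apply inv_aux (mem_fix_t 0 2 (by decide))
      have h1 : lift (fld phi) (t 0 2 F4.w) = t 0 2 F4.v := by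
        change lift (fld phi) (pr (T 0 2 F4.w)) = pr (T 0 2 F4.v)
        rw [lift_pr, fld_T _ _ _ (by decide)]
        rfl
      rw [h1, t_inv 0 2 (by decide), t_add 0 2 _ _ (by decide)]
      rfl
  · intro l hl hcomm
    exact center l (fun i j hij => hcomm _ (mem_fix_t i j hij))

end Cfsg.Agent.StdL3.OuterFixF
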